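import Cfsg.Prelude.Def_ChevF4
import Cfsg.Prelude.Def_LieChev
import Cfsg.Agent.Lib.Schur.FFourTwo.Data
import Cfsg.Agent.Lib.Schur.TailsMat

/-!
# F₄(2) acting on the vectors of its adjoint module, packed as numbers
-/

set_option autoImplicit false
set_option maxRecDepth 100000

namespace CfsgLib.Schur.FFourTwo

open Cfsg.Lie CfsgLib.Sporadic.OutCert Matrix CfsgLib.Schur.Tails
open scoped Matrix

/-- The entry of a root element at parameter one, as an integer, at numbered coordinates. -/
def xN (r a b : ℕ) : ℤ :=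
  if b < 4 then
    (if a < 4 then (if a = b then 1 else 0)
     else if a - 4 = r then -((chevF4.cartanSR.getD b #[]).getD r 0) else 0)
  else if b - 4 = r then (if a < 4 then 0 else if a - 4 = r then 1 else 0)
  else if b - 4 = chevF4.negIdx.getD r 0 then
    (if a < 4 then (chevF4.coroot.getD r #[]).getD a 0
     else if a - 4 = b - 4 then 1 else if a - 4 = r then -1 else 0)
  else if a < 4 then 0
  else (if a - 4 = b - 4 then 1 else 0) + ((chevF4.chainCoeff r (b - 4) (a - 4)).map Prod.snd).sum

/-- The place of a coordinate. -/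
def lin : chevF4.Idx → ℕ
  | Sum.inl i => i.val
  | Sum.inr r => 4 + r.val

theorem lin_lt (i : chevF4.Idx) : lin i < 52 := by
  rcases i with i | r
  · have : i.val < 4 := i.2
    simp [lin]; omega
  · have : r.val < 48 := r.2
    simp [lin]; omega

theorem lin_injective : Function.Injective lin := by
  rintro (i | r) (j | s) h <;> simp only [lin] at h
  · rw [Fin.ext h]
  · have : i.val < 4 := i.2
    omega
  · have : j.val < 4 := j.2
    omega
  · rw [Fin.ext (show r.val = s.val by omega)]

/-- The coordinates as numbers. -/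
noncomputable def linEquiv : chevF4.Idx ≃ Fin 52 :=
  Equiv.ofBijective (fun i => ⟨lin i, lin_lt i⟩)
    ((Fintype.bijective_iff_injective_and_card _).2
      ⟨fun _ _ h => lin_injective (congrArg Fin.val h),
        by rw [Fintype.card_sum, Fintype.card_fin, Fintype.card_fin, Fintype.card_fin]; rfl⟩)

variable {F : Type*} [Field F]

theorem xMat_one (r : Fin chevF4.nroots) (i j : chevF4.Idx) :
    chevF4.xMat F r 1 i j = ((xN r.val (lin i) (lin j) : ℤ) : F) := by
  have h4 : ∀ k : Fin chevF4.rank, k.val < 4 := fun k => k.2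
  rcases i with i | u <;> rcases j with j | s <;>
    simp [ChevalleyDatum.xMat, xN, lin, h4, Fin.ext_iff, List.map_map, Function.comp_def] <;>
    split_ifs <;> simp_all [List.map_map, Function.comp_def]

/-- A column of the identity, no chain starting at its root. -/
def trivCol (r b col : ℕ) : Bool :=
  Nat.ble 4 b && (!(Nat.beq (b - 4) r) && (!(Nat.beq (b - 4) (chevF4.negIdx.getD r 0)) &&
    (((chevF4.chain.getD r #[]).toList.filter (fun e => e.1 = b - 4)).isEmpty && Nat.beq col (2 ^ b))))

theorem xN_of_trivCol {r a b col : ℕ} (h : trivCol r b col = true) :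
    xN r a b % 2 = if Nat.testBit col a then 1 else 0 := by
  simp only [trivCol, Bool.and_eq_true, Bool.not_eq_true', Nat.ble_eq, Nat.beq_eq,
    List.isEmpty_iff] at h
  obtain ⟨hb, h1, h2, h3, rfl⟩ := h
  have h1' : b - 4 ≠ r := fun e => by simp [e] at h1
  have h2' : b - 4 ≠ chevF4.negIdx.getD r 0 := fun e => by simp [e] at h2
  have hc : chevF4.chainCoeff r (b - 4) (a - 4) = [] := by
    rw [ChevalleyDatum.chainCoeff, h3]; rfl
  rw [xN, if_neg (by omega), if_neg h1', if_neg h2', hc]
  by_cases ha : a < 4
  · rw [if_pos ha, Nat.testBit_two_pow_of_ne (by omega)]; rfl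
  · rw [if_neg ha]
    by_cases e : a - 4 = b - 4
    · rw [if_pos e, show a = b by omega, Nat.testBit_two_pow_self]; rfl
    · rw [if_neg e, Nat.testBit_two_pow_of_ne (by omega)]; rfl

/-- The checked fact about the listed root elements. -/
def baseOK : Bool :=
  (List.range 28).all fun k => (List.range 52).all fun b =>
    trivCol (baseRoots.getD k 0) b (lk 52 (slpTab.getD k 0) b) ||
      (List.range 52).all fun a =>
        decide (xN (baseRoots.getD k 0) a b % 2 = if Nat.testBit (lk 52 (slpTab.getD k 0) b) a then 1 else 0)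

variable [Fintype F] (hF : Fintype.card F = 2)

include hF in
theorem two_eq_zero : (2 : F) = 0 := by
  have := Nat.cast_card_eq_zero F
  rwa [hF, Nat.cast_two] at this

include hF in
theorem intCast_eq (z : ℤ) : (z : F) = if z % 2 = 1 then 1 else 0 := by
  conv_lhs => rw [← Int.emod_add_mul_ediv z 2]
  rcases Int.emod_two_eq_zero_or_one z with h | h <;> simp [h, two_eq_zero hF]

/-- The vector with the bits of a number as coordinates. -/
def dec (x : ℕ) : chevF4.Idx → F := fun i => if Nat.testBit x (lin i) then 1 else 0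

include hF in
theorem dec_xor (a b : ℕ) : (dec (a ^^^ b) : chevF4.Idx → F) = dec a + dec b := by
  funext i
  simp only [dec, Pi.add_apply, Nat.testBit_xor]
  cases Nat.testBit a (lin i) <;> cases Nat.testBit b (lin i) <;> simp [one_add_one_eq_two, two_eq_zero hF]

/-- Numbers and vectors. -/
noncomputable def decEquiv : Fin (2 ^ 52) ≃ (chevF4.Idx → F) :=
  Equiv.ofBijective (fun x => dec x.val) ((Fintype.bijective_iff_injective_and_card _).2
    ⟨fun x y h => Fin.ext <| Nat.eq_of_testBit_eq fun k => by
      by_cases hk : k < 52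
      · have hi := congrFun h (linEquiv.symm ⟨k, hk⟩)
        have hl : lin (linEquiv.symm ⟨k, hk⟩) = k := congrArg Fin.val (linEquiv.apply_symm_apply ⟨k, hk⟩)
        simp only [dec, hl] at hi
        cases hx : Nat.testBit x.val k <;> cases hy : Nat.testBit y.val k <;> simp [hx, hy] at hi ⊢
      · rw [Nat.testBit_lt_two_pow, Nat.testBit_lt_two_pow] <;>
          exact lt_of_lt_of_le (Fin.is_lt _) (Nat.pow_le_pow_right (by norm_num) (by omega)),
    by rw [Fintype.card_fin, Fintype.card_fun, hF, Fintype.card_sum, Fintype.card_fin, Fintype.card_fin]; rfl⟩)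

/-- The action on packed vectors. -/
noncomputable def psi : ↥(chevF4.group F) →* Equiv.Perm (Fin (2 ^ 52)) where
  toFun g :=
    { toFun := fun x => (decEquiv hF).symm (((g : GL chevF4.Idx F) : Matrix _ _ F) *ᵥ decEquiv hF x)
      invFun := fun x => (decEquiv hF).symm (((g⁻¹ : GL chevF4.Idx F) : Matrix _ _ F) *ᵥ decEquiv hF x)
      left_inv := fun x => by simp [Matrix.mulVec_mulVec]
      right_inv := fun x => by simp [Matrix.mulVec_mulVec] }
  map_one' := by ext x; simp
  map_mul' g h := by ext x; simp [Matrix.mulVec_mulVec]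

theorem psi_injective : Function.Injective (psi hF) := by
  intro g h e
  refine Subtype.ext (Units.ext (Matrix.ext_of_mulVec_single fun j => ?_))
  have := congrArg (fun p : Equiv.Perm (Fin (2 ^ 52)) => decEquiv hF (p ((decEquiv hF).symm (Pi.single j 1)))) e
  simpa [psi] using this

include hF in
theorem dec_mappTo (c x : ℕ) : ∀ k, (dec (Mat.mappTo 52 c x k) : chevF4.Idx → F) =
    ∑ t ∈ Finset.range k, if Nat.testBit x t then dec (lk 52 c t) else 0
  | 0 => by funext i; simp [Mat.mappTo, dec]
  | k + 1 => by
    show dec ((cond (Nat.testBit x k) (lk 52 c k) 0) ^^^ Mat.mappTo 52 c x k) = _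
    rw [dec_xor hF, dec_mappTo c x k, Finset.sum_range_succ, add_comm]
    cases Nat.testBit x k <;> simp [dec, funext_iff]

/-- A matrix with the given columns acts as the packed matrix. -/
theorem rep_of_entries {c : ℕ} (g : ↥(chevF4.group F))
    (h : ∀ i j, ((g : GL chevF4.Idx F) : Matrix _ _ F) i j =
      if Nat.testBit (lk 52 c (lin j)) (lin i) then 1 else 0) :
    Mat.RepM 52 c (psi hF g) := by
  intro x
  have key : (dec (Mat.mapp 52 c x) : chevF4.Idx → F) = ((g : GL chevF4.Idx F) : Matrix _ _ F) *ᵥ dec x := by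
    rw [Mat.mapp, dec_mappTo hF]
    funext i
    rw [Finset.sum_apply, Finset.sum_range, ← linEquiv.sum_comp, Matrix.mulVec, dotProduct]
    refine Finset.sum_congr rfl fun j _ => ?_
    show (if Nat.testBit x.val (lin j) then dec (lk 52 c (lin j)) else (0 : chevF4.Idx → F)) i = _
    rw [h i j]
    simp only [dec]
    cases Nat.testBit x.val (lin j) <;> simp [dec]
  have hd : ((psi hF g x : Fin (2 ^ 52)) : ℕ) = ((decEquiv hF).symm
      (((g : GL chevF4.Idx F) : Matrix _ _ F) *ᵥ dec x) : ℕ) := rfl
  rw [hd, ← key]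
  exact (congrArg Fin.val ((decEquiv hF).symm_apply_apply ⟨Mat.mapp 52 c x, Mat.mapp_lt c x⟩)).symm

end CfsgLib.Schur.FFourTwo
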