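import Cfsg.Agent.Lib.Schur.FFourTwo.Digits
import Cfsg.Agent.Lib.Schur.TailsMat

/-!
# A fast product of matrices of degree 52 over the field with two elements

The columns of the left factor are multiplied by the rows of the right one, all columns at a time.
-/

set_option autoImplicit false
set_option exponentiation.threshold 3000

namespace CfsgLib.Schur.FFourTwo.Fast

open CfsgLib.Sporadic.OutCert CfsgLib.Schur.Tails CfsgLib.Schur.FFourTwo.Cov

/-- The first digit of each column is set. -/
def m1 : ℕ := ((List.range 52).map fun j => 2 ^ (52 * j)).sum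

/-- The sum of the first `k` outer products, the mask being a parameter. -/
noncomputable def accTo (M c d k : ℕ) : ℕ :=
  Nat.rec 0 (fun i ih => Nat.xor (Nat.mul (lk 52 c i) (Nat.land (Nat.shiftRight d i) M)) ih) k

/-- The mask as a number. -/
def mLit : ℕ := 0x1000000000000100000000000010000000000001000000000000100000000000010000000000001000000000000100000000000010000000000001000000000000100000000000010000000000001000000000000100000000000010000000000001000000000000100000000000010000000000001000000000000100000000000010000000000001000000000000100000000000010000000000001000000000000100000000000010000000000001000000000000100000000000010000000000001000000000000100000000000010000000000001000000000000100000000000010000000000001000000000000100000000000010000000000001000000000000100000000000010000000000001000000000000100000000000010000000000001000000000000100000000000010000000000001000000000000100000000000010000000000001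

/-- The product. -/
noncomputable def mmulF (c d : ℕ) : ℕ := accTo mLit c d 52

theorem mLit_eq : mLit = pkd 52 (fun _ => 1) 52 := by decide +kernel

theorem pk_eq (f : ℕ → ℕ) (n : ℕ) : pk 52 ((List.range n).map f) = pkd 52 f n := by
  induction n generalizing f with
  | zero => rfl
  | succ n ih =>
    rw [List.range_succ_eq_map, List.map_cons, List.map_map, pkd_eq_sum, Finset.sum_range_succ']
    show f 0 + 2 ^ 52 * pk 52 ((List.range n).map (f ∘ Nat.succ)) = _
    rw [ih, pkd_eq_sum, Finset.mul_sum, add_comm, mul_zero, pow_zero, mul_one]
    refine congrArg (· + f 0) (Finset.sum_congr rfl fun i _ => ?_)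
    rw [Function.comp_apply, Nat.mul_succ, pow_add]
    ring

theorem testBit_pkd_out {f : ℕ → ℕ} (hf : ∀ i < 52, f i < 2 ^ 52) {p : ℕ} (hp : ¬ p / 52 < 52) :
    Nat.testBit (pkd 52 f 52) p = false :=
  Nat.testBit_lt_two_pow (lt_of_lt_of_le (pkd_lt hf) (Nat.pow_le_pow_right (by norm_num) (by omega)))

theorem accTo_eq (c d : ℕ) : ∀ k ≤ 52,
    accTo mLit c d k = pkd 52 (fun j => Mat.mappTo 52 c (lk 52 d j) k) 52
  | 0, _ => by simp [accTo, Mat.mappTo, pkd_eq_sum]
  | k + 1, hk => by
    show (lk 52 c k * ((d >>> k) &&& mLit)) ^^^ accTo mLit c d k = _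
    rw [accTo_eq c d k (by omega)]
    have hrow : (d >>> k) &&& mLit = pkd 52 (fun j => (Nat.testBit (lk 52 d j) k).toNat) 52 := by
      rw [mLit_eq]
      refine Nat.eq_of_testBit_eq fun p => ?_
      have hb : ∀ i < 52, (Nat.testBit (lk 52 d i) k).toNat < 2 ^ 52 := fun i _ =>
        lt_of_le_of_lt (Bool.toNat_le _) (by norm_num)
      rw [Nat.testBit_and]
      by_cases hp : p / 52 < 52
      · rw [show p = 52 * (p / 52) + p % 52 by omega,
          testBit_pkd (fun _ _ => by norm_num) hp (Nat.mod_lt _ (by norm_num)),
          testBit_pkd hb hp (Nat.mod_lt _ (by norm_num)), Nat.testBit_shiftRight]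
        by_cases h0 : p % 52 = 0
        · have e : Nat.testBit (lk 52 d (p / 52)) k = Nat.testBit d (52 * (p / 52) + k) := by
            show Nat.testBit (d >>> (52 * (p / 52)) % 2 ^ 52) k = _
            rw [Nat.testBit_mod_two_pow, Nat.testBit_shiftRight, decide_eq_true (show k < 52 by omega), Bool.true_and]
          rw [h0, e, add_zero, add_comm k]
          cases Nat.testBit d (52 * (p / 52) + k) <;> simp
        · have h1 : Nat.testBit 1 (p % 52) = false :=
            Nat.testBit_lt_two_pow (lt_of_lt_of_le (show 1 < 2 by norm_num)
              (le_of_eq_of_le (pow_one 2).symm (Nat.pow_le_pow_right (by norm_num) (by omega))))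
          rw [h1, Bool.and_false]
          cases Nat.testBit (lk 52 d (p / 52)) k <;> simp [h1]
      · rw [testBit_pkd_out (fun _ _ => by norm_num) hp, testBit_pkd_out hb hp, Bool.and_false]
    have hmul : lk 52 c k * ((d >>> k) &&& mLit) =
        pkd 52 (fun j => cond (Nat.testBit (lk 52 d j) k) (lk 52 c k) 0) 52 := by
      rw [hrow, pkd_eq_sum, pkd_eq_sum, Finset.mul_sum]
      refine Finset.sum_congr rfl fun j _ => ?_
      cases Nat.testBit (lk 52 d j) k <;> simp
    have h1 : ∀ i < 52, cond (Nat.testBit (lk 52 d i) k) (lk 52 c k) 0 < 2 ^ 52 := fun i _ => by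
      cases Nat.testBit (lk 52 d i) k
      · exact Nat.two_pow_pos 52
      · exact Mat.lk_lt _ _
    have h2 : ∀ i < 52, Mat.mappTo 52 c (lk 52 d i) k < 2 ^ 52 := fun i _ => Mat.mappTo_lt _ _ _
    have h3 : ∀ i < 52, Mat.mappTo 52 c (lk 52 d i) (k + 1) < 2 ^ 52 := fun i _ => Mat.mappTo_lt _ _ _
    rw [hmul]
    refine Nat.eq_of_testBit_eq fun p => ?_
    rw [Nat.testBit_xor]
    by_cases hp : p / 52 < 52
    · rw [show p = 52 * (p / 52) + p % 52 by omega, testBit_pkd h1 hp (Nat.mod_lt _ (by norm_num)),
        testBit_pkd h2 hp (Nat.mod_lt _ (by norm_num)), testBit_pkd h3 hp (Nat.mod_lt _ (by norm_num)),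
        ← Nat.testBit_xor]
      rfl
    · rw [testBit_pkd_out h1 hp, testBit_pkd_out h2 hp, testBit_pkd_out h3 hp]
      rfl

theorem mmulF_eq (c d : ℕ) : mmulF c d = Mat.mmul 52 c d := by
  rw [mmulF, accTo_eq c d 52 le_rfl, Mat.mmul, pkF_range, pk_eq]
  simp only [Mat.mapp]

/-- The identity as a number. -/
def oneLit : ℕ := 0x8000000000000400000000000020000000000001000000000000080000000000004000000000000200000000000010000000000000800000000000040000000000002000000000000100000000000008000000000000400000000000020000000000001000000000000080000000000004000000000000200000000000010000000000000800000000000040000000000002000000000000100000000000008000000000000400000000000020000000000001000000000000080000000000004000000000000200000000000010000000000000800000000000040000000000002000000000000100000000000008000000000000400000000000020000000000001000000000000080000000000004000000000000200000000000010000000000000800000000000040000000000002000000000000100000000000008000000000000400000000000020000000000001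

theorem oneLit_eq : Mat.oneM 52 = oneLit := by decide +kernel

/-- The product of a word in listed matrices. -/
noncomputable def prodF (kk : List ℕ) (l : List ℕ) : ℕ :=
  l.foldr (fun i acc => mmulF (kk.getD i oneLit) acc) oneLit

theorem prodF_eq (kk l : List ℕ) : prodF kk l = Mat.prodM 52 kk l := by
  unfold prodF Mat.prodM
  rw [oneLit_eq]
  induction l with
  | nil => simp only [List.foldr_nil]
  | cons i l ih => simp only [List.foldr_cons, mmulF_eq, ih]

/-- The rules hold. -/
noncomputable def relF (kk : List ℕ) (rules : List Rule) : Bool :=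
  rules.all fun R => prodF kk R.1 == prodF kk R.2

theorem relM_of_relF {kk : List ℕ} {D : Cert} (h : relF kk D.rules = true) : Mat.relM 52 kk D = true := by
  simpa only [relF, Mat.relM, prodF_eq] using h

/-- The fusions hold. -/
noncomputable def fusF (kk gk : List ℕ) (fus : List Fus) : Bool :=
  (List.range fus.length).all fun j =>
    let F := fus.getD j ⟨[], [], []⟩
    (List.range F.us.length).all fun s =>
      mmulF (gk.getD j oneLit) (prodF kk (F.us.getD s [])) ==
        mmulF (prodF kk (F.vs.getD s [])) (gk.getD j oneLit)

theorem fusM_of_fusF {kk gk : List ℕ} {D : Cert} (h : fusF kk gk D.fus = true) :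
    Mat.fusM 52 kk gk D = true := by
  simpa only [fusF, Mat.fusM, prodF_eq, mmulF_eq, oneLit_eq] using h

/-- Every entry after the first `nb` is the product of earlier entries. -/
noncomputable def slpF (nb : ℕ) (tab : List ℕ) (ws : List (List ℕ)) : Bool :=
  decide (tab.length = nb + ws.length) && (List.range ws.length).all fun i =>
    Cert.lettersIn (ws.getD i []) 0 (nb + i) && tab.getD (nb + i) oneLit == prodF tab (ws.getD i [])

theorem slpM_of_slpF {nb : ℕ} {tab : List ℕ} {ws : List (List ℕ)} (h : slpF nb tab ws = true) :
    Mat.slpM 52 nb tab ws = true := by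
  simpa only [slpF, Mat.slpM, prodF_eq, oneLit_eq] using h

/-- A chain of orbits. -/
noncomputable def chainF (kk : List ℕ) : List (ℕ × List (List ℕ) × List (ℕ × ℕ × ℕ)) → Bool
  | [] => true
  | L :: r => Nat.blt L.1 (2 ^ 52) && (Mat.orbM 52 (L.2.1.map (prodF kk)) L.2.2 [L.1] &&
      ((r.all fun M => M.2.1.all fun g => Nat.beq (Mat.mapp 52 (prodF kk g) L.1) L.1) && chainF kk r))

theorem chainF_eq (kk : List ℕ) : ∀ lv, chainF kk lv = Mat.chainM 52 kk lv
  | [] => rfl
  | L :: r => by simp only [chainF, Mat.chainM, chainF_eq kk r, funext fun g => prodF_eq kk g]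

end CfsgLib.Schur.FFourTwo.Fast
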