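import Cfsg.Agent.Lib.Schur.FFourTwo.Data
import Cfsg.Agent.Lib.Schur.FFourTwo.FastMat

/-!
Kernel checks of the data for the 2-part of the multiplier of F₄(2).
-/

set_option autoImplicit false
set_option maxRecDepth 100000
set_option maxHeartbeats 0

namespace CfsgLib.Schur.FFourTwo

open CfsgLib.Schur.Tails

theorem slp_fast : Fast.slpF 28 slpTab slpW = true := by decide +kernel

theorem slp_ok : Mat.slpM 52 28 slpTab slpW = true := Fast.slpM_of_slpF slp_fast

theorem pick_ok : Mat.pickM 52 slpTab ids kk = true ∧ Mat.pickM 52 slpTab gids gk = true := by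
  simp only [Mat.pickM, Fast.oneLit_eq]
  decide +kernel

theorem rels_fast : Fast.relF kk rules = true ∧ Fast.fusF kk gk [fus_0, fus_1, fus_2, fus_3] = true := by
  decide +kernel

theorem rels_ok : Mat.relM 52 kk cert = true ∧ Mat.fusM 52 kk gk cert = true :=
  ⟨Fast.relM_of_relF rels_fast.1, Fast.fusM_of_fusF rels_fast.2⟩

theorem lev_fast : Fast.chainF kk lev = true ∧ Fast.chainF kk levin = true := by decide +kernel

theorem lev_size : (lev.all fun L => L.2.1.all fun g => Cert.lettersIn g 0 cert.r) = true ∧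
    (levin.all fun L => L.2.1.all fun g => Cert.lettersIn g cert.a cert.r) = true ∧
    2 ^ 24 ≤ (lev.map fun L => L.2.2.length + 1).prod ∧ 2 ^ 19 ≤ (levin.map fun L => L.2.2.length + 1).prod := by
  decide +kernel

theorem chain_ok : Mat.chainOK 52 kk lev 0 cert.r (2 ^ 24) = true ∧
    Mat.chainOK 52 kk levin cert.a cert.r (2 ^ 19) = true := by
  obtain ⟨h1, h2, h3, h4⟩ := lev_size
  constructor
  · rw [Mat.chainOK, ← Fast.chainF_eq, lev_fast.1, h1, Bool.true_and, Bool.true_and]
    exact decide_eq_true h3
  · rw [Mat.chainOK, ← Fast.chainF_eq, lev_fast.2, h2, Bool.true_and, Bool.true_and]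
    exact decide_eq_true h4

theorem cert_eqs : Dense.eqsOK cert dense = true := by decide +kernel

theorem cert_comb : Dense.combOK cert dense = true := by decide +kernel

theorem cert_shape : cert.shapeOK = true ∧ cert.p = 2 ∧ cert.r = 24 ∧ cert.r - cert.a = 19 ∧
    dense.b = 2 ∧ dense.q = 2 ^ 24 := by decide +kernel

end CfsgLib.Schur.FFourTwo
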