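import Cfsg.Agent.Lib.Schur.FFourTwo.Bridge

/-!
The listed matrices are the root elements.
-/

set_option autoImplicit false
set_option maxRecDepth 100000
set_option maxHeartbeats 0

namespace CfsgLib.Schur.FFourTwo

theorem base_ok : baseOK = true ∧ baseRoots.all (fun r => decide (r < 48)) = true ∧ baseRoots.length = 28 := by
  decide +kernel

end CfsgLib.Schur.FFourTwo
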