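import Cfsg.Agent.Lib.Schur.FFourTwo.CoverCheck
import Cfsg.Agent.Lib.KnownA.SteinbergMultiplier
import Cfsg.Agent.Lib.Chevalley.TablesSt
import Cfsg.Prelude.Def_KGroupFacts

/-!
# The double cover of F₄(2)

The presented group maps to the matrices of degree 52 over the field with five elements modulo `±1`, and the pairs of
compatible elements form a central extension by a group of order two lying in the commutator subgroup.
-/

set_option autoImplicit false
set_option maxRecDepth 100000

namespace CfsgLib.Schur.FFourTwo.Cov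

open Cfsg.Lie Matrix
open scoped commutatorElement

theorem prodG_nil : prodG [] = idN := rfl

theorem prodG_cons (i : ℕ) (l : List ℕ) : prodG (i :: l) = mulG (gens.getD i []) (prodG l) := rfl

attribute [local irreducible] prodG gens rowsN mulG

/-- The invertible matrices. -/
abbrev U : Type := (Matrix (Fin 52) (Fin 52) (ZMod 5))ˣ

/-- A listed matrix. -/
def A (i : ℕ) : Matrix (Fin 52) (Fin 52) (ZMod 5) := gmat (gens.getD i [])

theorem mat_prodG {l : List ℕ} (h : ∀ i ∈ l, i < 49) : mat (prodG l) = (l.map A).prod :=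
  (prodG_spec base_ok.1 base_ok.2.1 l (by rw [base_ok.2.2]; exact h)).2

theorem A_neg : A 48 = -1 := by
  ext i k
  have h := Nat.eq_of_beq_eq_true
    (List.all_eq_true.1 (List.all_eq_true.1 neg_ok i.val (List.mem_range.2 i.2)) k.val (List.mem_range.2 k.2))
  rw [A, gmat, Matrix.of_apply, h, Matrix.neg_apply, Matrix.one_apply]
  by_cases e : i = k
  · subst e; simp; decide
  · simp [e, Fin.val_ne_of_ne e]

theorem A_sq {r : ℕ} (hr : r < 48) : A r * A r = 1 := by
  have h := congrArg mat (Nat.eq_of_beq_eq_true (List.all_eq_true.1 sq_ok r (List.mem_range.2 hr)))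
  rw [mat_prodG (by simp; omega), mat_prodG (by simp)] at h
  simpa using h

/-- A root element of the cover. -/
def uR (r : ℕ) : U :=
  if hr : r < 48 then ⟨A r, A r, A_sq hr, A_sq hr⟩ else 1

theorem uR_inv (r : ℕ) : (uR r)⁻¹ = uR r := by
  unfold uR
  split_ifs
  · exact Units.ext rfl
  · exact inv_one

theorem val_uR {r : ℕ} (hr : r < 48) : (uR r : Matrix (Fin 52) (Fin 52) (ZMod 5)) = A r := by
  rw [uR, dif_pos hr]

theorem val_prod_uR : ∀ {l : List ℕ}, (∀ i ∈ l, i < 48) →
    (((l.map uR).prod : U) : Matrix (Fin 52) (Fin 52) (ZMod 5)) = mat (prodG l)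
  | [], _ => by rw [mat_prodG (by simp)]; simp
  | i :: l, h => by
    rw [mat_prodG fun j hj => Nat.lt_succ_of_lt (h j hj), List.map_cons, List.prod_cons, Units.val_mul,
      val_uR (h i List.mem_cons_self), val_prod_uR fun j hj => h j (List.mem_cons_of_mem _ hj),
      mat_prodG fun j hj => Nat.lt_succ_of_lt (h j (List.mem_cons_of_mem _ hj)), List.map_cons, List.prod_cons]

/-- Plus and minus one. -/
def pm : Subgroup U where
  carrier := {u | u = 1 ∨ u = -1}
  one_mem' := Or.inl rfl
  mul_mem' := by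
    rintro a b (rfl | rfl) (rfl | rfl)
    · exact Or.inl (one_mul 1)
    · exact Or.inr (one_mul _)
    · exact Or.inr (mul_one _)
    · exact Or.inl ((neg_mul_neg 1 1).trans (one_mul 1))
  inv_mem' := by
    rintro a (rfl | rfl)
    · exact Or.inl inv_one
    · exact Or.inr (inv_eq_of_mul_eq_one_right ((neg_mul_neg 1 1).trans (one_mul 1)))

theorem pm_le_center : pm ≤ Subgroup.center U := by
  rintro u (rfl | rfl)
  · exact one_mem _
  · exact Subgroup.mem_center_iff.2 fun g => by rw [mul_neg, neg_mul, mul_one, one_mul]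

instance pm_normal : pm.Normal := ⟨fun a ha g => by
  rw [Subgroup.mem_center_iff.mp (pm_le_center ha) g, mul_inv_cancel_right]; exact ha⟩

/-- A root element modulo sign. -/
def yR (r : ℕ) : U ⧸ pm := QuotientGroup.mk (uR r)

theorem mk_prod_uR (l : List ℕ) : (QuotientGroup.mk (l.map uR).prod : U ⧸ pm) = (l.map yR).prod := by
  rw [← QuotientGroup.mk'_apply, map_list_prod, List.map_map]
  rfl

theorem yR_inv (r : ℕ) : (yR r)⁻¹ = yR r := by rw [yR, ← QuotientGroup.mk_inv, uR_inv]

theorem prodH_eq : ∀ {l : List ℕ}, (∀ i ∈ l, i < 49) → prodH l = prodG l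
  | [], _ => by simp [prodH, prodG_nil]
  | [i], h => by
    rw [prodH]
    exact Nat.eq_of_beq_eq_true (List.all_eq_true.1 rows_ok i (List.mem_range.2 (h i List.mem_cons_self)))
  | i :: j :: l, h => by
    rw [prodH, prodH_eq fun x hx => h x (List.mem_cons_of_mem _ hx)]
    · exact (prodG_cons i (j :: l)).symm
    · exact List.cons_ne_nil _ _

theorem eq_of_eqS {u v : List ℕ} (hu : ∀ i ∈ u, i < 48) (hv : ∀ i ∈ v, i < 48) (h : eqS u v = true) :
    (u.map yR).prod = (v.map yR).prod := by
  rw [← mk_prod_uR, ← mk_prod_uR, QuotientGroup.eq]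
  rw [eqS, Bool.or_eq_true, prodH_eq fun i hi => Nat.lt_succ_of_lt (hu i hi),
    prodH_eq fun i hi => Nat.lt_succ_of_lt (hv i hi), prodH_eq (l := 48 :: v) (by
      rintro i hi
      rcases List.mem_cons.1 hi with rfl | hi
      exacts [by omega, Nat.lt_succ_of_lt (hv i hi)])] at h
  rcases h with h | h
  · left
    rw [inv_mul_eq_one]
    exact Units.ext (by rw [val_prod_uR hu, val_prod_uR hv, Nat.eq_of_beq_eq_true h])
  · right
    have e : (u.map uR).prod = -(v.map uR).prod := Units.ext (by
      rw [Units.val_neg, val_prod_uR hu, val_prod_uR hv, Nat.eq_of_beq_eq_true h,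
        mat_prodG (by rintro i hi; rcases List.mem_cons.1 hi with rfl | hi; exacts [by omega, Nat.lt_succ_of_lt (hv i hi)]),
        List.map_cons, List.prod_cons, A_neg, ← mat_prodG fun i hi => Nat.lt_succ_of_lt (hv i hi), neg_one_mul])
    rw [e, inv_mul_eq_iff_eq_mul, neg_mul_neg, mul_one]

theorem rel_ok {r s : ℕ} (hr : r < 48) (hs : s < 48) : relOK r s = true := by
  obtain ⟨q, k, hk, rfl⟩ : ∃ q k, k < 8 ∧ r = 8 * q + k := ⟨r / 8, r % 8, Nat.mod_lt _ (by norm_num), by omega⟩
  have key : ∀ a, ((List.range 8).all fun r => (List.range 48).all (relOK (a + r))) = true → relOK (a + k) s = true :=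
    fun a h => List.all_eq_true.1 (List.all_eq_true.1 h k (List.mem_range.2 hk)) s (List.mem_range.2 hs)
  rcases (show q = 0 ∨ q = 1 ∨ q = 2 ∨ q = 3 ∨ q = 4 ∨ q = 5 by omega) with rfl | rfl | rfl | rfl | rfl | rfl
  · exact key 0 rel_ok0
  · exact key 8 rel_ok1
  · exact key 16 rel_ok2
  · exact key 24 rel_ok3
  · exact key 32 rel_ok4
  · exact key 40 rel_ok5

variable {F : Type*} [Field F] [Fintype F] (hF : Fintype.card F = 2)

include hF in
theorem eq_zero_or_one (t : F) : t = 0 ∨ t = 1 := by
  classical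
  by_contra h
  push Not at h
  have := Finset.card_le_univ ({0, 1, t} : Finset F)
  rw [Finset.card_insert_of_notMem (by simp [h.1.symm]), Finset.card_pair h.2.symm, hF] at this
  omega

include hF in
theorem neg_one_eq : (-1 : F) = 1 := (eq_zero_or_one hF (-1)).resolve_left (neg_ne_zero.2 one_ne_zero)

include hF in
theorem intCast_cases (z : ℤ) : (z : F) = if z % 2 = 1 then 1 else 0 := by
  have h2 : (2 : F) = 0 := by rw [← one_add_one_eq_two]; nth_rw 1 [← neg_one_eq hF]; exact neg_add_cancel 1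
  conv_lhs => rw [← Int.emod_add_mul_ediv z 2]
  rcases Int.emod_two_eq_zero_or_one z with h | h <;> simp [h, h2]

include hF in
theorem commWord_eval {M : Type*} [Group M] (ψ : FreeGroup (Fin chevF4.nroots × F) →* M)
    (h0 : ∀ k, ψ (chevF4.stX k (0 : F)) = 1) {r s : ℕ} :
    ψ (chevF4.stWord (chevF4.commWord F r s 1 1)) = ((terms r s).map fun k => ψ (chevF4.stX k (1 : F))).prod := by
  rw [ChevalleyDatum.stWord, ChevalleyDatum.commWord, terms, map_list_prod, List.map_map, List.map_map]
  induction chevF4.commTerms r s with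
  | nil => simp
  | cons c l ih =>
    rw [List.map_cons, List.prod_cons, ih, List.filterMap_cons]
    simp only [Function.comp_apply, neg_one_eq hF, one_pow, mul_one, intCast_cases hF c.2.1]
    by_cases h : c.2.1 % 2 = 1 <;> simp [h, h0]

open Classical in
/-- The images of the generators. -/
noncomputable def gen (p : Fin chevF4.nroots × F) : U ⧸ pm := if p.2 = 0 then 1 else yR p.1.val

theorem lift_stX [DecidableEq F] {r : ℕ} (hr : r < 48) (t : F) :
    FreeGroup.lift gen (chevF4.stX r t) = if t = 0 then 1 else yR r := by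
  rw [ChevalleyDatum.stX, dif_pos (show r < chevF4.nroots from hr), FreeGroup.lift_apply_of]
  simp [gen]

theorem lift_stX_zero (k : ℕ) : FreeGroup.lift (gen (F := F)) (chevF4.stX k (0 : F)) = 1 := by
  rw [ChevalleyDatum.stX]
  split_ifs
  · simp [gen]
  · exact map_one _

theorem lift_stX_one {r : ℕ} (hr : r < 48) : FreeGroup.lift (gen (F := F)) (chevF4.stX r (1 : F)) = yR r := by
  classical
  rw [lift_stX hr]; simp

set_option maxHeartbeats 1000000 in
include hF in
theorem gen_rels : ∀ g ∈ chevF4.steinbergRels F, FreeGroup.lift gen g = 1 := by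
  classical
  rintro g ((⟨r, t, u, hr, rfl⟩ | ⟨r, s, t, u, hr, hs, hne, hneg, rfl⟩) | ⟨r, t, u, hr, ht, hu, rfl⟩)
  · rw [map_mul, map_mul, map_inv, lift_stX hr, lift_stX hr, lift_stX hr]
    have h11 : (1 : F) + 1 = 0 := by nth_rw 1 [← neg_one_eq hF]; exact neg_add_cancel 1
    rcases eq_zero_or_one hF t with rfl | rfl <;> rcases eq_zero_or_one hF u with rfl | rfl
    · rw [add_zero, if_pos rfl, one_mul, inv_one, mul_one]
    · rw [zero_add, if_pos rfl, if_neg one_ne_zero, one_mul, mul_inv_cancel]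
    · rw [add_zero, if_pos rfl, if_neg one_ne_zero, mul_one, mul_inv_cancel]
    · rw [h11, if_pos rfl, if_neg one_ne_zero, inv_one, mul_one]
      calc yR r * yR r = yR r * (yR r)⁻¹ := by rw [yR_inv]
        _ = 1 := mul_inv_cancel _
  · replace hr : r < 48 := hr
    replace hs : s < 48 := hs
    have h := rel_ok hr hs
    simp only [relOK, Bool.or_eq_true, Bool.and_eq_true, List.all_eq_true, Nat.blt_eq, Nat.beq_eq] at h
    obtain ⟨hc, he⟩ := (h.resolve_left hne).resolve_left hneg
    rw [map_mul, map_mul, map_mul, map_mul, map_inv, map_inv, map_inv, lift_stX hs, lift_stX hr]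
    by_cases h0 : t = 0 ∨ u = 0
    · have hw : FreeGroup.lift gen (chevF4.stWord (chevF4.commWord F r s t u)) = 1 := by
        rw [ChevalleyDatum.stWord, ChevalleyDatum.commWord, map_list_prod, List.map_map, List.map_map]
        refine List.prod_eq_one fun x hx => ?_
        obtain ⟨c, hc', rfl⟩ := List.mem_map.1 hx
        obtain ⟨-, hi, hj⟩ := hc c hc'
        rcases h0 with h0 | h0 <;>
          simp [h0, zero_pow (Nat.pos_iff_ne_zero.1 hi), zero_pow (Nat.pos_iff_ne_zero.1 hj), lift_stX_zero]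
      rw [hw, inv_one, mul_one]
      rcases h0 with h0 | h0 <;>
        simp only [h0, if_true, inv_one, one_mul, mul_one, mul_inv_cancel, inv_mul_cancel, inv_mul_cancel_left, inv_mul_cancel_right]
    · push Not at h0
      obtain rfl := (eq_zero_or_one hF t).resolve_left h0.1
      obtain rfl := (eq_zero_or_one hF u).resolve_left h0.2
      have hlt : ∀ k ∈ terms r s, k < 48 := fun k hk => by
        obtain ⟨c, hc', hk'⟩ := List.mem_filterMap.1 hk
        by_cases h : c.2.1 % 2 = 1 <;> simp [h] at hk'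
        exact hk' ▸ (hc c hc').1
      rw [commWord_eval hF _ lift_stX_zero, List.map_congr_left fun k hk => lift_stX_one (hlt k hk),
        if_neg one_ne_zero, if_neg one_ne_zero, yR_inv, yR_inv, mul_inv_eq_one]
      by_cases ht : (terms r s).isEmpty = true
      · rw [if_pos ht] at he
        have e : yR s * yR r = yR r * yR s := by
          simpa using eq_of_eqS (by simp; omega) (by simp; omega) he
        rw [List.isEmpty_iff.1 ht, List.map_nil, List.prod_nil, e, mul_assoc (yR r)]
        nth_rw 2 [← yR_inv s]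
        rw [mul_inv_cancel, mul_one]
        nth_rw 2 [← yR_inv r]
        exact mul_inv_cancel _
      · rw [if_neg ht] at he
        rw [← eq_of_eqS (by simp; omega) hlt he]
        simp [mul_assoc]
  · replace hr : r < 48 := hr
    obtain rfl := (eq_zero_or_one hF t).resolve_left ht
    obtain rfl := (eq_zero_or_one hF u).resolve_left hu
    rw [mul_one]
    simp only [mul_inv_cancel_right, map_mul]
    have h := List.all_eq_true.1 h_ok r (List.mem_range.2 hr)
    simp only [Bool.and_eq_true, Nat.blt_eq] at h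
    rw [ChevalleyDatum.stH, ChevalleyDatum.stWord, ChevalleyDatum.hWord, ChevalleyDatum.nWord,
      ChevalleyDatum.nWord]
    simp only [inv_neg, inv_one, neg_neg, neg_one_eq hF, List.cons_append, List.nil_append, List.map_cons,
      List.map_nil, List.prod_cons, List.prod_nil, map_mul, map_one]
    rw [lift_stX_one hr, lift_stX_one h.1]
    have := eq_of_eqS (by simp; omega) (by simp) h.2
    simpa [mul_assoc] using this

/-- The map of the presented group to matrices modulo sign. -/
noncomputable def phi : chevF4.SteinbergGroup F →* U ⧸ pm := PresentedGroup.toGroup (gen_rels hF)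

theorem phi_stGen {r : ℕ} (hr : r < 48) : phi hF (chevF4.stGen F r 1) = yR r := by
  rw [ChevalleyDatum.stGen, ChevalleyDatum.stX, dif_pos (show r < chevF4.nroots from hr)]
  refine (PresentedGroup.toGroup.of (gen_rels hF)).trans ?_
  simp [gen]

/-- The cover. -/
noncomputable def cover : Subgroup (chevF4.SteinbergGroup F × U) :=
  MonoidHom.eqLocus ((phi hF).comp (MonoidHom.fst _ _)) ((QuotientGroup.mk' pm).comp (MonoidHom.snd _ _))

/-- The map to the presented group. -/
noncomputable def proj : ↥(cover hF) →* chevF4.SteinbergGroup F :=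
  (MonoidHom.fst _ _).comp (cover hF).subtype

theorem proj_surjective : Function.Surjective (proj hF) := fun g => by
  obtain ⟨u, hu⟩ := QuotientGroup.mk'_surjective pm (phi hF g)
  exact ⟨⟨(g, u), hu.symm⟩, rfl⟩

/-- The kernel element `-1`. -/
noncomputable def negE : ↥(cover hF) :=
  ⟨(1, -1), by
    show phi hF 1 = QuotientGroup.mk' pm (-1)
    rw [map_one]
    exact ((QuotientGroup.eq_one_iff _).2 (Or.inr rfl)).symm⟩

theorem mem_ker {x : ↥(cover hF)} : x ∈ (proj hF).ker ↔ x = 1 ∨ x = negE hF := by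
  constructor
  · intro h
    have h1 : x.1.1 = 1 := h
    have h2 : phi hF x.1.1 = QuotientGroup.mk' pm x.1.2 := x.2
    rw [h1, map_one] at h2
    rcases (QuotientGroup.eq_one_iff _).1 h2.symm with e | e
    · exact Or.inl (Subtype.ext (Prod.ext h1 e))
    · exact Or.inr (Subtype.ext (Prod.ext h1 e))
  · rintro (rfl | rfl) <;> rfl

theorem negE_ne_one : negE hF ≠ 1 := fun h => by
  have h2 : ((-1 : U) : Matrix (Fin 52) (Fin 52) (ZMod 5)) 0 0 = (1 : Matrix (Fin 52) (Fin 52) (ZMod 5)) 0 0 := by
    have : (negE hF).1.2 = (1 : ↥(cover hF)).1.2 := by rw [h]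
    exact congrArg (fun u : U => (u : Matrix (Fin 52) (Fin 52) (ZMod 5)) 0 0) this
  simp at h2
  exact absurd h2 (by decide)

theorem card_ker : Nat.card (proj hF).ker = 2 := by
  refine Nat.card_eq_two_iff.2 ⟨1, ⟨negE hF, (mem_ker hF).2 (Or.inr rfl)⟩, fun h => negE_ne_one hF
    (congrArg Subtype.val h).symm, Set.eq_univ_of_forall fun x => ?_⟩
  rcases (mem_ker hF).1 x.2 with e | e
  · exact Or.inl (Subtype.ext e)
  · exact Or.inr (Subtype.ext e)

theorem ker_le_center : (proj hF).ker ≤ Subgroup.center _ := by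
  intro x hx
  rw [Subgroup.mem_center_iff]
  intro y
  rcases (mem_ker hF).1 hx with rfl | rfl
  · rw [one_mul, mul_one]
  · exact Subtype.ext (Prod.ext (by simp [negE]) (by simp [negE]))

/-- The lift of a root element. -/
noncomputable def xE (r : ℕ) (hr : r < 48) : ↥(cover hF) :=
  ⟨(chevF4.stGen F r 1, uR r), phi_stGen hF hr⟩

include hF in
theorem stGen_zero (k : ℕ) : chevF4.stGen F k (0 : F) = 1 := by
  by_cases hk : k < chevF4.nroots
  · have h : PresentedGroup.mk (chevF4.steinbergRels F)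
        (chevF4.stX k (0 : F) * chevF4.stX k 0 * (chevF4.stX k (0 + 0))⁻¹) = 1 :=
      PresentedGroup.one_of_mem (Or.inl (Or.inl ⟨k, 0, 0, hk, rfl⟩))
    rw [map_mul, map_mul, map_inv, add_zero, mul_inv_cancel_right] at h
    exact h
  · rw [ChevalleyDatum.stGen, ChevalleyDatum.stX, dif_neg hk, map_one]

include hF in
theorem stGen_comm {r s : ℕ} (hr : r < 48) (hs : s < 48) (hne : s ≠ r) (hneg : s ≠ chevF4.neg r) :
    ⁅(chevF4.stGen F s 1)⁻¹, (chevF4.stGen F r 1)⁻¹⁆ =
      ((terms r s).map fun k => chevF4.stGen F k (1 : F)).prod := by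
  have h : PresentedGroup.mk (chevF4.steinbergRels F) _ = 1 :=
    PresentedGroup.one_of_mem (Or.inl (Or.inr ⟨r, s, 1, 1, hr, hs, hne, hneg, rfl⟩))
  rw [map_mul, map_mul, map_mul, map_mul, map_inv, map_inv, map_inv, mul_inv_eq_one,
    commWord_eval hF _ (stGen_zero hF)] at h
  rw [commutatorElement_def, inv_inv, inv_inv]
  exact h

theorem negE_mem : negE hF ∈ commutator ↥(cover hF) := by
  obtain ⟨w1, w2, w3, hw⟩ := wit_ok
  let z : ↥(cover hF) := ⁅(xE hF 29 (by norm_num))⁻¹, (xE hF 0 (by norm_num))⁻¹⁆ *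
    (⁅(xE hF 32 (by norm_num))⁻¹, (xE hF 1 (by norm_num))⁻¹⁆)⁻¹ *
    (⁅(xE hF 14 (by norm_num))⁻¹, (xE hF 7 (by norm_num))⁻¹⁆)⁻¹
  have hz : z ∈ commutator ↥(cover hF) := by
    have hc : ∀ a b : ↥(cover hF), ⁅a, b⁆ ∈ commutator ↥(cover hF) := fun a b =>
      Subgroup.commutator_mem_commutator (Subgroup.mem_top a) (Subgroup.mem_top b)
    exact mul_mem (mul_mem (hc _ _) (inv_mem (hc _ _))) (inv_mem (hc _ _))
  suffices e : z = negE hF by rwa [e] at hz
  refine Subtype.ext (Prod.ext ?_ ?_)
  · show ⁅(chevF4.stGen F 29 1)⁻¹, (chevF4.stGen F 0 1)⁻¹⁆ *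
      (⁅(chevF4.stGen F 32 1)⁻¹, (chevF4.stGen F 1 1)⁻¹⁆)⁻¹ *
      (⁅(chevF4.stGen F 14 1)⁻¹, (chevF4.stGen F 7 1)⁻¹⁆)⁻¹ = 1
    rw [stGen_comm hF (by norm_num) (by norm_num) (by norm_num) (by decide +kernel),
      stGen_comm hF (by norm_num) (by norm_num) (by norm_num) (by decide +kernel),
      stGen_comm hF (by norm_num) (by norm_num) (by norm_num) (by decide +kernel), w1, w2, w3]
    simp
  · show ⁅(uR 29)⁻¹, (uR 0)⁻¹⁆ * (⁅(uR 32)⁻¹, (uR 1)⁻¹⁆)⁻¹ * (⁅(uR 14)⁻¹, (uR 7)⁻¹⁆)⁻¹ = -1
    have h : (([29, 0, 29, 0] ++ [32, 1, 32, 1].reverse ++ [14, 7, 14, 7].reverse).map uR).prod = -1 := Units.ext (by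
      rw [val_prod_uR (by simp), Nat.eq_of_beq_eq_true hw, mat_prodG (by simp), Units.val_neg]
      simp [A_neg])
    rw [← h]
    simp [commutatorElement_def, uR_inv, mul_assoc, _root_.mul_inv_rev]

theorem ker_le_commutator : (proj hF).ker ≤ commutator _ := by
  intro x hx
  rcases (mem_ker hF).1 hx with rfl | rfl
  · exact one_mem _
  · exact negE_mem hF

end CfsgLib.Schur.FFourTwo.Cov
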