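import Mathlib.Data.Nat.Notation

/-!
Root elements of the double cover of F₄(2) as matrices of degree 52 over the field with five elements.
-/

set_option autoImplicit false
set_option maxRecDepth 100000

namespace CfsgLib.Schur.FFourTwo.Cov

/-- Columns from their non-zero entries. -/
def mkCols (l : List (List (ℕ × ℕ))) : List ℕ :=
  l.map fun c => c.foldr (fun e acc => e.2 * 2 ^ (936 * e.1) + acc) 0

/-- Columns. -/
def g0 : List ℕ := mkCols [[(0, 1)], [(1, 1)], [(2, 4)], [(3, 4)], [(4, 4)], [(5, 4)], [(6, 4)], [(7, 4)], [(8, 4)], [(9, 4)], [(10, 4)], [(11, 4)], [(12, 4)], [(13, 4)], [(14, 4)], [(15, 4)], [(16, 4)], [(17, 4)], [(2, 4), (4, 1), (5, 1), (6, 4), (7, 4), (11, 1), (12, 4), (13, 4), (14, 1), (15, 4), (18, 1)], [(2, 3), (4, 2), (6, 2), (8, 3), (9, 3), (10, 2), (11, 3), (12, 3), (14, 4), (15, 4), (17, 4), (19, 1)], [(20, 1)], [(2, 2), (4, 2), (6, 3), (8, 1), (9,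 2), (10, 3), (11, 1), (12, 2), (13, 1), (14, 1), (15, 4), (16, 1), (17, 1), (21, 1)], [(5, 4), (7, 4), (9, 1), (11, 1), (12, 4), (13, 4), (17, 1), (22, 1)], [(5, 1), (6, 3), (7, 4), (9, 1), (11, 1), (12, 4), (13, 4), (14, 1), (23, 1)], [(5, 4), (7, 4), (9, 1), (11, 1), (12, 4), (13, 4), (17, 1), (24, 1)], [(2, 4), (4, 1), (6, 1), (9, 4), (12, 1), (25, 1)], [(26, 1)], [(2, 1), (3, 3), (5, 1), (6, 4), (7, 4), (13, 4), (14, 1), (27, 1)], [(28, 1)], [(2, 3), (4, 2), (8, 4), (9, 3), (10, 2), (12, 2), (13, 4), (14, 4), (16, 4), (17, 4), (29, 1)], [(2, 4), (6, 1), (9, 4), (11, 4), (12, 1), (30, 1)], [(31, 1)], [(2, 1), (3, 3), (5, 1), (6, 4), (7, 4), (13, 4), (14, 1), (32, 1)], [(33, 1)], [(34, 1)], [(5, 1), (6, 3), (7, 4), (9, 1), (11, 1), (12, 4), (13, 4), (14, 1), (35, 1)], [(36, 1)], [(2, 2), (4, 2), (5, 1), (6, 2), (8, 3), (9, 3), (10, 1), (11, 2), (13, 1), (14, 1), (16, 1),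 (17, 1), (37, 1)], [(2, 1), (3, 4), (4, 4), (6, 4), (8, 1), (9, 1), (10, 4), (12, 4), (13, 1), (16, 1), (38, 1)], [(2, 2), (4, 2), (5, 1), (6, 3), (7, 4), (8, 1), (9, 2), (10, 3), (11, 1), (12, 2), (14, 1), (16, 1), (17, 1), (39, 1)], [(6, 4), (7, 1), (40, 1)], [(2, 4), (3, 4), (4, 1), (9, 4), (10, 1), (12, 1), (16, 4), (17, 4), (41, 1)], [(6, 4), (8, 4), (42, 1)], [(2, 4), (3, 4), (4, 2), (6, 1), (7, 4), (8, 4), (9, 4), (10, 2), (11, 4), (12, 2), (13, 4), (15, 4), (43, 1)], [(4, 3), (6, 4), (8, 1), (9, 1), (10, 3), (11, 1), (12, 3), (13, 1), (44, 1)], [(2, 4), (3, 4), (4, 1), (9, 4), (10, 1), (12, 1), (16, 4), (17, 4), (45, 1)], [(2, 4), (4, 1), (5, 1), (7, 4), (13, 4), (15, 4), (46, 1)], [(6, 4), (7, 4), (47, 1)], [(2, 4), (4, 1), (7, 4), (8, 4), (10, 1), (12, 1), (13, 4), (48, 1)], [(2, 2), (3, 1), (4, 2), (5, 4), (6, 2), (7, 1), (8, 3), (9, 3), (10, 2), (11, 4), (12, 3),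 (14, 4), (16, 4), (17, 4), (49, 1)], [(50, 1)], [(5, 3), (6, 1), (7, 1), (13, 1), (17, 1), (51, 1)]]

/-- Columns. -/
def g1 : List ℕ := mkCols [[(0, 1)], [(1, 1)], [(4, 1), (5, 1), (6, 4), (7, 4), (11, 1), (12, 4), (13, 4), (14, 1), (15, 4)], [(2, 3), (3, 1), (4, 2), (6, 2), (8, 3), (9, 3), (10, 2), (11, 3), (12, 3), (14, 4), (15, 4), (17, 4)], [(2, 2), (4, 3), (6, 3), (8, 1), (9, 2), (10, 3), (11, 1), (12, 2), (13, 1), (14, 1), (15, 4), (16, 1), (17, 1)], [(7, 4), (9, 1), (11, 1), (12, 4), (13, 4), (17, 1)], [(5, 1), (6, 4), (7, 4), (9, 1), (11, 1), (12, 4), (13, 4), (14, 1)], [(2, 3), (4, 2), (5, 4), (6, 2), (8, 3), (9, 4), (10, 2), (11, 4), (12, 3), (13, 4), (14, 4)], [(4, 4), (11, 4), (13, 1), (16, 1)], [(2, 1), (4, 3), (6, 4), (8, 1), (9, 2), (10, 3), (11, 1), (12, 2), (13, 1), (14, 1), (16, 1), (17, 1)], [(2, 4), (4, 1), (6, 1), (9, 4), (10, 1), (12, 1)], [(2, 4), (4,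 2), (6, 1), (8, 4), (9, 4), (10, 2), (12, 1), (13, 4), (16, 4)], [(12, 4)], [(2, 2), (4, 3), (6, 3), (8, 2), (9, 2), (10, 3), (11, 2), (12, 1), (13, 1), (14, 1), (17, 1)], [(17, 4)], [(15, 4)], [(2, 4), (4, 2), (6, 1), (8, 4), (9, 4), (10, 2), (11, 4), (12, 2), (13, 4), (15, 4)], [(14, 4)], [(18, 4)], [(19, 4)], [(20, 4)], [(21, 4)], [(22, 4)], [(23, 4)], [(24, 4)], [(25, 4)], [(26, 1)], [(2, 4), (4, 1), (6, 2), (7, 1), (8, 3), (9, 3), (10, 2), (11, 2), (12, 4), (13, 1), (14, 4), (17, 4), (18, 4), (24, 4), (27, 1)], [(2, 2), (4, 4), (5, 4), (6, 2), (7, 3), (8, 2), (9, 4), (10, 4), (11, 4), (12, 4), (13, 2), (14, 1), (15, 1), (16, 4), (17, 2), (18, 3), (19, 2), (20, 3), (21, 3), (23, 3), (24, 3), (28, 1)], [(2, 4), (4, 1), (5, 1), (6, 3), (7, 3), (9, 1), (11, 2), (12, 3), (13, 3), (14, 1), (15, 4), (18, 1), (24, 1), (29, 1)], [(5, 4), (6, 1), (17, 1), (18, 4), (24, 1), (30,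 1)], [(31, 1)], [(6, 4), (7, 4), (9, 1), (11, 1), (12, 4), (13, 4), (14, 1), (17, 1), (18, 1), (19, 3), (24, 1), (32, 1)], [(33, 1)], [(34, 1)], [(5, 1), (6, 3), (7, 4), (9, 1), (11, 1), (12, 4), (13, 4), (14, 1), (35, 1)], [(36, 1)], [(4, 4), (5, 1), (6, 2), (7, 3), (9, 2), (10, 4), (11, 2), (12, 4), (13, 4), (14, 4), (16, 1), (17, 3), (19, 3), (20, 2), (21, 2), (22, 1), (23, 2), (24, 1), (37, 1)], [(2, 3), (4, 1), (5, 1), (6, 4), (7, 3), (8, 3), (10, 1), (12, 3), (13, 4), (14, 3), (16, 1), (17, 2), (18, 1), (19, 2), (20, 2), (21, 2), (23, 2), (24, 1), (25, 1), (38, 1)], [(2, 2), (4, 2), (5, 1), (7, 3), (8, 2), (9, 4), (10, 2), (11, 4), (12, 4), (13, 4), (14, 3), (16, 1), (17, 2), (18, 1), (19, 4), (20, 1), (23, 2), (24, 1), (25, 1), (39, 1)], [(2, 1), (4, 4), (7, 1), (8, 1), (10, 4), (12, 4), (13, 1), (20, 4), (23, 3), (40, 1)], [(5, 1), (6, 3), (7, 4), (9, 1), (11, 1),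 (12, 4), (13, 4), (14, 1), (15, 4), (19, 4), (20, 1), (21, 1), (23, 1), (41, 1)], [(2, 3), (4, 2), (6, 2), (8, 3), (9, 3), (10, 2), (11, 3), (12, 3), (14, 4), (17, 4), (19, 1), (20, 4), (21, 4), (23, 4), (42, 1)], [(2, 2), (4, 4), (5, 4), (6, 4), (8, 2), (9, 2), (10, 4), (11, 2), (12, 1), (13, 4), (14, 3), (16, 4), (17, 4), (18, 4), (21, 4), (43, 1)], [(2, 2), (4, 2), (6, 1), (7, 3), (8, 2), (9, 4), (10, 2), (11, 4), (12, 4), (13, 4), (14, 2), (15, 4), (16, 1), (17, 2), (19, 4), (20, 1), (21, 1), (22, 1), (23, 1), (24, 1), (44, 1)], [(5, 1), (6, 2), (7, 3), (8, 1), (9, 2), (10, 4), (11, 3), (12, 2), (13, 3), (14, 2), (15, 4), (17, 1), (18, 1), (19, 3), (20, 1), (21, 1), (23, 1), (24, 1), (25, 1), (45, 1)], [(2, 3), (4, 3), (5, 4), (7, 2), (8, 3), (9, 1), (10, 3), (11, 1), (12, 1), (13, 1), (14, 2), (16, 4), (17, 3), (18, 3), (19, 1), (20, 4), (21, 4), (23, 3), (24, 4), (25,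 4), (46, 1)], [(2, 4), (4, 1), (7, 4), (8, 4), (10, 1), (12, 1), (13, 4), (47, 1)], [(2, 4), (4, 1), (7, 4), (8, 4), (10, 1), (12, 1), (13, 4), (20, 4), (48, 1)], [(18, 4), (49, 1)], [(2, 1), (6, 2), (7, 3), (8, 1), (9, 3), (11, 3), (13, 2), (14, 1), (16, 4), (17, 1), (18, 4), (19, 3), (20, 3), (21, 3), (22, 4), (23, 3), (24, 3), (25, 4), (50, 1)], [(5, 4), (6, 1), (17, 1), (51, 1)]]

/-- Columns. -/
def g2 : List ℕ := mkCols [[(0, 1)], [(1, 1)], [(4, 1), (5, 1), (6, 4), (7, 4), (11, 1), (12, 4), (13, 4), (14, 1), (15, 4)], [(2, 1), (3, 4), (5, 1), (6, 4), (7, 4), (13, 4), (14, 1)], [(4, 1)], [(7, 4), (9, 1), (11, 1), (12, 4), (13, 4), (17, 1)], [(2, 3), (4, 2), (6, 1), (8, 4), (9, 3), (10, 2), (12, 2), (13, 4), (14, 4), (16, 4), (17, 4)], [(4, 4), (5, 4), (9, 1), (12, 4), (13, 1), (17, 1)], [(2, 3), (4, 2), (6, 2), (8, 3), (9, 3), (10, 2), (11, 3), (12, 4), (13, 4), (14,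 4), (16, 4), (17, 4)], [(2, 3), (4, 2), (5, 4), (6, 2), (7, 1), (8, 4), (9, 3), (10, 2), (11, 4), (12, 3), (14, 4), (16, 4)], [(2, 4), (4, 1), (6, 1), (8, 4), (9, 4), (10, 1), (12, 1), (13, 4), (16, 4)], [(11, 1)], [(12, 1)], [(4, 1), (11, 1), (13, 4)], [(2, 4), (4, 1), (5, 4), (6, 1), (7, 1), (8, 4), (9, 3), (10, 2), (11, 4), (12, 3), (14, 4), (15, 1), (16, 4), (17, 4)], [(15, 1)], [(2, 1), (4, 3), (6, 4), (8, 1), (9, 1), (10, 3), (11, 1), (12, 3), (13, 1), (15, 1)], [(2, 2), (4, 3), (5, 1), (6, 3), (7, 4), (8, 1), (9, 3), (10, 3), (11, 1), (12, 2), (14, 1), (16, 1), (17, 1)], [(18, 4)], [(2, 4), (4, 1), (6, 2), (7, 1), (8, 3), (9, 3), (10, 2), (11, 2), (12, 4), (13, 1), (14, 4), (17, 4), (18, 4), (19, 1), (24, 4)], [(2, 2), (4, 4), (5, 4), (6, 2), (7, 3), (8, 2), (9, 4), (10, 4), (11, 4), (12, 4), (13, 2), (14, 1), (15, 1), (16, 4), (17, 2), (18, 3), (19, 2), (20, 4), (21,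 3), (23, 3), (24, 3)], [(21, 1)], [(22, 4)], [(2, 4), (4, 1), (5, 1), (6, 3), (7, 3), (9, 1), (11, 2), (12, 3), (13, 3), (14, 1), (15, 4), (18, 1), (23, 1), (24, 1)], [(24, 4)], [(2, 3), (4, 1), (5, 1), (6, 4), (7, 3), (8, 3), (10, 1), (12, 2), (13, 4), (14, 4), (15, 4), (16, 1), (17, 3), (18, 1), (19, 3), (20, 2), (21, 2), (23, 2), (24, 1), (25, 1)], [(26, 4)], [(27, 4)], [(28, 4)], [(29, 4)], [(5, 4), (6, 1), (17, 1), (18, 4), (24, 1), (30, 1)], [(31, 1)], [(2, 1), (3, 3), (5, 1), (6, 4), (7, 4), (13, 4), (14, 1), (32, 1)], [(33, 1)], [(34, 1)], [(2, 2), (4, 3), (5, 1), (6, 4), (8, 1), (9, 2), (10, 3), (12, 3), (13, 1), (14, 1), (16, 1), (18, 4), (24, 4), (29, 3), (35, 1)], [(36, 1)], [(4, 4), (5, 1), (6, 2), (7, 3), (9, 2), (10, 4), (11, 2), (12, 4), (13, 4), (14, 4), (16, 1), (17, 3), (19, 3), (20, 2), (21, 2), (22, 1), (23, 2), (24, 1), (37, 1)], [(2, 3), (3, 4), (4,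 2), (5, 1), (6, 1), (7, 4), (8, 2), (9, 3), (10, 3), (11, 2), (12, 1), (14, 2), (16, 1), (17, 1), (19, 4), (20, 1), (21, 1), (23, 1), (38, 1)], [(39, 1)], [(2, 2), (4, 4), (6, 3), (7, 1), (8, 3), (9, 1), (10, 3), (11, 3), (13, 4), (14, 3), (16, 4), (17, 3), (19, 1), (20, 4), (21, 4), (23, 4), (40, 1)], [(3, 1), (4, 4), (6, 4), (8, 1), (9, 1), (10, 4), (11, 1), (12, 3), (13, 1), (27, 3), (28, 1), (41, 1)], [(2, 3), (3, 2), (4, 2), (5, 3), (6, 3), (7, 2), (9, 3), (10, 1), (16, 3), (17, 2), (19, 2), (20, 3), (21, 3), (23, 3), (26, 1), (27, 3), (28, 1), (42, 1)], [(2, 1), (4, 4), (5, 4), (6, 1), (9, 1), (11, 4), (13, 1), (16, 1), (17, 1), (18, 4), (27, 4), (29, 4), (43, 1)], [(2, 2), (4, 2), (6, 1), (7, 3), (8, 2), (9, 4), (10, 2), (11, 4), (12, 4), (13, 4), (14, 2), (17, 2), (19, 4), (20, 1), (21, 1), (22, 1), (23, 1), (24, 1), (44, 1)], [(2, 1), (3, 4), (4, 4), (5, 1), (6, 3),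 (7, 4), (8, 1), (9, 1), (10, 4), (11, 1), (12, 3), (14, 1), (45, 1)], [(18, 4), (46, 1)], [(2, 1), (3, 2), (4, 3), (5, 3), (6, 4), (7, 1), (8, 3), (9, 2), (10, 3), (11, 3), (12, 4), (13, 1), (14, 2), (16, 4), (17, 4), (19, 1), (20, 4), (21, 4), (23, 4), (26, 1), (27, 3), (28, 1), (47, 1)], [(2, 4), (3, 2), (4, 2), (5, 2), (6, 1), (7, 3), (8, 1), (9, 3), (10, 3), (11, 1), (12, 2), (13, 4), (14, 3), (16, 1), (17, 1), (18, 4), (19, 4), (20, 1), (21, 1), (23, 1), (24, 4), (26, 4), (27, 3), (28, 3), (29, 4), (48, 1)], [(3, 3), (5, 2), (6, 4), (7, 3), (8, 2), (10, 1), (11, 3), (12, 4), (13, 4), (14, 4), (16, 1), (17, 2), (18, 4), (19, 3), (20, 2), (21, 2), (23, 2), (26, 4), (27, 3), (28, 3), (29, 4), (49, 1)], [(2, 1), (3, 3), (5, 2), (6, 4), (9, 4), (11, 4), (12, 1), (14, 1), (17, 4), (22, 4), (24, 4), (26, 4), (27, 2), (28, 4), (50, 1)], [(5, 4), (6, 1), (17, 1), (51, 1)]]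

/-- Columns. -/
def g3 : List ℕ := mkCols [[(0, 1)], [(1, 4), (2, 4), (3, 2), (4, 2), (5, 1), (6, 2), (8, 3), (9, 4), (10, 3), (11, 4), (12, 2), (13, 3), (15, 1), (16, 2), (17, 1), (18, 4), (19, 1), (20, 1), (21, 4), (22, 2), (23, 2), (24, 3), (25, 2), (27, 1), (28, 1), (29, 3), (30, 2), (31, 1), (32, 1), (33, 1), (34, 3), (36, 3), (37, 1), (38, 1), (39, 2), (40, 4), (41, 4), (43, 2), (44, 1), (45, 1), (46, 2), (48, 1), (49, 1), (50, 3)], [(2, 4)], [(3, 4)], [(4, 4)], [(5, 4)], [(6, 4)], [(7, 4)], [(8, 4)], [(9, 4)], [(10, 4)], [(11, 4)], [(12, 4)], [(13, 4)], [(14, 4)], [(15, 4)], [(16, 4)], [(17, 4)], [(18, 4)], [(19, 4)], [(20, 4)], [(21, 4)], [(22, 4)], [(23, 4)], [(24, 4)], [(25, 4)], [(26, 4)], [(27, 4)], [(28, 4)], [(29, 4)], [(30, 4)], [(31, 4)], [(32, 4)], [(33, 4)], [(34, 4)], [(35, 4)], [(36, 4)], [(2, 1), (4, 2), (5, 1), (6, 1), (7, 3), (8, 1), (9, 4), (10, 2),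 (11, 2), (12, 2), (14, 4), (16, 2), (17, 4), (19, 3), (20, 2), (21, 2), (22, 1), (23, 2), (24, 1), (37, 1)], [(3, 4), (4, 4), (5, 1), (6, 2), (7, 3), (9, 2), (10, 4), (11, 1), (14, 4), (16, 2), (17, 3), (18, 1), (19, 2), (20, 2), (21, 2), (23, 2), (24, 1), (25, 1), (38, 1)], [(2, 2), (4, 2), (5, 2), (7, 2), (8, 2), (9, 4), (10, 2), (11, 4), (12, 4), (13, 3), (14, 3), (16, 1), (17, 2), (18, 1), (19, 4), (20, 1), (23, 2), (24, 1), (25, 1), (39, 1)], [(5, 4), (6, 1), (7, 2), (9, 4), (11, 4), (12, 1), (13, 1), (14, 4), (20, 4), (23, 3), (40, 1)], [(2, 3), (3, 1), (4, 1), (5, 4), (6, 1), (7, 1), (9, 4), (10, 1), (12, 1), (13, 1), (14, 4), (16, 4), (17, 4), (27, 3), (28, 1), (41, 1)], [(3, 2), (5, 3), (6, 1), (7, 2), (8, 1), (10, 4), (11, 1), (12, 2), (13, 1), (14, 1), (16, 4), (17, 3), (19, 2), (20, 3), (21, 3), (23, 3), (26, 1), (27, 3), (28, 1), (42, 1)], [(2, 4), (4, 2), (5,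 4), (6, 3), (8, 4), (9, 4), (10, 2), (11, 3), (12, 3), (14, 4), (18, 4), (21, 4), (27, 4), (29, 4), (43, 1)], [(2, 1), (3, 1), (4, 4), (5, 2), (6, 2), (7, 2), (8, 4), (9, 1), (10, 2), (11, 3), (13, 1), (14, 3), (15, 2), (16, 3), (17, 1), (20, 1), (21, 1), (22, 1), (23, 1), (30, 4), (31, 3), (32, 4), (33, 2), (44, 1)], [(4, 2), (5, 3), (6, 2), (7, 2), (8, 4), (9, 4), (10, 4), (11, 3), (12, 2), (14, 4), (15, 2), (16, 2), (18, 1), (19, 4), (20, 1), (21, 1), (23, 1), (25, 1), (30, 4), (31, 2), (32, 4), (33, 2), (45, 1)], [(2, 4), (5, 3), (6, 3), (7, 4), (8, 1), (10, 2), (11, 2), (12, 4), (13, 1), (15, 2), (16, 2), (17, 3), (18, 4), (19, 1), (20, 4), (21, 4), (23, 3), (24, 3), (25, 4), (30, 3), (31, 2), (33, 2), (46, 1)], [(2, 3), (3, 3), (4, 3), (5, 4), (6, 2), (7, 4), (8, 4), (9, 1), (11, 1), (12, 3), (13, 1), (14, 2), (15, 2), (16, 1), (17, 3), (19, 2), (20, 4), (21, 4), (23,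 4), (24, 1), (26, 1), (27, 3), (28, 1), (29, 2), (30, 1), (31, 3), (32, 4), (33, 2), (34, 1), (35, 3), (47, 1)], [(2, 1), (4, 4), (5, 3), (6, 1), (7, 2), (8, 3), (9, 4), (10, 2), (11, 3), (12, 1), (13, 2), (14, 2), (15, 3), (17, 4), (18, 1), (19, 1), (20, 1), (21, 2), (23, 2), (24, 4), (26, 4), (27, 3), (28, 3), (29, 2), (30, 3), (31, 2), (32, 2), (33, 3), (34, 3), (35, 2), (36, 1), (48, 1)], [(2, 3), (3, 3), (4, 2), (5, 1), (7, 4), (8, 1), (9, 3), (10, 3), (11, 3), (12, 1), (13, 4), (14, 3), (17, 1), (19, 3), (20, 2), (21, 2), (23, 2), (26, 4), (27, 3), (28, 3), (30, 4), (35, 4), (49, 1)], [(3, 4), (4, 3), (5, 2), (6, 2), (8, 3), (9, 4), (10, 1), (11, 3), (12, 1), (13, 1), (14, 3), (15, 2), (16, 1), (17, 1), (18, 4), (19, 3), (20, 4), (21, 4), (22, 4), (23, 4), (24, 4), (25, 4), (26, 4), (27, 2), (28, 4), (29, 2), (30, 1), (31, 2), (32, 4), (33, 2), (34, 1), (35, 3), (50,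 1)], [(1, 4), (2, 2), (3, 4), (4, 2), (6, 4), (7, 4), (8, 4), (9, 2), (10, 1), (12, 1), (13, 1), (14, 2), (16, 4), (17, 2), (19, 1), (20, 3), (21, 2), (22, 1), (23, 1), (24, 2), (25, 1), (27, 3), (28, 3), (29, 3), (30, 1), (33, 1), (34, 3), (35, 1), (37, 3), (38, 3), (39, 1), (40, 2), (41, 2), (43, 1), (44, 3), (45, 3), (46, 1), (48, 3), (49, 3), (50, 4), (51, 1)]]

/-- Columns. -/
def g4 : List ℕ := mkCols [[(0, 1)], [(1, 1)], [(6, 1), (9, 4), (11, 4), (12, 1)], [(2, 1), (3, 4), (5, 1), (6, 4), (7, 4), (13, 4), (14, 1)], [(2, 1), (4, 3), (6, 4), (8, 1), (9, 1), (10, 3), (12, 4), (13, 1), (16, 1)], [(7, 1), (8, 1), (9, 4), (11, 1), (15, 1), (16, 4), (17, 4)], [(6, 1)], [(7, 1)], [(8, 4)], [(2, 1), (4, 3), (6, 4), (8, 1), (9, 2), (10, 3), (11, 1), (12, 2), (13, 1), (14, 1), (16, 1), (17, 1)], [(2, 4), (4, 1), (6, 1), (8, 4), (9, 4), (10, 1), (12, 1), (13, 4), (16, 4)], [(2,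 3), (4, 2), (6, 2), (8, 4), (9, 3), (10, 2), (11, 4), (12, 3), (13, 4), (14, 4), (15, 1), (16, 4), (17, 4)], [(15, 1)], [(2, 1), (4, 3), (6, 4), (8, 2), (9, 1), (10, 3), (11, 1), (12, 3), (13, 1), (15, 1)], [(2, 2), (4, 3), (5, 1), (6, 3), (7, 4), (8, 1), (9, 3), (10, 3), (11, 1), (12, 2), (14, 1), (16, 1), (17, 1)], [(12, 1)], [(2, 3), (4, 3), (6, 2), (8, 3), (9, 3), (10, 2), (11, 4), (12, 4), (13, 3), (14, 4), (16, 4), (17, 4)], [(2, 4), (4, 1), (5, 4), (6, 1), (7, 1), (8, 4), (9, 3), (10, 2), (11, 4), (12, 3), (14, 4), (15, 1), (16, 4), (17, 4)], [(5, 4), (6, 1), (17, 1), (24, 1)], [(6, 4), (7, 4), (9, 1), (11, 1), (12, 4), (13, 4), (14, 1), (17, 1), (18, 1), (19, 4), (24, 1)], [(20, 1)], [(2, 3), (4, 1), (6, 1), (7, 4), (8, 3), (9, 4), (10, 1), (11, 4), (12, 4), (14, 2), (16, 1), (17, 2), (18, 1), (19, 3), (21, 1), (24, 1)], [(2, 3), (4, 3), (7, 3), (8, 4), (10, 2), (11,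 1), (12, 1), (13, 2), (14, 2), (15, 1), (16, 4), (17, 2), (18, 4), (19, 2), (20, 3), (21, 3), (22, 4), (23, 3), (24, 4)], [(23, 1)], [(2, 1), (4, 4), (5, 1), (6, 3), (8, 2), (9, 1), (10, 3), (11, 2), (12, 2), (14, 1), (18, 1)], [(2, 2), (4, 4), (5, 4), (6, 1), (7, 2), (8, 2), (10, 4), (12, 2), (13, 1), (14, 2), (16, 4), (17, 3), (18, 4), (19, 2), (20, 3), (21, 3), (23, 3), (24, 4), (25, 4)], [(26, 1)], [(2, 1), (3, 3), (5, 1), (6, 4), (7, 4), (13, 4), (14, 1), (27, 1)], [(28, 1)], [(29, 1)], [(30, 4)], [(31, 4)], [(32, 4)], [(33, 4)], [(2, 2), (3, 2), (4, 1), (5, 3), (7, 2), (8, 3), (9, 2), (10, 2), (11, 1), (13, 2), (14, 2), (17, 4), (18, 3), (19, 2), (30, 2), (31, 1), (32, 3), (33, 4), (34, 1)], [(35, 1)], [(31, 1), (33, 4), (36, 1)], [(2, 3), (4, 1), (6, 1), (7, 3), (8, 3), (10, 1), (11, 4), (12, 3), (13, 4), (14, 2), (16, 1), (17, 3), (19, 4), (20, 1), (21, 1), (22, 1),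 (23, 1), (24, 1), (37, 1)], [(2, 3), (3, 4), (4, 2), (5, 1), (7, 3), (8, 3), (9, 4), (10, 2), (11, 4), (12, 4), (13, 4), (14, 3), (16, 1), (17, 2), (18, 1), (19, 3), (20, 1), (21, 1), (23, 1), (24, 1), (25, 1), (38, 1)], [(2, 4), (4, 4), (5, 1), (6, 4), (7, 3), (8, 4), (9, 1), (10, 4), (12, 1), (14, 3), (16, 2), (17, 3), (18, 1), (19, 3), (20, 1), (21, 1), (23, 1), (24, 1), (25, 1), (39, 1)], [(40, 1)], [(2, 4), (3, 4), (4, 2), (6, 1), (8, 4), (9, 3), (10, 2), (11, 4), (12, 3), (13, 4), (16, 4), (17, 4), (41, 1)], [(8, 4), (42, 1)], [(2, 1), (3, 4), (6, 4), (7, 4), (8, 1), (9, 1), (11, 1), (12, 4), (13, 4), (14, 1), (17, 1), (19, 4), (24, 1), (43, 1)], [(2, 1), (3, 1), (5, 2), (6, 3), (7, 2), (8, 3), (10, 3), (11, 2), (12, 2), (14, 3), (15, 2), (16, 3), (17, 1), (20, 1), (21, 1), (22, 1), (23, 1), (30, 4), (31, 3), (32, 4), (33, 2), (44, 1)], [(4, 3), (5, 3), (6, 3), (7, 2),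 (8, 3), (9, 3), (11, 2), (12, 4), (13, 4), (14, 4), (15, 2), (16, 2), (18, 1), (19, 4), (20, 1), (21, 1), (23, 1), (25, 1), (30, 4), (31, 2), (32, 4), (33, 2), (45, 1)], [(2, 4), (5, 3), (6, 2), (7, 3), (8, 1), (9, 1), (10, 2), (11, 3), (12, 3), (14, 1), (15, 2), (16, 2), (17, 4), (19, 1), (20, 4), (21, 4), (23, 4), (24, 4), (25, 4), (30, 3), (31, 2), (33, 2), (46, 1)], [(47, 1)], [(48, 1)], [(2, 3), (3, 1), (4, 2), (5, 4), (6, 2), (7, 1), (8, 3), (9, 3), (10, 2), (11, 4), (12, 3), (14, 4), (16, 4), (17, 4), (30, 4), (49, 1)], [(2, 1), (6, 2), (7, 3), (8, 1), (9, 3), (11, 3), (13, 2), (14, 1), (16, 4), (17, 1), (18, 4), (19, 3), (20, 3), (21, 3), (22, 4), (23, 3), (24, 3), (25, 4), (31, 4), (50, 1)], [(2, 1), (3, 4), (4, 2), (5, 2), (6, 4), (7, 2), (8, 4), (9, 3), (10, 4), (11, 2), (12, 3), (13, 4), (14, 4), (15, 3), (16, 2), (17, 1), (19, 4), (24, 1), (30, 1), (31, 2), (32,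 1), (33, 3), (51, 1)]]

/-- Columns. -/
def g5 : List ℕ := mkCols [[(0, 1)], [(1, 1)], [(6, 4), (9, 1), (11, 1), (12, 4)], [(3, 4)], [(4, 1)], [(7, 1), (8, 1), (9, 4), (11, 1), (15, 1), (16, 4), (17, 4)], [(5, 1), (6, 4), (7, 4), (9, 1), (11, 1), (12, 4), (13, 4), (14, 1)], [(2, 2), (4, 3), (5, 1), (6, 3), (8, 2), (9, 1), (10, 3), (11, 1), (12, 2), (13, 1), (14, 1)], [(4, 4), (11, 4), (13, 1), (16, 1)], [(2, 2), (4, 3), (5, 1), (6, 3), (7, 4), (8, 1), (9, 2), (10, 3), (11, 1), (12, 2), (14, 1), (16, 1)], [(10, 1)], [(11, 1)], [(2, 1), (4, 3), (6, 4), (8, 1), (9, 1), (10, 3), (11, 1), (12, 3), (13, 1), (16, 1)], [(4, 1), (11, 1), (13, 4)], [(2, 1), (4, 4), (5, 1), (6, 4), (7, 4), (8, 1), (9, 2), (10, 3), (11, 1), (12, 2), (14, 1), (15, 4), (16, 1), (17, 1)], [(2, 3), (4, 3), (6, 2), (8, 4), (9, 3), (10, 2), (11, 4), (12, 3), (13, 4), (14, 4), (16, 4), (17, 4)], [(8, 1), (13,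 1)], [(2, 3), (4, 2), (5, 4), (6, 2), (7, 1), (8, 4), (9, 2), (10, 2), (11, 4), (12, 3), (14, 4), (16, 4), (17, 4)], [(6, 4), (7, 4), (9, 1), (11, 1), (12, 4), (13, 4), (24, 1)], [(2, 3), (4, 2), (6, 2), (8, 3), (9, 3), (10, 2), (11, 3), (12, 3), (14, 4), (15, 4), (17, 4), (19, 1)], [(20, 1)], [(21, 1)], [(2, 3), (4, 3), (7, 3), (8, 4), (10, 2), (11, 1), (12, 1), (13, 2), (14, 2), (15, 1), (16, 4), (17, 2), (18, 4), (19, 2), (20, 3), (21, 3), (22, 4), (23, 3), (24, 4)], [(5, 1), (6, 3), (7, 4), (9, 1), (11, 1), (12, 4), (13, 4), (14, 1), (23, 1)], [(2, 1), (4, 4), (5, 1), (6, 3), (8, 2), (9, 1), (10, 3), (11, 2), (12, 2), (14, 1), (18, 1)], [(25, 1)], [(2, 1), (3, 1), (5, 3), (6, 2), (7, 2), (8, 3), (10, 1), (11, 4), (12, 3), (13, 3), (16, 1), (17, 2), (19, 3), (20, 2), (21, 2), (23, 2), (26, 4), (27, 4), (28, 3)], [(2, 1), (3, 3), (5, 1), (6, 4), (7, 4), (13, 4), (14, 1),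 (27, 1)], [(28, 1)], [(2, 2), (4, 3), (5, 1), (6, 4), (8, 1), (9, 2), (10, 3), (12, 3), (13, 1), (14, 1), (16, 1), (18, 4), (24, 4), (29, 4)], [(2, 1), (6, 4), (9, 1), (11, 1), (12, 4), (30, 4)], [(2, 2), (3, 3), (4, 3), (6, 3), (7, 3), (8, 2), (9, 2), (10, 3), (11, 2), (12, 2), (13, 3), (14, 2), (15, 1), (17, 2), (19, 3), (24, 2), (30, 2), (32, 2), (33, 1)], [(2, 1), (3, 3), (5, 1), (6, 4), (7, 4), (13, 4), (14, 1), (32, 1)], [(2, 2), (3, 2), (4, 1), (5, 3), (7, 2), (8, 3), (9, 2), (10, 2), (11, 1), (13, 2), (14, 2), (17, 4), (18, 3), (19, 2), (30, 2), (31, 1), (32, 3)], [(34, 4)], [(35, 4)], [(2, 3), (4, 3), (5, 2), (6, 2), (8, 1), (9, 3), (10, 3), (11, 1), (12, 2), (13, 1), (14, 2), (16, 1), (24, 3), (29, 3), (30, 3), (34, 3), (35, 2), (36, 1)], [(2, 3), (4, 1), (7, 3), (8, 3), (9, 1), (10, 1), (12, 2), (13, 4), (14, 2), (16, 1), (17, 3), (19, 4), (20, 1), (21, 1), (22,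 1), (23, 1), (24, 1), (37, 1)], [(3, 4), (38, 1)], [(2, 2), (4, 3), (5, 1), (6, 3), (7, 4), (8, 1), (9, 2), (10, 3), (11, 1), (12, 2), (14, 1), (16, 1), (17, 1), (39, 1)], [(2, 4), (4, 1), (8, 4), (10, 1), (12, 1), (13, 4), (40, 1)], [(2, 4), (3, 4), (4, 1), (9, 4), (10, 1), (12, 1), (16, 4), (17, 4), (41, 1)], [(2, 2), (3, 2), (4, 2), (5, 4), (6, 3), (7, 1), (8, 3), (9, 3), (10, 2), (11, 3), (12, 3), (13, 1), (14, 3), (17, 4), (19, 1), (20, 4), (21, 4), (23, 4), (26, 1), (27, 3), (28, 1), (42, 1)], [(2, 1), (3, 4), (6, 1), (11, 4), (12, 1), (18, 4), (29, 4), (43, 1)], [(2, 1), (3, 1), (5, 2), (6, 2), (7, 2), (8, 4), (9, 1), (10, 3), (11, 3), (13, 1), (14, 3), (15, 2), (16, 3), (17, 1), (20, 1), (21, 1), (22, 1), (23, 1), (30, 4), (31, 3), (32, 4), (33, 2), (44, 1)], [(2, 4), (3, 4), (4, 1), (9, 4), (10, 1), (12, 1), (16, 4), (17, 4), (45, 1)], [(4, 1), (5, 1), (6, 4), (7,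 4), (9, 1), (11, 1), (12, 4), (13, 4), (15, 4), (30, 4), (46, 1)], [(2, 4), (3, 3), (4, 2), (6, 1), (7, 4), (9, 2), (10, 4), (11, 2), (12, 1), (13, 1), (14, 3), (15, 2), (16, 1), (17, 3), (19, 2), (20, 4), (21, 4), (23, 4), (24, 1), (26, 1), (27, 3), (28, 1), (29, 2), (30, 1), (31, 3), (32, 4), (33, 2), (34, 1), (35, 3), (47, 1)], [(2, 2), (3, 2), (4, 2), (5, 1), (6, 2), (8, 1), (9, 4), (11, 4), (12, 2), (13, 4), (14, 3), (15, 3), (16, 4), (17, 2), (19, 3), (20, 1), (21, 1), (23, 1), (24, 4), (26, 4), (27, 2), (28, 4), (29, 3), (30, 4), (31, 2), (32, 1), (33, 3), (34, 4), (35, 1), (48, 1)], [(2, 1), (3, 4), (4, 4), (6, 3), (9, 1), (11, 1), (12, 4), (14, 1), (19, 4), (20, 1), (21, 1), (23, 1), (26, 4), (27, 2), (28, 4), (30, 4), (35, 4), (49, 1)], [(2, 3), (3, 3), (4, 2), (6, 2), (8, 4), (9, 1), (10, 2), (11, 3), (12, 4), (13, 4), (14, 4), (16, 4), (17, 4), (22, 4), (24, 1),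 (26, 4), (27, 2), (28, 4), (29, 2), (30, 2), (34, 1), (35, 3), (50, 1)], [(2, 1), (3, 4), (4, 1), (5, 1), (7, 3), (8, 4), (9, 3), (10, 4), (11, 1), (12, 4), (14, 3), (15, 4), (16, 2), (17, 1), (19, 4), (24, 1), (30, 1), (31, 2), (32, 1), (33, 3), (51, 1)]]

/-- Columns. -/
def g6 : List ℕ := mkCols [[(0, 1)], [(1, 1)], [(4, 1), (5, 1), (6, 4), (7, 4), (11, 1), (12, 4), (13, 4), (14, 1), (15, 4)], [(2, 2), (3, 4), (4, 4), (5, 1), (6, 3), (7, 4), (8, 2), (9, 1), (10, 3), (11, 2), (12, 2), (13, 4), (14, 1)], [(4, 1)], [(5, 1)], [(5, 1), (6, 4), (7, 4), (9, 1), (11, 1), (12, 4), (13, 4), (14, 1)], [(7, 1)], [(2, 1), (4, 3), (6, 4), (8, 1), (9, 1), (10, 3), (11, 1), (12, 3), (15, 1)], [(2, 1), (4, 3), (6, 4), (8, 1), (9, 2), (10, 3), (11, 1), (12, 2), (13, 1), (14, 1), (16, 1), (17, 1)], [(2, 4), (4, 1), (6, 1), (8, 4), (9, 4), (10, 1), (12, 1), (13, 4), (16, 4)], [(11, 1)], [(2,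 1), (4, 3), (6, 4), (8, 1), (9, 1), (10, 3), (11, 1), (12, 3), (13, 1), (16, 1)], [(13, 1)], [(17, 4)], [(2, 3), (4, 3), (6, 2), (8, 4), (9, 3), (10, 2), (11, 4), (12, 3), (13, 4), (14, 4), (16, 4), (17, 4)], [(2, 3), (4, 3), (6, 2), (8, 3), (9, 3), (10, 2), (11, 4), (12, 4), (13, 3), (14, 4), (16, 4), (17, 4)], [(14, 4)], [(18, 4)], [(6, 1), (7, 1), (9, 4), (11, 4), (12, 1), (13, 1), (14, 4), (17, 4), (18, 4), (19, 1), (24, 4)], [(5, 1), (6, 3), (7, 4), (9, 1), (11, 1), (12, 4), (13, 4), (14, 1), (20, 1), (23, 2)], [(21, 1)], [(22, 1)], [(23, 4)], [(5, 1), (7, 1), (9, 4), (11, 4), (12, 1), (13, 1), (17, 4), (24, 4)], [(2, 2), (4, 4), (5, 4), (6, 1), (7, 2), (8, 2), (10, 4), (12, 2), (13, 1), (14, 2), (16, 4), (17, 3), (18, 4), (19, 2), (20, 3), (21, 3), (23, 3), (24, 4), (25, 4)], [(2, 4), (3, 3), (4, 2), (5, 1), (7, 1), (8, 1), (9, 1), (10, 3), (11, 3), (13, 2), (14, 1),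 (15, 1), (16, 1), (18, 3), (24, 3), (26, 4), (27, 2), (29, 3)], [(2, 3), (3, 3), (4, 3), (5, 1), (6, 3), (8, 2), (9, 1), (10, 3), (11, 1), (12, 3), (14, 1), (15, 1), (18, 4), (24, 4), (27, 1)], [(3, 3), (5, 2), (6, 3), (7, 3), (8, 3), (10, 1), (11, 4), (12, 3), (13, 4), (14, 4), (16, 1), (17, 2), (19, 3), (20, 2), (21, 2), (23, 2), (27, 2), (28, 4)], [(2, 4), (4, 1), (5, 1), (6, 3), (7, 3), (9, 1), (11, 2), (12, 3), (13, 3), (14, 1), (15, 4), (18, 1), (24, 1), (29, 1)], [(5, 4), (6, 1), (17, 1), (18, 4), (24, 1), (30, 1)], [(33, 1)], [(6, 1), (7, 1), (9, 4), (11, 4), (12, 1), (13, 1), (14, 4), (17, 4), (18, 4), (19, 2), (24, 4), (32, 4)], [(31, 1)], [(2, 3), (4, 3), (5, 2), (6, 2), (8, 1), (9, 3), (10, 3), (11, 1), (12, 2), (13, 1), (14, 2), (16, 1), (24, 3), (29, 3), (30, 3), (34, 4), (35, 2)], [(5, 1), (6, 3), (7, 4), (9, 1), (11, 1), (12, 4), (13, 4), (14, 1), (35, 1)],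 [(36, 4)], [(18, 4), (37, 1)], [(2, 3), (3, 4), (4, 2), (5, 1), (6, 1), (7, 4), (8, 3), (9, 3), (10, 2), (11, 3), (14, 2), (16, 1), (17, 1), (19, 4), (20, 1), (21, 1), (23, 1), (25, 1), (38, 1)], [(2, 2), (4, 2), (5, 1), (7, 3), (8, 2), (9, 4), (10, 2), (11, 4), (12, 4), (13, 4), (14, 3), (16, 1), (17, 2), (18, 1), (19, 4), (20, 1), (21, 1), (23, 2), (24, 1), (25, 1), (39, 1)], [(23, 4), (40, 1)], [(2, 3), (4, 3), (6, 3), (7, 1), (8, 4), (9, 2), (10, 2), (11, 3), (12, 4), (14, 3), (16, 4), (17, 3), (18, 4), (19, 1), (20, 4), (21, 4), (23, 4), (24, 4), (27, 4), (28, 1), (41, 1)], [(2, 1), (3, 2), (4, 3), (5, 4), (6, 2), (8, 3), (9, 3), (10, 2), (12, 2), (13, 4), (14, 3), (16, 4), (17, 4), (18, 1), (19, 1), (20, 4), (21, 4), (23, 4), (24, 1), (26, 1), (27, 3), (28, 1), (29, 1), (42, 1)], [(2, 1), (3, 4), (8, 1), (18, 4), (43, 1)], [(2, 3), (3, 1), (4, 4), (5, 2), (6, 2), (7,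 3), (8, 1), (9, 1), (10, 1), (11, 4), (12, 2), (14, 1), (15, 2), (16, 2), (17, 4), (18, 4), (19, 1), (31, 3), (32, 4), (33, 2), (44, 1)], [(5, 1), (6, 3), (7, 4), (8, 1), (9, 1), (10, 4), (11, 2), (12, 3), (13, 4), (14, 1), (15, 4), (20, 1), (21, 1), (23, 1), (25, 1), (32, 4), (45, 1)], [(2, 3), (4, 3), (5, 4), (7, 2), (8, 3), (9, 1), (10, 3), (11, 1), (12, 1), (13, 1), (14, 2), (16, 4), (17, 3), (18, 3), (19, 1), (20, 4), (21, 4), (23, 3), (24, 4), (25, 4), (46, 1)], [(2, 3), (3, 3), (4, 3), (6, 1), (7, 4), (8, 4), (9, 2), (11, 2), (12, 2), (14, 3), (15, 2), (16, 1), (17, 3), (19, 2), (20, 4), (21, 4), (23, 4), (24, 1), (26, 1), (27, 3), (28, 1), (29, 2), (30, 1), (31, 3), (32, 4), (33, 2), (34, 1), (35, 4), (47, 1)], [(2, 2), (4, 3), (5, 4), (6, 4), (7, 2), (8, 4), (10, 1), (11, 4), (12, 4), (13, 2), (14, 3), (15, 3), (17, 4), (18, 1), (19, 1), (20, 2), (21, 2), (23, 3),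 (24, 4), (26, 4), (27, 3), (28, 3), (29, 2), (30, 3), (31, 2), (32, 2), (33, 3), (34, 3), (35, 2), (36, 1), (48, 1)], [(3, 3), (5, 2), (6, 4), (7, 3), (8, 2), (10, 1), (11, 3), (12, 4), (13, 4), (14, 4), (16, 1), (17, 2), (18, 4), (19, 3), (20, 2), (21, 2), (23, 2), (26, 4), (27, 3), (28, 3), (29, 4), (49, 1)], [(3, 4), (6, 2), (7, 1), (8, 4), (9, 3), (10, 1), (11, 2), (12, 3), (13, 1), (14, 4), (17, 4), (18, 4), (19, 1), (24, 4), (25, 4), (26, 4), (27, 2), (28, 4), (30, 1), (32, 4), (34, 1), (35, 4), (50, 1)], [(2, 4), (3, 3), (5, 4), (6, 1), (7, 1), (9, 1), (10, 2), (11, 3), (13, 4), (14, 1), (15, 3), (16, 3), (17, 2), (18, 1), (19, 3), (29, 4), (30, 4), (31, 2), (32, 2), (33, 3), (34, 4), (35, 1), (36, 1), (51, 1)]]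

/-- Columns. -/
def g7 : List ℕ := mkCols [[(0, 2), (1, 3), (2, 3), (3, 2), (4, 1), (5, 2), (6, 4), (7, 4), (8, 3), (9, 3), (11, 3), (12, 4), (13, 3), (15, 2), (16, 3), (17, 4), (19, 4), (20, 4), (21, 4), (22, 2), (23, 3), (24, 2), (25, 1), (26, 3), (27, 2), (28, 2), (30, 2), (31, 4), (32, 2), (33, 4), (35, 1), (36, 1), (37, 2), (38, 2), (39, 3), (40, 2), (41, 4), (42, 2), (43, 2), (44, 2), (45, 3), (46, 1), (48, 3), (49, 3), (51, 4)], [(0, 4), (1, 3), (2, 2), (3, 3), (4, 4), (5, 3), (6, 1), (7, 1), (8, 2), (9, 2), (11, 2), (12, 1), (13, 2), (15, 3), (16, 2), (17, 1), (19, 1), (20, 1), (21, 1), (22, 3), (23, 2), (24, 3), (25, 4), (26, 2), (27, 3), (28, 3), (30, 3), (31, 1), (32, 3), (33, 1), (35, 4), (36, 4), (37, 3), (38, 3), (39, 2), (40, 3), (41, 1), (42, 3), (43, 3), (44, 3), (45, 2), (46, 4), (48, 2), (49, 2), (51, 1)], [(2, 4)], [(3, 4)], [(4, 4)], [(5, 4)], [(6, 4)],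 [(7, 4)], [(8, 4)], [(9, 4)], [(10, 4)], [(11, 4)], [(12, 4)], [(13, 4)], [(14, 4)], [(15, 4)], [(16, 4)], [(17, 4)], [(18, 4)], [(19, 4)], [(20, 4)], [(21, 4)], [(22, 4)], [(23, 4)], [(24, 4)], [(25, 4)], [(26, 4)], [(27, 4)], [(28, 4)], [(29, 4)], [(2, 2), (4, 2), (5, 4), (6, 4), (9, 2), (11, 4), (12, 1), (14, 2), (15, 3), (17, 3), (18, 4), (24, 1), (30, 1)], [(31, 1)], [(3, 3), (4, 1), (5, 1), (6, 4), (7, 3), (8, 2), (10, 3), (11, 3), (12, 1), (13, 3), (15, 3), (17, 4), (18, 1), (19, 3), (24, 1), (32, 1)], [(33, 1)], [(34, 1)], [(5, 1), (6, 1), (8, 1), (10, 3), (12, 3), (13, 1), (14, 4), (15, 3), (16, 1), (17, 3), (18, 4), (24, 4), (29, 3), (35, 1)], [(36, 1)], [(37, 4)], [(38, 4)], [(39, 4)], [(40, 4)], [(41, 4)], [(42, 4)], [(43, 4)], [(2, 2), (3, 2), (4, 4), (5, 2), (6, 4), (7, 4), (9, 3), (10, 2), (11, 4), (12, 4), (13, 2), (14, 3), (17, 3), (18, 1), (19, 4), (24, 1),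 (25, 1), (37, 3), (38, 1), (39, 1), (40, 1), (44, 1)], [(2, 2), (3, 2), (5, 3), (6, 3), (7, 4), (8, 1), (9, 3), (10, 2), (12, 3), (13, 1), (14, 4), (16, 4), (17, 3), (18, 1), (19, 4), (24, 1), (25, 1), (38, 4), (39, 1), (40, 1), (45, 1)], [(2, 2), (5, 3), (6, 4), (7, 4), (8, 2), (9, 3), (11, 3), (12, 2), (13, 2), (14, 1), (16, 3), (17, 3), (21, 3), (22, 2), (23, 1), (24, 3), (25, 1), (37, 4), (39, 4), (46, 1)], [(2, 3), (3, 2), (4, 3), (5, 4), (6, 1), (7, 2), (8, 1), (10, 1), (11, 4), (12, 4), (13, 2), (14, 2), (16, 2), (17, 1), (18, 1), (19, 2), (20, 2), (21, 2), (23, 2), (24, 1), (25, 1), (38, 1), (39, 1), (40, 1), (42, 3), (47, 1)], [(2, 3), (4, 2), (8, 3), (9, 3), (10, 2), (12, 4), (14, 1), (16, 3), (17, 4), (18, 3), (19, 4), (20, 1), (22, 2), (24, 4), (25, 2), (37, 4), (39, 4), (40, 3), (41, 2), (42, 2), (43, 3), (48, 1)], [(2, 2), (3, 1), (4, 4), (6, 2), (7, 3), (8,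 4), (11, 2), (13, 2), (15, 3), (16, 2), (17, 4), (18, 4), (22, 2), (24, 2), (26, 2), (27, 3), (28, 3), (29, 4), (37, 4), (41, 4), (42, 1), (49, 1)], [(0, 1), (1, 3), (3, 4), (4, 4), (5, 1), (6, 4), (8, 2), (9, 1), (10, 4), (11, 3), (12, 1), (13, 1), (14, 2), (15, 2), (16, 1), (17, 3), (19, 3), (20, 1), (21, 3), (22, 4), (23, 2), (25, 2), (26, 4), (29, 4), (30, 2), (31, 4), (32, 2), (33, 4), (35, 1), (36, 1), (37, 3), (38, 1), (39, 3), (40, 3), (41, 3), (42, 1), (43, 4), (44, 2), (45, 3), (46, 1), (48, 3), (49, 3), (50, 1), (51, 4)], [(5, 3), (6, 1), (7, 1), (13, 1), (17, 1), (51, 1)]]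

/-- Columns. -/
def g8 : List ℕ := mkCols [[(0, 2), (1, 2), (3, 4), (5, 2), (6, 2), (8, 1), (9, 2), (10, 1), (11, 2), (12, 1), (13, 4), (14, 4), (15, 2), (16, 2), (18, 4), (20, 3), (21, 3), (22, 3), (23, 3), (25, 1), (26, 3), (27, 4), (28, 4), (29, 4), (30, 1), (31, 2), (32, 4), (34, 1), (35, 3), (36, 4), (37, 1), (38, 3), (40, 2), (41, 4), (42, 3), (43, 4), (44, 1), (47, 1), (48, 2), (50, 1), (51, 1)], [(0, 1), (1, 3), (3, 4), (5, 2), (6, 2), (8, 1), (9, 2), (10, 1), (11, 2), (12, 1), (13, 4), (14, 4), (15, 2), (16, 2), (18, 4), (20, 3), (21, 3), (22, 3), (23, 3), (25, 1), (26, 3), (27, 4), (28, 4), (29, 4), (30, 1), (31, 2), (32, 4), (34, 1), (35, 3), (36, 4), (37, 1), (38, 3), (40, 2), (41, 4), (42, 3), (43, 4), (44, 1), (47, 1), (48, 2), (50, 1), (51, 1)], [(2, 4)], [(3, 4)], [(4, 4)], [(5, 4)], [(6, 4)], [(7, 4)], [(8, 4)], [(9, 4)], [(10, 4)], [(11, 4)], [(12, 4)],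 [(13, 4)], [(14, 4)], [(15, 4)], [(16, 4)], [(17, 4)], [(18, 4)], [(19, 4)], [(20, 4)], [(21, 4)], [(22, 4)], [(23, 4)], [(24, 4)], [(25, 4)], [(26, 1)], [(2, 4), (3, 3), (4, 2), (5, 1), (6, 2), (9, 2), (11, 4), (12, 1), (14, 3), (15, 3), (17, 2), (18, 4), (24, 4), (27, 1)], [(2, 2), (4, 4), (5, 4), (6, 2), (7, 3), (8, 2), (9, 4), (10, 4), (11, 4), (12, 4), (13, 2), (14, 1), (15, 1), (16, 4), (17, 2), (18, 3), (19, 2), (20, 3), (21, 3), (23, 3), (24, 3), (28, 1)], [(6, 2), (7, 4), (8, 4), (9, 1), (10, 2), (11, 1), (12, 1), (13, 3), (14, 2), (15, 2), (16, 4), (17, 2), (18, 1), (24, 1), (29, 1)], [(30, 4)], [(31, 4)], [(32, 4)], [(33, 4)], [(2, 2), (3, 2), (4, 1), (5, 3), (7, 2), (8, 3), (9, 2), (10, 2), (11, 1), (13, 2), (14, 2), (17, 4), (18, 3), (19, 2), (30, 2), (31, 1), (32, 3), (33, 4), (34, 1)], [(5, 1), (6, 3), (7, 4), (9, 1), (11, 1), (12, 4), (13, 4), (14, 1), (35,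 1)], [(31, 1), (33, 4), (36, 1)], [(37, 4)], [(38, 4)], [(39, 4)], [(40, 4)], [(3, 2), (4, 3), (5, 2), (6, 3), (7, 1), (8, 3), (9, 4), (10, 1), (13, 3), (14, 1), (16, 3), (18, 4), (19, 1), (24, 4), (25, 4), (38, 4), (39, 4), (40, 4), (41, 1)], [(2, 2), (3, 3), (4, 2), (5, 1), (6, 3), (7, 2), (8, 4), (10, 4), (11, 1), (12, 1), (13, 3), (14, 3), (16, 3), (17, 4), (18, 4), (19, 3), (20, 3), (21, 3), (23, 3), (24, 4), (25, 4), (38, 4), (39, 4), (40, 4), (42, 1)], [(2, 3), (4, 4), (5, 3), (6, 1), (7, 2), (8, 3), (9, 1), (10, 4), (11, 1), (12, 3), (14, 3), (16, 3), (20, 1), (21, 3), (22, 3), (23, 3), (24, 4), (25, 1), (37, 1), (38, 3), (39, 4), (43, 1)], [(44, 4)], [(45, 4)], [(46, 4)], [(6, 4), (7, 4), (47, 1)], [(2, 4), (4, 1), (7, 4), (8, 4), (10, 1), (12, 1), (13, 4), (20, 4), (48, 1)], [(0, 2), (1, 4), (2, 3), (4, 4), (5, 3), (6, 3), (7, 3), (10, 4), (11, 2), (12, 1), (14,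 4), (15, 1), (16, 2), (17, 2), (18, 4), (19, 1), (21, 1), (22, 2), (23, 2), (24, 3), (25, 1), (26, 1), (27, 3), (28, 3), (29, 3), (31, 3), (32, 1), (33, 3), (34, 2), (35, 1), (36, 3), (37, 2), (38, 1), (40, 1), (41, 3), (42, 1), (43, 3), (44, 4), (45, 2), (46, 4), (47, 2), (48, 4), (49, 1), (50, 2), (51, 2)], [(2, 1), (6, 2), (7, 3), (8, 1), (9, 3), (11, 3), (13, 2), (14, 1), (16, 4), (17, 1), (18, 4), (19, 3), (20, 3), (21, 3), (22, 4), (23, 3), (24, 3), (25, 4), (31, 4), (50, 1)], [(2, 2), (3, 2), (4, 4), (9, 3), (10, 2), (11, 4), (12, 4), (13, 3), (14, 3), (17, 4), (18, 1), (19, 4), (24, 1), (25, 1), (37, 3), (38, 1), (39, 1), (40, 1), (44, 2), (51, 1)]]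

/-- Columns. -/
def g9 : List ℕ := mkCols [[(0, 2), (1, 2), (2, 4), (3, 1), (4, 1), (5, 1), (6, 2), (8, 4), (9, 3), (10, 1), (11, 4), (12, 3), (13, 4), (14, 2), (15, 1), (16, 1), (18, 1), (19, 4), (20, 4), (21, 2), (22, 3), (24, 1), (25, 3), (26, 1), (27, 1), (28, 1), (31, 4), (32, 3), (33, 4), (34, 4), (35, 3), (36, 4), (37, 1), (38, 3), (40, 3), (42, 1), (43, 4), (44, 1), (45, 1), (46, 2), (47, 2), (48, 2), (49, 3), (50, 1), (51, 1)], [(0, 1), (1, 3), (2, 4), (3, 1), (4, 1), (5, 1), (6, 2), (8, 4), (9, 3), (10, 1), (11, 4), (12, 3), (13, 4), (14, 2), (15, 1), (16, 1), (18, 1), (19, 4), (20, 4), (21, 2), (22, 3), (24, 1), (25, 3), (26, 1), (27, 1), (28, 1), (31, 4), (32, 3), (33, 4), (34, 4), (35, 3), (36, 4), (37, 1), (38, 3), (40, 3), (42, 1), (43, 4), (44, 1), (45, 1), (46, 2), (47, 2), (48, 2), (49, 3), (50, 1), (51, 1)], [(2, 4)], [(3, 4)], [(4, 4)], [(5, 4)], [(6,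 4)], [(7, 4)], [(8, 4)], [(9, 4)], [(10, 4)], [(11, 4)], [(12, 4)], [(13, 4)], [(14, 4)], [(15, 4)], [(16, 4)], [(17, 4)], [(18, 4)], [(2, 1), (4, 4), (7, 1), (8, 3), (10, 2), (11, 2), (12, 4), (13, 1), (14, 1), (15, 2), (17, 1), (18, 4), (19, 1), (24, 4)], [(2, 2), (4, 4), (5, 4), (6, 2), (7, 3), (8, 2), (9, 4), (10, 4), (11, 4), (12, 4), (13, 2), (14, 1), (15, 1), (16, 4), (17, 2), (18, 3), (19, 2), (20, 4), (21, 3), (23, 3), (24, 3)], [(2, 2), (4, 2), (6, 3), (8, 1), (9, 2), (10, 3), (11, 1), (12, 2), (13, 1), (14, 1), (15, 4), (16, 1), (17, 1), (21, 1)], [(22, 4)], [(2, 2), (4, 3), (5, 1), (7, 3), (9, 4), (11, 2), (12, 3), (13, 3), (14, 4), (15, 2), (17, 3), (18, 1), (23, 1), (24, 1)], [(24, 4)], [(4, 4), (5, 1), (6, 2), (7, 3), (8, 3), (9, 2), (10, 1), (12, 3), (13, 4), (14, 1), (15, 2), (16, 1), (18, 1), (19, 3), (20, 2), (21, 2), (23, 2), (24, 1), (25, 1)], [(26, 4)],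 [(27, 4)], [(28, 4)], [(29, 4)], [(30, 4)], [(2, 2), (3, 3), (4, 3), (6, 3), (7, 3), (8, 2), (9, 2), (10, 3), (11, 2), (12, 2), (13, 3), (14, 2), (15, 1), (17, 2), (19, 3), (24, 2), (30, 2), (32, 2), (33, 1)], [(2, 1), (3, 3), (5, 1), (6, 4), (7, 4), (13, 4), (14, 1), (32, 1)], [(2, 2), (3, 2), (4, 1), (5, 3), (7, 2), (8, 3), (9, 2), (10, 2), (11, 1), (13, 2), (14, 2), (17, 4), (18, 3), (19, 2), (30, 2), (31, 1), (32, 3)], [(34, 4)], [(35, 4)], [(2, 3), (4, 3), (5, 2), (6, 2), (8, 1), (9, 3), (10, 3), (11, 1), (12, 2), (13, 1), (14, 2), (16, 1), (24, 3), (29, 3), (30, 3), (34, 3), (35, 2), (36, 1)], [(37, 4)], [(2, 2), (3, 2), (4, 1), (5, 2), (6, 2), (7, 1), (8, 4), (9, 1), (10, 4), (12, 3), (13, 4), (14, 1), (17, 1), (18, 4), (19, 1), (24, 4), (25, 4), (39, 4), (40, 4)], [(2, 2), (4, 2), (5, 1), (6, 3), (7, 4), (8, 1), (9, 2), (10, 3), (11, 1), (12, 2), (14, 1), (16, 1),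 (17, 1), (39, 1)], [(2, 2), (3, 3), (4, 2), (5, 1), (6, 3), (7, 3), (10, 4), (11, 1), (12, 1), (13, 3), (14, 3), (16, 3), (17, 4), (18, 4), (19, 3), (20, 3), (21, 3), (23, 3), (24, 4), (25, 4), (38, 4), (39, 4)], [(41, 4)], [(42, 4)], [(2, 4), (3, 1), (4, 1), (5, 1), (6, 4), (8, 2), (10, 2), (11, 4), (12, 1), (13, 2), (14, 4), (15, 2), (17, 4), (18, 4), (19, 3), (20, 2), (21, 2), (22, 3), (23, 2), (24, 3), (26, 2), (27, 1), (28, 4), (29, 4), (37, 1), (41, 4), (42, 4), (43, 1)], [(44, 4)], [(2, 4), (3, 4), (4, 1), (9, 4), (10, 1), (12, 1), (16, 4), (17, 4), (45, 1)], [(0, 2), (1, 4), (3, 4), (4, 3), (6, 1), (7, 1), (8, 2), (9, 2), (10, 2), (11, 3), (12, 3), (13, 4), (16, 3), (17, 3), (18, 4), (19, 1), (21, 1), (22, 2), (23, 2), (24, 3), (25, 1), (26, 1), (27, 3), (28, 3), (29, 3), (31, 3), (32, 1), (33, 3), (34, 2), (35, 1), (36, 3), (37, 2), (38, 1), (40, 1), (41, 3), (42,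 1), (43, 3), (44, 4), (45, 2), (47, 2), (48, 4), (50, 2), (51, 2)], [(47, 4)], [(0, 3), (1, 1), (2, 2), (3, 1), (5, 1), (6, 1), (7, 2), (9, 1), (10, 3), (11, 2), (12, 2), (13, 1), (14, 2), (15, 2), (16, 2), (17, 4), (19, 4), (21, 4), (22, 3), (23, 3), (24, 1), (25, 4), (26, 4), (28, 3), (29, 2), (31, 2), (32, 4), (33, 2), (34, 3), (35, 4), (36, 2), (37, 3), (38, 4), (40, 4), (41, 4), (42, 2), (43, 2), (44, 1), (45, 3), (46, 1), (48, 2), (49, 3), (50, 3), (51, 3)], [(49, 4)], [(2, 3), (3, 3), (4, 2), (6, 2), (8, 4), (9, 1), (10, 2), (11, 3), (12, 4), (13, 4), (14, 4), (16, 4), (17, 4), (22, 4), (24, 1), (26, 4), (27, 2), (28, 4), (29, 2), (30, 2), (34, 1), (35, 3), (50, 1)], [(2, 2), (3, 2), (4, 4), (9, 3), (10, 2), (11, 4), (12, 4), (13, 3), (14, 3), (17, 4), (18, 1), (19, 4), (24, 1), (25, 1), (37, 3), (38, 1), (39, 1), (40, 1), (44, 2), (51, 1)]]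

/-- Columns. -/
def g10 : List ℕ := mkCols [[(0, 2), (1, 2), (2, 1), (6, 3), (7, 1), (8, 3), (10, 3), (11, 3), (12, 3), (14, 2), (15, 4), (17, 3), (19, 4), (20, 3), (21, 4), (22, 3), (23, 3), (25, 1), (26, 1), (27, 1), (28, 1), (30, 1), (31, 2), (32, 4), (33, 2), (34, 1), (35, 3), (36, 2), (37, 1), (38, 4), (40, 2), (41, 1), (42, 1), (43, 3), (44, 1), (46, 1), (47, 3), (48, 3), (49, 3), (50, 1), (51, 1)], [(0, 1), (1, 3), (2, 1), (6, 3), (7, 1), (8, 3), (10, 3), (11, 3), (12, 3), (14, 2), (15, 4), (17, 3), (19, 4), (20, 3), (21, 4), (22, 3), (23, 3), (25, 1), (26, 1), (27, 1), (28, 1), (30, 1), (31, 2), (32, 4), (33, 2), (34, 1), (35, 3), (36, 2), (37, 1), (38, 4), (40, 2), (41, 1), (42, 1), (43, 3), (44, 1), (46, 1), (47, 3), (48, 3), (49, 3), (50, 1), (51, 1)], [(4, 1), (5, 1), (6, 4), (7, 4), (11, 1), (12, 4), (13, 4), (14, 1), (15, 4)], [(2, 3), (3, 4), (4, 3), (5, 1),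 (6, 2), (7, 4), (9, 2), (13, 4), (14, 3), (15, 2), (17, 2)], [(2, 2), (4, 3), (6, 3), (8, 1), (9, 2), (10, 3), (11, 1), (12, 2), (13, 1), (14, 1), (15, 4), (16, 1), (17, 1)], [(7, 4), (9, 1), (11, 1), (12, 4), (13, 4), (17, 1)], [(2, 1), (4, 4), (6, 3), (8, 4), (9, 1), (10, 2), (12, 2), (13, 4), (14, 2), (15, 3), (16, 4), (17, 2)], [(2, 2), (4, 2), (5, 4), (6, 3), (9, 3), (13, 1), (14, 2), (15, 3), (17, 3)], [(2, 2), (4, 2), (6, 3), (8, 4), (9, 2), (11, 4), (12, 1), (14, 2), (15, 3), (17, 2)], [(2, 2), (4, 2), (5, 4), (6, 3), (7, 1), (9, 2), (13, 1), (14, 2), (15, 3), (17, 3)], [(2, 1), (4, 4), (6, 4), (8, 4), (9, 1), (10, 1), (12, 2), (13, 4), (14, 2), (15, 3), (16, 4), (17, 2)], [(2, 4), (4, 2), (6, 1), (8, 4), (9, 4), (10, 2), (12, 1), (13, 4), (16, 4)], [(12, 4)], [(2, 3), (4, 3), (6, 2), (9, 3), (11, 1), (12, 4), (13, 4), (14, 3), (15, 2), (17, 3)], [(2, 1), (4, 4), (5,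 4), (6, 4), (7, 1), (8, 4), (10, 2), (11, 4), (12, 3), (14, 1), (15, 3), (16, 4), (17, 1)], [(15, 4)], [(16, 4)], [(2, 4), (4, 1), (5, 1), (6, 1), (7, 4), (8, 1), (10, 3), (11, 1), (12, 2), (14, 3), (15, 2), (16, 1), (17, 3)], [(18, 4)], [(19, 4)], [(20, 4)], [(21, 4)], [(22, 4)], [(23, 4)], [(24, 4)], [(25, 4)], [(26, 4)], [(27, 4)], [(28, 4)], [(29, 4)], [(5, 4), (6, 1), (17, 1), (18, 4), (24, 1), (30, 1)], [(33, 1)], [(32, 4)], [(31, 1)], [(2, 3), (4, 3), (5, 2), (6, 2), (8, 1), (9, 3), (10, 3), (11, 1), (12, 2), (13, 1), (14, 2), (16, 1), (24, 3), (29, 3), (30, 3), (34, 4), (35, 2)], [(5, 1), (6, 1), (8, 1), (10, 3), (12, 3), (13, 1), (14, 4), (15, 3), (16, 1), (17, 3), (18, 4), (24, 4), (29, 3), (35, 1)], [(36, 4)], [(4, 4), (5, 1), (6, 2), (7, 3), (9, 2), (10, 4), (11, 2), (12, 4), (13, 4), (14, 4), (16, 1), (17, 3), (19, 3), (20, 2), (21, 2), (22, 1), (23, 2), (24,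 1), (37, 1)], [(2, 4), (4, 1), (6, 1), (8, 4), (9, 4), (10, 1), (11, 4), (14, 3), (17, 3), (18, 2), (19, 2), (20, 3), (21, 1), (22, 3), (25, 2), (37, 1), (38, 4), (39, 4)], [(2, 2), (4, 2), (5, 1), (7, 3), (8, 2), (9, 4), (10, 2), (11, 4), (12, 4), (13, 4), (14, 3), (16, 1), (17, 2), (18, 1), (19, 4), (20, 1), (23, 2), (24, 1), (25, 1), (39, 1)], [(2, 4), (4, 1), (6, 1), (8, 4), (9, 4), (10, 1), (11, 4), (14, 3), (17, 3), (18, 2), (19, 2), (20, 3), (21, 1), (22, 3), (25, 2), (37, 1), (39, 4), (40, 4)], [(2, 3), (3, 2), (4, 1), (5, 2), (6, 2), (8, 3), (10, 1), (11, 1), (12, 4), (13, 2), (14, 4), (15, 2), (16, 4), (17, 3), (19, 3), (20, 2), (21, 2), (22, 3), (23, 2), (24, 3), (26, 2), (37, 1), (42, 4)], [(2, 3), (3, 3), (4, 1), (6, 4), (7, 2), (8, 3), (9, 4), (10, 1), (11, 1), (12, 3), (13, 2), (15, 3), (16, 3), (17, 1), (22, 3), (24, 3), (26, 3), (37, 1), (41, 4)], [(43, 4)],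 [(0, 3), (1, 1), (3, 1), (4, 3), (5, 1), (6, 4), (7, 3), (8, 3), (9, 3), (10, 3), (11, 2), (12, 2), (15, 4), (16, 2), (17, 2), (19, 4), (21, 4), (22, 3), (23, 3), (24, 2), (25, 4), (26, 4), (27, 2), (28, 2), (29, 2), (31, 2), (32, 4), (33, 2), (34, 3), (35, 4), (36, 2), (37, 3), (38, 4), (40, 4), (41, 2), (42, 4), (43, 2), (45, 3), (46, 1), (47, 3), (48, 1), (50, 3), (51, 3)], [(0, 3), (1, 1), (2, 4), (3, 1), (4, 2), (5, 1), (6, 3), (7, 1), (9, 4), (12, 2), (13, 4), (15, 2), (16, 3), (17, 2), (18, 1), (19, 3), (20, 1), (22, 3), (24, 4), (26, 4), (27, 2), (28, 2), (29, 2), (30, 2), (31, 3), (32, 4), (33, 3), (34, 3), (35, 4), (36, 2), (37, 3), (38, 4), (40, 4), (41, 2), (42, 4), (43, 2), (44, 1), (45, 2), (46, 4), (47, 3), (48, 1), (50, 3), (51, 3)], [(2, 3), (4, 3), (5, 4), (7, 2), (8, 3), (9, 1), (10, 3), (11, 1), (12, 1), (13, 1), (14, 2), (16, 4), (17, 3), (18, 3), (19,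 1), (20, 4), (21, 4), (23, 3), (24, 4), (25, 4), (46, 1)], [(0, 2), (1, 4), (2, 3), (3, 3), (5, 4), (6, 4), (7, 2), (8, 4), (9, 4), (10, 3), (11, 2), (13, 4), (14, 3), (15, 4), (16, 3), (17, 1), (18, 4), (19, 1), (21, 1), (22, 2), (23, 2), (24, 3), (25, 1), (26, 1), (27, 1), (28, 1), (29, 2), (31, 3), (32, 1), (33, 3), (34, 2), (35, 1), (36, 3), (37, 2), (38, 1), (40, 1), (41, 1), (42, 3), (43, 3), (44, 4), (45, 2), (46, 4), (47, 1), (48, 4), (49, 2), (50, 2), (51, 2)], [(48, 4)], [(3, 3), (5, 2), (6, 4), (7, 3), (8, 2), (10, 1), (11, 3), (12, 4), (13, 4), (14, 4), (16, 1), (17, 2), (18, 4), (19, 3), (20, 2), (21, 2), (23, 2), (26, 4), (27, 3), (28, 3), (29, 4), (49, 1)], [(0, 2), (1, 4), (2, 1), (3, 2), (4, 4), (5, 2), (6, 1), (7, 2), (8, 1), (9, 1), (10, 3), (11, 1), (12, 2), (13, 1), (14, 2), (15, 3), (16, 3), (17, 4), (18, 4), (21, 4), (22, 2), (24, 2), (25, 4), (26, 4),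 (27, 4), (28, 4), (29, 3), (30, 2), (31, 3), (32, 4), (33, 3), (34, 4), (35, 4), (36, 2), (37, 4), (38, 4), (40, 3), (41, 4), (42, 1), (43, 2), (44, 4), (45, 2), (46, 4), (48, 2), (49, 2), (50, 3), (51, 2)], [(0, 4), (1, 3), (3, 4), (5, 2), (6, 3), (7, 1), (9, 3), (11, 1), (12, 3), (13, 1), (15, 4), (17, 3), (18, 1), (19, 3), (20, 4), (21, 2), (23, 4), (26, 4), (27, 4), (28, 4), (31, 1), (32, 2), (33, 1), (34, 4), (35, 2), (36, 1), (37, 4), (38, 2), (39, 1), (40, 4), (41, 3), (42, 3), (43, 3), (45, 4), (46, 3), (47, 2), (48, 1), (49, 2), (50, 4)]]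

/-- Columns. -/
def g11 : List ℕ := mkCols [[(0, 2), (1, 3), (2, 1), (3, 3), (4, 3), (5, 3), (6, 2), (7, 1), (8, 1), (10, 4), (11, 2), (13, 3), (15, 3), (16, 2), (17, 4), (18, 3), (20, 4), (21, 1), (22, 2), (24, 4), (26, 2), (27, 4), (28, 3), (32, 4), (34, 3), (36, 1), (37, 3), (38, 1), (39, 3), (40, 3), (41, 3), (42, 1), (43, 4), (44, 2), (45, 3), (46, 1), (48, 3), (49, 3), (50, 1), (51, 4)], [(0, 4), (1, 3), (2, 4), (3, 2), (4, 2), (5, 2), (6, 3), (7, 4), (8, 4), (10, 1), (11, 3), (13, 2), (15, 2), (16, 3), (17, 1), (18, 2), (20, 1), (21, 4), (22, 3), (24, 1), (26, 3), (27, 1), (28, 2), (32, 1), (34, 2), (36, 4), (37, 2), (38, 4), (39, 2), (40, 2), (41, 2), (42, 4), (43, 1), (44, 3), (45, 2), (46, 4), (48, 2), (49, 2), (50, 4), (51, 1)], [(2, 4)], [(3, 4)], [(4, 4)], [(5, 4)], [(6, 4)], [(7, 4)], [(8, 4)], [(9, 4)], [(10, 4)], [(11, 4)], [(12, 4)], [(13, 4)], [(14, 4)],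 [(15, 4)], [(16, 4)], [(17, 4)], [(2, 2), (4, 3), (6, 2), (7, 4), (9, 3), (11, 1), (12, 4), (13, 4), (14, 3), (15, 2), (17, 3), (24, 1)], [(2, 2), (4, 3), (6, 2), (7, 4), (9, 3), (11, 1), (12, 4), (13, 4), (14, 3), (15, 2), (17, 3), (18, 1), (19, 4), (24, 1)], [(20, 1)], [(2, 1), (4, 3), (6, 3), (7, 4), (8, 3), (9, 2), (10, 1), (11, 4), (12, 3), (15, 2), (16, 1), (18, 1), (19, 3), (21, 1), (24, 1)], [(2, 4), (4, 2), (5, 4), (6, 4), (7, 2), (8, 2), (9, 2), (10, 4), (12, 3), (13, 1), (14, 4), (15, 3), (16, 4), (18, 4), (19, 2), (20, 3), (21, 3), (22, 4), (23, 3), (24, 4)], [(5, 1), (6, 3), (7, 4), (9, 1), (11, 1), (12, 4), (13, 4), (14, 1), (23, 1)], [(2, 2), (4, 3), (6, 2), (7, 4), (9, 3), (11, 1), (12, 4), (13, 4), (14, 3), (15, 2), (17, 3), (18, 1)], [(2, 4), (4, 2), (5, 4), (6, 4), (7, 2), (8, 2), (9, 2), (10, 4), (12, 3), (13, 1), (14, 4), (15, 3), (16, 4), (18, 4), (19,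 2), (20, 3), (21, 3), (23, 3), (24, 4), (25, 4)], [(2, 1), (3, 1), (5, 3), (6, 2), (7, 2), (8, 3), (10, 1), (11, 4), (12, 3), (13, 3), (16, 1), (17, 2), (19, 3), (20, 2), (21, 2), (23, 2), (26, 4), (27, 4), (28, 3)], [(2, 1), (3, 3), (5, 1), (6, 4), (7, 4), (13, 4), (14, 1), (27, 1)], [(28, 1)], [(2, 3), (4, 2), (6, 3), (7, 1), (9, 2), (11, 4), (12, 1), (13, 1), (14, 2), (15, 3), (17, 2), (18, 4), (24, 4), (29, 4)], [(30, 4)], [(31, 4)], [(32, 4)], [(33, 4)], [(34, 4)], [(35, 4)], [(2, 3), (3, 3), (4, 4), (5, 3), (6, 1), (7, 3), (8, 3), (9, 3), (10, 1), (11, 4), (12, 3), (13, 4), (14, 2), (15, 3), (16, 1), (17, 4), (18, 1), (19, 3), (24, 4), (29, 3), (30, 3), (32, 2), (34, 3), (35, 2), (36, 1)], [(2, 4), (3, 2), (4, 3), (5, 3), (6, 2), (7, 4), (8, 2), (12, 1), (13, 2), (14, 4), (16, 1), (17, 4), (18, 1), (19, 4), (24, 1), (25, 1), (37, 4), (38, 1), (39, 1), (40, 1)], [(2,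 4), (3, 2), (4, 3), (5, 3), (6, 2), (7, 4), (8, 2), (12, 1), (13, 2), (14, 4), (16, 1), (17, 4), (18, 1), (19, 4), (24, 1), (25, 1), (39, 1), (40, 1)], [(2, 3), (3, 2), (4, 3), (5, 4), (6, 2), (7, 2), (10, 1), (11, 4), (12, 4), (13, 2), (14, 2), (16, 2), (17, 1), (18, 1), (19, 2), (20, 2), (21, 2), (23, 2), (24, 1), (25, 1), (38, 1), (40, 4)], [(6, 4), (7, 1), (40, 1)], [(2, 4), (3, 4), (4, 1), (9, 4), (10, 1), (12, 1), (16, 4), (17, 4), (41, 1)], [(2, 3), (3, 2), (4, 3), (5, 4), (6, 1), (7, 3), (10, 1), (11, 4), (12, 4), (13, 2), (14, 2), (16, 2), (17, 1), (18, 1), (19, 2), (20, 2), (21, 2), (23, 2), (24, 1), (25, 1), (38, 1), (39, 1), (40, 1), (42, 4)], [(0, 2), (1, 1), (2, 3), (3, 4), (4, 2), (6, 2), (7, 3), (9, 2), (10, 3), (11, 2), (12, 1), (16, 1), (17, 1), (18, 4), (19, 2), (20, 3), (21, 2), (22, 3), (25, 1), (26, 2), (27, 2), (28, 4), (29, 2), (30, 4), (31, 3), (32,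 4), (33, 3), (35, 2), (36, 2), (37, 2), (38, 4), (39, 4), (40, 4), (41, 1), (42, 1), (43, 4), (44, 4), (45, 1), (46, 2), (48, 1), (49, 1), (51, 3)], [(44, 4)], [(45, 4)], [(2, 3), (3, 2), (4, 2), (5, 4), (6, 4), (8, 1), (10, 3), (11, 1), (12, 1), (13, 4), (14, 4), (15, 4), (16, 4), (17, 3), (18, 3), (19, 3), (20, 4), (21, 4), (22, 2), (23, 4), (24, 4), (25, 2), (30, 3), (31, 4), (33, 2), (44, 4), (45, 1), (46, 1)], [(47, 4)], [(0, 4), (1, 2), (2, 4), (3, 3), (4, 4), (5, 2), (6, 2), (7, 3), (8, 1), (9, 4), (10, 2), (11, 2), (13, 1), (14, 1), (15, 1), (17, 2), (18, 2), (19, 4), (20, 4), (21, 2), (22, 3), (23, 3), (24, 3), (27, 2), (28, 4), (29, 4), (30, 2), (31, 1), (32, 4), (33, 4), (34, 4), (36, 4), (37, 2), (38, 4), (39, 2), (40, 2), (41, 2), (42, 4), (43, 1), (44, 3), (45, 2), (46, 4), (47, 1), (48, 3), (49, 2), (50, 4), (51, 1)], [(3, 2), (4, 3), (5, 4), (6, 1), (7, 3),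 (8, 3), (9, 2), (11, 3), (14, 4), (15, 3), (17, 1), (18, 4), (19, 2), (20, 3), (21, 3), (22, 2), (23, 3), (24, 1), (25, 4), (26, 2), (27, 1), (28, 2), (29, 4), (30, 4), (31, 2), (32, 1), (33, 3), (34, 2), (38, 4), (39, 4), (40, 4), (42, 2), (44, 4), (47, 4), (49, 1)], [(50, 4)], [(2, 2), (3, 2), (4, 4), (9, 3), (10, 2), (11, 4), (12, 4), (13, 3), (14, 3), (17, 4), (18, 1), (19, 4), (24, 1), (25, 1), (37, 3), (38, 1), (39, 1), (40, 1), (44, 2), (51, 1)]]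

/-- Columns. -/
def g12 : List ℕ := mkCols [[(0, 2), (1, 3), (2, 4), (3, 4), (4, 2), (5, 2), (6, 3), (7, 3), (10, 3), (12, 3), (13, 4), (14, 3), (15, 3), (16, 4), (17, 3), (19, 1), (20, 4), (21, 3), (22, 2), (23, 2), (24, 4), (26, 2), (27, 1), (28, 1), (29, 3), (30, 3), (32, 1), (34, 1), (36, 3), (37, 3), (38, 1), (39, 3), (40, 3), (41, 3), (42, 1), (43, 4), (44, 2), (45, 3), (46, 1), (47, 4), (48, 2), (49, 3), (50, 1), (51, 4)], [(0, 4), (1, 3), (2, 1), (3, 1), (4, 3), (5, 3), (6, 2), (7, 2), (10, 2), (12, 2), (13, 1), (14, 2), (15, 2), (16, 1), (17, 2), (19, 4), (20, 1), (21, 2), (22, 3), (23, 3), (24, 1), (26, 3), (27, 4), (28, 4), (29, 2), (30, 2), (32, 4), (34, 4), (36, 2), (37, 2), (38, 4), (39, 2), (40, 2), (41, 2), (42, 4), (43, 1), (44, 3), (45, 2), (46, 4), (47, 1), (48, 3), (49, 2), (50, 4), (51, 1)], [(2, 2), (4, 3), (5, 1), (6, 2), (7, 4), (9, 2), (13, 4), (14,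 3), (15, 2), (17, 2)], [(2, 3), (3, 4), (4, 3), (5, 1), (6, 2), (7, 4), (9, 2), (13, 4), (14, 3), (15, 2), (17, 2)], [(2, 4), (6, 1), (8, 1), (9, 4), (10, 3), (12, 3), (13, 1), (14, 3), (15, 2), (16, 1), (17, 3)], [(2, 1), (4, 4), (5, 4), (6, 4), (8, 4), (9, 1), (10, 2), (12, 2), (13, 4), (14, 2), (15, 3), (16, 4), (17, 2)], [(5, 1), (6, 4), (7, 4), (9, 1), (11, 1), (12, 4), (13, 4), (14, 1)], [(2, 3), (4, 2), (5, 4), (6, 2), (8, 3), (9, 4), (10, 2), (11, 4), (12, 3), (13, 4), (14, 4)], [(8, 4)], [(2, 1), (4, 3), (6, 4), (8, 1), (9, 2), (10, 3), (11, 1), (12, 2), (13, 1), (14, 1), (16, 1), (17, 1)], [(2, 1), (4, 4), (6, 4), (8, 4), (9, 1), (10, 1), (12, 2), (13, 4), (14, 2), (15, 3), (16, 4), (17, 2)], [(2, 1), (4, 4), (6, 4), (8, 4), (9, 1), (10, 2), (11, 4), (12, 2), (13, 4), (14, 2), (15, 3), (16, 4), (17, 2)], [(12, 4)], [(2, 4), (6, 1), (8, 2), (9, 4), (10, 3), (11, 1),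 (12, 2), (13, 1), (14, 3), (15, 3), (17, 3)], [(2, 4), (4, 1), (5, 1), (6, 1), (7, 4), (8, 1), (10, 3), (11, 1), (12, 2), (14, 3), (15, 2), (16, 1), (17, 3)], [(15, 4)], [(2, 1), (6, 4), (8, 3), (9, 1), (10, 2), (11, 4), (12, 3), (13, 3), (14, 2), (15, 2), (16, 4), (17, 2)], [(2, 1), (4, 4), (5, 4), (6, 4), (7, 1), (8, 4), (10, 2), (11, 4), (12, 3), (14, 1), (15, 3), (16, 4), (17, 1)], [(18, 4)], [(19, 4)], [(20, 4)], [(21, 4)], [(22, 4)], [(23, 4)], [(24, 4)], [(25, 4)], [(2, 4), (3, 3), (4, 2), (5, 1), (7, 1), (8, 1), (9, 1), (10, 3), (11, 3), (13, 2), (14, 1), (15, 1), (16, 1), (18, 3), (24, 3), (26, 4), (27, 2), (29, 3)], [(2, 4), (3, 3), (4, 2), (5, 1), (6, 2), (9, 2), (11, 4), (12, 1), (14, 3), (15, 3), (17, 2), (18, 4), (24, 4), (27, 1)], [(2, 4), (3, 3), (4, 2), (5, 1), (6, 2), (9, 2), (11, 4), (12, 1), (14, 3), (15, 3), (17, 2), (18, 4), (24, 4), (27, 2), (28, 4)],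 [(2, 4), (4, 1), (5, 1), (6, 3), (7, 3), (9, 1), (11, 2), (12, 3), (13, 3), (14, 1), (15, 4), (18, 1), (24, 1), (29, 1)], [(30, 4)], [(31, 4)], [(32, 4)], [(33, 4)], [(5, 1), (6, 1), (8, 1), (10, 3), (12, 3), (13, 1), (14, 4), (15, 3), (16, 1), (17, 3), (18, 4), (24, 4), (29, 3), (34, 4), (35, 2)], [(5, 1), (6, 3), (7, 4), (9, 1), (11, 1), (12, 4), (13, 4), (14, 1), (35, 1)], [(36, 4)], [(2, 4), (4, 1), (6, 1), (8, 4), (9, 4), (10, 1), (11, 4), (14, 3), (17, 3), (18, 2), (19, 2), (20, 3), (21, 1), (22, 3), (25, 2), (39, 4)], [(2, 4), (4, 1), (6, 1), (8, 4), (9, 4), (10, 1), (11, 4), (14, 3), (17, 3), (18, 2), (19, 2), (20, 3), (21, 1), (22, 3), (25, 2), (37, 1), (38, 4), (39, 4)], [(2, 1), (4, 4), (6, 4), (8, 1), (9, 1), (10, 4), (11, 1), (14, 2), (17, 2), (18, 3), (19, 3), (20, 2), (21, 4), (22, 2), (25, 3), (37, 4)], [(2, 1), (4, 4), (7, 1), (8, 1), (10, 4), (12, 4), (13,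 1), (20, 4), (23, 3), (40, 1)], [(0, 2), (1, 1), (3, 2), (5, 1), (6, 2), (7, 2), (8, 4), (10, 3), (11, 1), (13, 3), (14, 2), (16, 4), (17, 4), (18, 2), (20, 1), (22, 3), (23, 2), (24, 3), (26, 2), (27, 2), (28, 4), (29, 2), (30, 4), (31, 3), (32, 4), (33, 3), (35, 2), (36, 2), (37, 2), (38, 3), (39, 3), (42, 1), (44, 4), (45, 1), (46, 2), (48, 1), (49, 1), (51, 3)], [(0, 3), (1, 4), (3, 3), (4, 3), (5, 2), (6, 3), (7, 1), (8, 3), (9, 2), (10, 2), (11, 4), (13, 1), (14, 3), (15, 2), (16, 4), (17, 3), (18, 3), (20, 4), (21, 3), (23, 4), (24, 1), (25, 1), (26, 3), (27, 3), (28, 1), (29, 3), (30, 1), (31, 2), (32, 1), (33, 2), (35, 3), (36, 3), (37, 4), (39, 1), (40, 2), (41, 4), (42, 3), (43, 2), (44, 1), (45, 4), (46, 3), (48, 4), (49, 4), (51, 2)], [(2, 3), (4, 4), (5, 3), (6, 1), (7, 2), (8, 3), (9, 1), (10, 4), (11, 1), (12, 3), (14, 3), (16, 3), (20, 1), (21, 3), (22, 3),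 (23, 3), (24, 4), (25, 1), (37, 1), (38, 3), (39, 4), (43, 1)], [(3, 3), (4, 2), (5, 3), (7, 4), (8, 3), (9, 4), (10, 4), (13, 4), (14, 1), (15, 4), (18, 3), (19, 2), (20, 1), (21, 1), (22, 3), (23, 1), (25, 3), (30, 4), (32, 4), (33, 2), (45, 1)], [(3, 3), (4, 2), (5, 3), (7, 4), (8, 3), (9, 4), (10, 4), (13, 4), (14, 1), (15, 4), (18, 3), (19, 2), (20, 1), (21, 1), (22, 3), (23, 1), (25, 3), (30, 4), (32, 4), (33, 2), (44, 1)], [(46, 4)], [(0, 1), (1, 3), (2, 4), (3, 2), (4, 3), (5, 3), (6, 3), (8, 2), (9, 1), (11, 3), (12, 2), (13, 2), (14, 4), (15, 4), (17, 3), (18, 3), (19, 1), (20, 1), (21, 3), (22, 2), (23, 2), (24, 2), (27, 3), (28, 1), (29, 1), (30, 3), (31, 4), (32, 1), (33, 1), (34, 1), (36, 1), (37, 3), (38, 1), (39, 3), (40, 3), (41, 3), (42, 1), (43, 4), (44, 2), (45, 3), (46, 1), (48, 3), (49, 3), (50, 1), (51, 4)], [(48, 4)], [(2, 2), (3, 3), (4, 4), (6, 4),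 (7, 1), (8, 1), (9, 4), (10, 3), (11, 2), (13, 2), (14, 3), (16, 3), (17, 3), (19, 3), (20, 4), (21, 3), (23, 1), (25, 2), (26, 1), (27, 2), (28, 2), (29, 2), (30, 1), (32, 4), (34, 1), (35, 4), (36, 2), (37, 1), (38, 4), (40, 1), (41, 3), (43, 2), (46, 4), (47, 4), (48, 4), (49, 1), (50, 1)], [(3, 1), (4, 1), (5, 4), (6, 2), (7, 4), (8, 2), (9, 2), (12, 1), (13, 1), (14, 3), (16, 2), (17, 2), (18, 2), (19, 1), (20, 2), (21, 2), (22, 2), (23, 2), (25, 3), (26, 4), (27, 2), (28, 4), (30, 1), (32, 4), (33, 2), (34, 1), (35, 4), (38, 1), (39, 1), (40, 1), (42, 3), (47, 1)], [(0, 3), (1, 4), (2, 2), (3, 1), (4, 1), (6, 2), (7, 2), (8, 1), (9, 1), (10, 4), (11, 3), (12, 3), (13, 2), (14, 1), (16, 1), (17, 4), (18, 1), (19, 4), (20, 1), (21, 3), (24, 2), (25, 1), (26, 2), (29, 3), (30, 3), (31, 2), (32, 1), (33, 2), (34, 1), (35, 2), (36, 3), (37, 4), (38, 1), (39, 2), (40, 3),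 (41, 2), (42, 2), (43, 4), (44, 2), (45, 3), (46, 3), (47, 4), (48, 2), (49, 4), (50, 1), (51, 3)]]

/-- Columns. -/
def g13 : List ℕ := mkCols [[(0, 2), (1, 3), (2, 3), (3, 1), (4, 1), (5, 4), (6, 4), (7, 2), (8, 4), (9, 4), (10, 1), (11, 3), (12, 4), (13, 2), (14, 2), (15, 2), (16, 1), (18, 1), (21, 1), (22, 2), (23, 4), (24, 3), (25, 1), (26, 2), (29, 3), (30, 1), (31, 4), (32, 1), (33, 4), (34, 1), (35, 2), (36, 3), (37, 3), (38, 1), (39, 4), (40, 3), (41, 2), (42, 2), (43, 4), (44, 2), (45, 3), (47, 4), (48, 2), (49, 4), (50, 1), (51, 4)], [(0, 4), (1, 3), (2, 2), (3, 4), (4, 4), (5, 1), (6, 1), (7, 3), (8, 1), (9, 1), (10, 4), (11, 2), (12, 1), (13, 3), (14, 3), (15, 3), (16, 4), (18, 4), (21, 4), (22, 3), (23, 1), (24, 2), (25, 4), (26, 3), (29, 2), (30, 4), (31, 1), (32, 4), (33, 1), (34, 4), (35, 3), (36, 2), (37, 2), (38, 4), (39, 1), (40, 2), (41, 3), (42, 3), (43,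 1), (44, 3), (45, 2), (47, 1), (48, 3), (49, 1), (50, 4), (51, 1)], [(2, 2), (4, 3), (6, 2), (9, 3), (11, 1), (12, 4), (14, 3), (15, 2), (17, 3)], [(3, 4)], [(4, 1)], [(2, 1), (4, 4), (5, 4), (6, 4), (8, 4), (9, 1), (10, 2), (12, 2), (13, 4), (14, 2), (15, 3), (16, 4), (17, 2)], [(2, 1), (4, 4), (6, 3), (8, 4), (9, 1), (10, 2), (12, 2), (13, 4), (14, 2), (15, 3), (16, 4), (17, 2)], [(2, 3), (4, 2), (6, 2), (7, 4), (9, 3), (12, 4), (14, 3), (15, 2), (17, 3)], [(2, 2), (4, 2), (6, 3), (8, 4), (9, 2), (11, 4), (12, 1), (14, 2), (15, 3), (17, 2)], [(9, 4)], [(2, 4), (4, 1), (6, 1), (8, 4), (9, 4), (10, 1), (12, 1), (13, 4), (16, 4)], [(11, 1)], [(2, 1), (4, 3), (6, 4), (8, 1), (9, 1), (10, 3), (11, 1), (12, 3), (13, 1), (16, 1)], [(4, 1), (11, 1), (13, 4)], [(14, 4)], [(2, 3), (4, 3), (6, 2), (8, 4), (9, 3), (10, 2), (11, 4), (12, 3), (13, 4), (14, 4), (16, 4), (17, 4)], [(2,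 2), (4, 3), (6, 3), (9, 2), (12, 1), (14, 2), (15, 3), (16, 4), (17, 2)], [(17, 4)], [(18, 4)], [(2, 1), (4, 4), (7, 1), (8, 3), (10, 2), (11, 2), (12, 4), (13, 1), (14, 1), (15, 2), (17, 1), (18, 4), (19, 1), (24, 4)], [(2, 4), (4, 2), (6, 2), (7, 1), (8, 2), (9, 3), (10, 4), (11, 1), (12, 2), (15, 3), (16, 4), (18, 4), (19, 2), (20, 4), (21, 3), (24, 4)], [(21, 1)], [(22, 4)], [(23, 4)], [(24, 4)], [(2, 3), (4, 2), (6, 2), (9, 3), (12, 4), (14, 3), (15, 2), (17, 3), (25, 4)], [(26, 4)], [(27, 4)], [(28, 4)], [(29, 4)], [(2, 3), (4, 3), (6, 2), (9, 3), (11, 1), (12, 4), (14, 3), (15, 2), (17, 3), (30, 4)], [(2, 2), (4, 2), (5, 4), (6, 4), (9, 2), (11, 4), (12, 1), (14, 2), (15, 3), (17, 3), (18, 4), (24, 1), (30, 2), (33, 1)], [(2, 1), (4, 4), (7, 1), (8, 3), (10, 2), (11, 2), (12, 4), (13, 1), (14, 1), (15, 2), (17, 1), (18, 4), (19, 2), (24, 4), (32, 4)], [(2, 2), (4, 2),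 (5, 4), (6, 4), (9, 2), (11, 4), (12, 1), (14, 2), (15, 3), (17, 3), (18, 4), (24, 1), (30, 2), (31, 1)], [(34, 4)], [(35, 4)], [(36, 4)], [(2, 1), (3, 3), (4, 4), (6, 1), (7, 2), (8, 3), (9, 2), (10, 1), (11, 2), (12, 2), (13, 2), (14, 3), (16, 3), (17, 4), (22, 3), (24, 3), (26, 3), (41, 4), (42, 1)], [(0, 3), (1, 4), (2, 2), (3, 3), (6, 1), (10, 3), (11, 4), (12, 3), (13, 3), (15, 2), (17, 3), (18, 1), (19, 4), (21, 1), (23, 3), (24, 4), (29, 2), (30, 1), (31, 2), (32, 1), (33, 2), (35, 3), (36, 3), (37, 4), (38, 1), (39, 2), (40, 2), (41, 3), (42, 3), (43, 2), (44, 1), (45, 4), (46, 3), (48, 4), (49, 4), (51, 2)], [(0, 4), (1, 2), (2, 4), (3, 3), (4, 2), (5, 4), (7, 2), (8, 1), (11, 2), (12, 4), (13, 4), (14, 2), (16, 3), (18, 3), (19, 3), (20, 4), (21, 2), (22, 3), (23, 3), (24, 1), (25, 2), (26, 2), (27, 3), (28, 3), (30, 3), (31, 1), (32, 3), (33, 1), (35, 4), (36,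 4), (37, 3), (38, 3), (39, 2), (40, 3), (41, 1), (42, 3), (43, 3), (44, 3), (45, 2), (46, 4), (48, 2), (49, 2), (51, 1)], [(0, 3), (1, 4), (3, 2), (4, 2), (5, 4), (8, 3), (9, 2), (10, 1), (12, 3), (13, 1), (14, 3), (15, 3), (17, 1), (18, 2), (19, 1), (20, 3), (21, 4), (22, 2), (23, 1), (24, 1), (26, 3), (27, 4), (28, 1), (29, 3), (30, 1), (31, 2), (32, 1), (33, 2), (35, 3), (36, 3), (37, 3), (38, 2), (39, 2), (40, 1), (41, 4), (42, 4), (44, 1), (45, 4), (46, 3), (48, 4), (49, 4), (51, 2)], [(41, 4)], [(2, 3), (3, 3), (4, 1), (6, 4), (7, 2), (8, 3), (9, 4), (10, 1), (11, 1), (12, 3), (13, 2), (15, 3), (16, 3), (17, 1), (22, 3), (24, 3), (26, 3), (37, 1), (41, 4)], [(2, 4), (3, 1), (4, 1), (5, 1), (6, 4), (8, 2), (10, 2), (11, 4), (12, 1), (13, 2), (14, 4), (15, 2), (17, 4), (18, 4), (19, 3), (20, 2), (21, 2), (22, 3), (23, 2), (24, 3), (26, 2), (27, 1), (28, 4), (29, 4), (37,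 1), (41, 4), (42, 4), (43, 1)], [(3, 4), (4, 4), (5, 1), (8, 2), (9, 2), (10, 3), (12, 1), (13, 1), (14, 1), (16, 3), (17, 2), (18, 4), (19, 3), (20, 3), (21, 3), (22, 3), (23, 3), (24, 1), (25, 4), (26, 3), (27, 4), (28, 3), (29, 4), (30, 4), (34, 2), (35, 1), (38, 4), (39, 4), (40, 4), (42, 2), (47, 4)], [(2, 4), (3, 3), (6, 2), (7, 4), (8, 2), (9, 1), (11, 3), (12, 3), (14, 2), (16, 3), (17, 4), (19, 4), (20, 1), (21, 1), (22, 3), (23, 1), (24, 3), (25, 1), (26, 3), (27, 4), (28, 3), (29, 4), (31, 3), (33, 3), (34, 2), (35, 1), (50, 4)], [(2, 4), (4, 3), (5, 3), (6, 1), (7, 4), (8, 3), (10, 3), (11, 1), (12, 4), (13, 4), (14, 4), (15, 2), (16, 2), (17, 3), (18, 4), (19, 1), (20, 1), (23, 2), (24, 4), (25, 1), (26, 2), (27, 4), (28, 4), (29, 3), (30, 1), (32, 4), (34, 1), (35, 4), (36, 2), (37, 1), (38, 4), (40, 1), (41, 3), (43, 2), (47, 4), (48, 4), (50, 1)], [(2, 3),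 (3, 4), (4, 4), (5, 1), (7, 3), (8, 2), (9, 1), (10, 4), (11, 4), (12, 4), (14, 3), (16, 4), (18, 4), (19, 1), (22, 3), (24, 3), (25, 4), (26, 3), (27, 4), (28, 3), (29, 1), (30, 1), (34, 3), (35, 4), (37, 2), (38, 4), (39, 4), (40, 4), (44, 4)], [(2, 3), (3, 2), (4, 4), (5, 1), (7, 2), (9, 3), (11, 3), (12, 4), (14, 3), (15, 3), (16, 3), (17, 2), (18, 4), (19, 4), (21, 4), (23, 4), (24, 1), (25, 4), (26, 2), (27, 4), (28, 4), (29, 1), (31, 3), (32, 1), (33, 3), (34, 4), (35, 1), (36, 3), (37, 4), (38, 2), (39, 1), (44, 1), (45, 4), (46, 4)], [(49, 4)], [(2, 3), (3, 2), (4, 2), (5, 4), (6, 2), (7, 1), (8, 3), (9, 1), (11, 1), (12, 3), (15, 3), (16, 2), (17, 4), (18, 4), (19, 1), (20, 4), (21, 4), (22, 2), (23, 4), (24, 3), (25, 4), (26, 2), (27, 1), (28, 2), (29, 1), (30, 2), (31, 3), (33, 3), (34, 3), (35, 4), (45, 4)], [(0, 3), (1, 4), (3, 2), (4, 3), (5, 3), (6, 2), (7,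 4), (9, 4), (11, 1), (12, 3), (13, 2), (14, 1), (15, 1), (16, 2), (19, 4), (20, 1), (23, 4), (24, 2), (26, 4), (27, 3), (28, 3), (29, 3), (30, 4), (32, 1), (34, 1), (35, 1), (36, 3), (37, 4), (38, 1), (39, 3), (40, 3), (41, 1), (42, 3), (43, 4), (44, 2), (45, 3), (46, 1), (47, 4), (48, 2), (49, 1), (50, 1), (51, 3)]]

/-- Columns. -/
def g14 : List ℕ := mkCols [[(0, 2), (1, 2), (2, 1), (3, 3), (4, 2), (5, 3), (6, 1), (7, 1), (8, 3), (9, 1), (10, 2), (12, 1), (14, 3), (15, 4), (17, 3), (18, 4), (19, 1), (21, 4), (22, 3), (25, 2), (26, 4), (27, 3), (28, 4), (29, 2), (31, 2), (32, 4), (33, 2), (34, 3), (35, 4), (36, 2), (38, 2), (39, 3), (41, 1), (42, 2), (43, 2), (44, 4), (45, 3), (46, 1), (48, 3), (49, 3), (50, 3), (51, 1)], [(0, 1), (1, 3), (2, 1), (3, 3), (4, 2), (5, 3), (6, 1), (7, 1), (8, 3), (9, 1), (10, 2), (12, 1), (14, 3), (15, 4), (17, 3), (18, 4), (19, 1), (21, 4),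 (22, 3), (25, 2), (26, 4), (27, 3), (28, 4), (29, 2), (31, 2), (32, 4), (33, 2), (34, 3), (35, 4), (36, 2), (38, 2), (39, 3), (41, 1), (42, 2), (43, 2), (44, 4), (45, 3), (46, 1), (48, 3), (49, 3), (50, 3), (51, 1)], [(2, 4)], [(3, 4)], [(2, 1), (4, 3), (6, 4), (8, 1), (9, 1), (10, 3), (12, 4), (13, 1), (16, 1)], [(7, 1), (8, 1), (9, 4), (11, 1), (15, 1), (16, 4), (17, 4)], [(5, 1), (6, 4), (7, 4), (9, 1), (11, 1), (12, 4), (13, 4), (14, 1)], [(2, 2), (4, 3), (5, 1), (6, 3), (8, 2), (9, 1), (10, 3), (11, 1), (12, 2), (13, 1), (14, 1)], [(8, 4)], [(2, 4), (4, 1), (5, 1), (6, 1), (7, 4), (8, 1), (9, 4), (10, 3), (11, 1), (12, 2), (14, 4), (15, 2), (16, 1), (17, 3)], [(2, 4), (4, 1), (6, 1), (8, 4), (9, 4), (10, 1), (12, 1), (13, 4), (16, 4)], [(2, 3), (4, 2), (6, 2), (8, 4), (9, 3), (10, 2), (11, 4), (12, 3), (13, 4), (14, 4), (15, 1), (16, 4), (17, 4)], [(2, 2), (4, 3), (6,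 3), (9, 2), (14, 2), (15, 3), (17, 2)], [(2, 2), (4, 3), (6, 3), (9, 2), (12, 1), (13, 4), (14, 2), (15, 3), (17, 2)], [(2, 4), (4, 1), (5, 1), (6, 1), (7, 4), (8, 1), (10, 3), (11, 1), (12, 2), (14, 3), (15, 2), (16, 1), (17, 3)], [(2, 2), (4, 3), (6, 3), (9, 2), (12, 1), (14, 2), (15, 2), (17, 2)], [(2, 2), (4, 3), (6, 3), (9, 2), (12, 1), (14, 2), (15, 3), (16, 4), (17, 2)], [(2, 1), (4, 4), (5, 4), (6, 4), (7, 1), (8, 4), (10, 2), (11, 4), (12, 3), (14, 1), (15, 3), (16, 4), (17, 1)], [(18, 4)], [(19, 4)], [(5, 1), (6, 3), (7, 4), (9, 1), (11, 1), (12, 4), (13, 4), (14, 1), (20, 1), (23, 2)], [(2, 3), (4, 1), (6, 1), (7, 4), (8, 3), (9, 4), (10, 1), (11, 4), (12, 4), (14, 2), (16, 1), (17, 2), (18, 1), (19, 3), (21, 1), (24, 1)], [(2, 3), (4, 3), (7, 3), (8, 4), (10, 2), (11, 1), (12, 1), (13, 2), (14, 2), (15, 1), (16, 4), (17, 2), (18, 4), (19, 2), (20, 3), (21, 3),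 (22, 4), (23, 3), (24, 4)], [(23, 4)], [(2, 4), (4, 1), (5, 1), (6, 1), (7, 1), (8, 2), (9, 3), (10, 3), (11, 1), (12, 3), (13, 1), (14, 3), (15, 3), (17, 2), (24, 4)], [(2, 2), (4, 4), (5, 4), (6, 1), (7, 2), (8, 2), (10, 4), (12, 2), (13, 1), (14, 2), (16, 4), (17, 3), (18, 4), (19, 2), (20, 3), (21, 3), (23, 3), (24, 4), (25, 4)], [(2, 4), (3, 3), (4, 2), (5, 1), (6, 2), (9, 2), (11, 4), (12, 1), (14, 3), (15, 3), (17, 2), (18, 4), (24, 4), (26, 4), (27, 2)], [(2, 4), (3, 3), (4, 2), (5, 1), (6, 2), (9, 2), (11, 4), (12, 1), (14, 3), (15, 3), (17, 2), (18, 4), (24, 4), (27, 1)], [(3, 3), (5, 2), (6, 3), (7, 3), (8, 3), (10, 1), (11, 4), (12, 3), (13, 4), (14, 4), (16, 1), (17, 2), (19, 3), (20, 2), (21, 2), (23, 2), (27, 2), (28, 4)], [(2, 4), (4, 1), (5, 1), (6, 1), (7, 4), (8, 1), (10, 3), (11, 1), (12, 2), (14, 4), (15, 2), (16, 1), (17, 3), (29, 4)], [(30, 4)], [(31,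 4)], [(32, 4)], [(33, 4)], [(34, 4)], [(35, 4)], [(36, 4)], [(0, 2), (1, 4), (2, 3), (3, 4), (4, 3), (5, 4), (6, 2), (9, 2), (10, 3), (11, 2), (12, 1), (13, 4), (14, 2), (15, 1), (16, 4), (17, 1), (18, 4), (20, 1), (21, 2), (22, 3), (23, 3), (24, 4), (25, 1), (26, 1), (27, 3), (28, 3), (29, 3), (30, 1), (31, 3), (32, 1), (33, 3), (34, 2), (35, 1), (36, 3), (37, 3), (38, 1), (40, 1), (41, 3), (42, 1), (43, 3), (44, 4), (45, 2), (46, 4), (47, 2), (48, 4), (50, 2), (51, 2)], [(0, 2), (1, 4), (2, 1), (3, 1), (5, 4), (6, 2), (7, 3), (9, 4), (10, 3), (11, 4), (12, 4), (14, 2), (15, 1), (16, 2), (17, 3), (18, 2), (19, 2), (20, 1), (21, 2), (23, 3), (24, 4), (25, 4), (26, 1), (27, 3), (28, 3), (29, 3), (30, 1), (31, 1), (32, 1), (33, 3), (34, 2), (35, 1), (36, 3), (37, 2), (38, 2), (40, 1), (41, 3), (42, 1), (43, 3), (45, 1), (46, 4), (47, 2), (48, 4), (50, 2), (51, 2)], [(0, 3),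 (1, 1), (3, 1), (4, 2), (6, 3), (7, 1), (8, 1), (11, 1), (12, 3), (13, 3), (14, 4), (15, 2), (16, 2), (17, 2), (18, 3), (19, 1), (20, 2), (21, 1), (22, 3), (23, 2), (25, 1), (26, 4), (27, 2), (28, 2), (29, 2), (30, 1), (32, 4), (34, 3), (35, 4), (36, 2), (37, 3), (38, 4), (39, 1), (40, 4), (41, 2), (42, 4), (43, 2), (44, 1), (45, 3), (46, 4), (47, 3), (48, 1), (50, 3), (51, 3)], [(0, 4), (1, 3), (2, 4), (3, 1), (4, 1), (5, 3), (6, 1), (7, 2), (8, 3), (9, 3), (11, 3), (14, 1), (15, 3), (16, 3), (18, 1), (21, 2), (22, 2), (23, 2), (25, 4), (26, 2), (27, 1), (28, 1), (29, 1), (30, 4), (31, 3), (32, 1), (34, 4), (35, 2), (36, 1), (37, 4), (38, 2), (40, 3), (41, 1), (42, 2), (43, 1), (44, 4), (47, 4), (48, 3), (50, 4), (51, 4)], [(2, 2), (3, 4), (5, 4), (6, 4), (8, 4), (9, 4), (11, 2), (12, 4), (13, 2), (14, 4), (16, 3), (17, 3), (22, 3), (24, 3), (25, 1), (26, 3), (27, 2), (29,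 1), (30, 1), (31, 3), (32, 4), (33, 2), (34, 3), (38, 1), (39, 1), (40, 1), (41, 1), (42, 3), (44, 1), (47, 1), (49, 3)], [(0, 2), (1, 4), (3, 3), (4, 4), (5, 4), (6, 4), (7, 4), (8, 1), (9, 1), (10, 4), (13, 4), (14, 3), (16, 2), (17, 4), (18, 1), (19, 4), (20, 2), (21, 3), (23, 4), (24, 3), (25, 2), (26, 4), (27, 2), (28, 1), (29, 4), (30, 1), (31, 1), (36, 3), (37, 2), (38, 2), (39, 1), (40, 2), (41, 3), (43, 3), (45, 2), (46, 4), (47, 3), (48, 4), (50, 2), (51, 2)], [(0, 3), (1, 1), (2, 3), (3, 1), (4, 1), (5, 2), (6, 3), (7, 4), (8, 4), (10, 2), (11, 1), (13, 3), (15, 2), (16, 2), (17, 1), (19, 3), (20, 4), (21, 4), (22, 3), (23, 1), (24, 4), (25, 3), (26, 2), (27, 2), (28, 4), (30, 1), (31, 3), (32, 4), (33, 2), (34, 3), (35, 4), (37, 2), (38, 1), (39, 1), (40, 4), (41, 4), (42, 2), (43, 1), (44, 2), (45, 2), (48, 2), (49, 3), (50, 3), (51, 3)], [(44, 4)], [(45, 4)],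 [(46, 4)], [(2, 4), (3, 3), (4, 2), (6, 1), (7, 4), (9, 2), (10, 4), (11, 2), (12, 1), (13, 1), (14, 3), (15, 2), (16, 1), (17, 3), (19, 2), (20, 4), (21, 4), (23, 4), (24, 1), (26, 1), (27, 3), (28, 1), (29, 2), (30, 1), (31, 3), (32, 4), (33, 2), (34, 1), (35, 3), (47, 1)], [(2, 2), (4, 3), (5, 4), (6, 4), (7, 2), (8, 4), (10, 1), (11, 4), (12, 4), (13, 2), (14, 3), (15, 3), (17, 4), (18, 1), (19, 1), (20, 2), (21, 2), (23, 3), (24, 4), (26, 4), (27, 3), (28, 3), (29, 2), (30, 3), (31, 2), (32, 2), (33, 3), (34, 3), (35, 2), (36, 1), (48, 1)], [(49, 4)], [(50, 4)], [(0, 2), (1, 4), (2, 4), (3, 1), (4, 3), (5, 4), (6, 1), (8, 4), (9, 4), (10, 4), (11, 2), (14, 2), (15, 4), (16, 1), (17, 1), (18, 3), (19, 4), (20, 1), (22, 3), (23, 1), (24, 1), (25, 2), (26, 2), (27, 3), (28, 2), (29, 2), (30, 1), (32, 1), (33, 3), (36, 3), (37, 4), (38, 4), (40, 3), (41, 4), (42, 1), (43,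 2), (45, 2), (46, 4), (48, 2), (49, 2), (50, 3), (51, 3)]]

/-- Columns. -/
def g15 : List ℕ := mkCols [[(0, 1)], [(1, 1)], [(2, 3), (4, 2), (5, 1), (6, 2), (8, 3), (9, 3), (10, 1), (11, 2), (13, 1), (14, 1), (16, 1), (17, 1)], [(2, 1), (4, 4), (6, 4), (8, 1), (9, 1), (10, 4), (12, 4), (13, 1), (16, 1)], [(2, 2), (4, 3), (5, 1), (6, 3), (7, 4), (8, 1), (9, 2), (10, 3), (11, 1), (12, 2), (14, 1), (16, 1), (17, 1)], [(5, 4), (6, 1), (7, 1), (13, 1), (17, 1)], [(7, 1)], [(6, 1)], [(2, 4), (3, 1), (5, 4), (6, 1), (7, 1), (8, 4), (9, 4), (10, 1), (11, 4), (12, 2), (13, 1), (14, 4), (17, 4)], [(11, 1), (13, 4)], [(2, 4), (3, 1), (5, 4), (6, 1), (7, 1), (13, 1), (14, 4)], [(9, 1), (17, 1)], [(12, 1)], [(17, 1)], [(2, 3), (4, 2), (6, 2), (8, 3), (9, 3), (10, 2), (11, 3), (12, 4), (13, 4), (14, 4), (17, 4)], [(15, 1)], [(2, 4), (3, 1), (4, 1), (6, 1), (8, 4), (10, 1), (11, 4), (12,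 1)], [(13, 1)], [(4, 4), (5, 1), (6, 2), (7, 3), (9, 2), (10, 4), (11, 2), (12, 4), (13, 4), (14, 4), (16, 1), (17, 3), (18, 1), (19, 3), (20, 2), (21, 2), (22, 1), (23, 2), (24, 1)], [(2, 3), (4, 1), (5, 1), (6, 4), (7, 3), (8, 3), (10, 1), (12, 3), (13, 4), (14, 3), (16, 1), (17, 2), (18, 1), (19, 3), (20, 2), (21, 2), (23, 2), (24, 1), (25, 1)], [(20, 1)], [(2, 2), (4, 2), (5, 1), (7, 3), (8, 2), (9, 4), (10, 2), (11, 4), (12, 4), (13, 4), (14, 3), (16, 1), (17, 2), (18, 1), (19, 4), (20, 1), (21, 1), (23, 2), (24, 1), (25, 1)], [(6, 1), (7, 1), (9, 4), (11, 4), (12, 1), (13, 1), (24, 4)], [(2, 1), (4, 4), (7, 1), (8, 1), (10, 4), (12, 4), (13, 1), (20, 4), (23, 4)], [(6, 1), (7, 1), (9, 4), (11, 4), (12, 1), (13, 1), (22, 4)], [(6, 1), (7, 1), (9, 4), (11, 4), (12, 1), (13, 1), (14, 4), (17, 4), (18, 4), (19, 1), (24, 4)], [(26, 1)], [(2, 3), (3, 4), (4, 2), (5, 1), (6,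 1), (7, 4), (8, 2), (9, 3), (10, 3), (11, 2), (12, 1), (14, 2), (16, 1), (17, 1), (19, 4), (20, 1), (21, 1), (23, 1), (27, 1)], [(28, 1)], [(2, 2), (4, 4), (6, 3), (7, 1), (8, 3), (9, 1), (10, 3), (11, 3), (13, 4), (14, 3), (16, 4), (17, 3), (19, 1), (20, 4), (21, 4), (23, 4), (29, 1)], [(2, 3), (4, 1), (6, 1), (7, 3), (8, 3), (10, 1), (11, 4), (12, 3), (13, 4), (14, 2), (16, 1), (17, 3), (19, 4), (20, 1), (21, 1), (22, 1), (23, 1), (24, 1), (30, 1)], [(31, 1)], [(2, 3), (3, 4), (4, 2), (5, 1), (7, 3), (8, 3), (9, 4), (10, 2), (11, 4), (12, 4), (13, 4), (14, 3), (16, 1), (17, 2), (18, 1), (19, 3), (20, 1), (21, 1), (23, 1), (24, 1), (25, 1), (32, 1)], [(33, 1)], [(34, 1)], [(2, 1), (4, 4), (5, 1), (6, 3), (8, 1), (9, 1), (10, 4), (11, 1), (12, 3), (14, 1), (35, 1)], [(36, 1)], [(37, 4)], [(38, 4)], [(39, 4)], [(40, 4)], [(2, 4), (4, 2), (6, 2), (7, 1), (8, 4), (9, 3), (10,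 2), (11, 3), (12, 3), (13, 1), (14, 4), (16, 4), (17, 3), (18, 4), (19, 1), (24, 4), (25, 4), (38, 4), (39, 4), (40, 4), (41, 1)], [(2, 4), (3, 1), (4, 2), (5, 3), (6, 4), (7, 3), (8, 4), (9, 2), (10, 2), (11, 3), (12, 2), (13, 1), (16, 3), (17, 1), (18, 4), (19, 3), (20, 3), (21, 3), (23, 3), (24, 4), (25, 4), (38, 4), (39, 4), (40, 4), (42, 1)], [(2, 4), (4, 2), (5, 4), (6, 2), (8, 4), (9, 4), (10, 2), (11, 4), (12, 2), (13, 4), (14, 4), (16, 4), (18, 4), (19, 1), (22, 1), (25, 4), (37, 1), (38, 3), (39, 4), (43, 1)], [(2, 1), (4, 3), (6, 3), (7, 4), (8, 1), (9, 2), (10, 3), (11, 2), (12, 2), (14, 1), (16, 1), (17, 1), (18, 1), (19, 4), (24, 1), (25, 1), (37, 3), (38, 1), (39, 1), (40, 1), (44, 1)], [(2, 1), (4, 4), (5, 1), (6, 2), (7, 4), (8, 2), (9, 2), (10, 3), (11, 3), (12, 1), (13, 4), (14, 2), (17, 1), (18, 1), (19, 4), (24, 1), (25, 1), (38, 4), (39, 1), (40, 1),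 (45, 1)], [(2, 3), (4, 3), (5, 4), (7, 2), (8, 3), (9, 1), (10, 3), (11, 1), (12, 1), (13, 1), (14, 2), (16, 4), (17, 3), (18, 4), (19, 1), (20, 4), (23, 3), (24, 4), (25, 4), (37, 4), (39, 4), (46, 1)], [(47, 1)], [(48, 1)], [(2, 3), (3, 1), (4, 2), (5, 4), (6, 2), (7, 1), (8, 3), (9, 3), (10, 2), (11, 4), (12, 3), (14, 4), (16, 4), (17, 4), (37, 4), (49, 1)], [(2, 1), (6, 2), (7, 3), (8, 1), (9, 3), (11, 3), (13, 2), (14, 1), (16, 4), (17, 1), (18, 4), (19, 3), (20, 3), (21, 3), (22, 4), (23, 3), (24, 3), (25, 4), (50, 1)], [(5, 3), (6, 1), (7, 1), (13, 1), (17, 1), (51, 1)]]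

/-- Columns. -/
def g16 : List ℕ := mkCols [[(0, 1)], [(1, 1)], [(2, 2), (4, 3), (5, 4), (6, 3), (8, 2), (9, 2), (10, 4), (11, 3), (13, 4), (14, 4), (16, 4), (17, 4)], [(2, 4), (4, 1), (9, 4), (10, 1), (12, 1), (16, 4), (17, 4)], [(4, 4)], [(5, 4), (6, 1), (7, 1), (13, 1), (17, 1)], [(8, 4)], [(2, 1), (3, 4), (5, 1), (6, 4), (7, 4), (8, 1), (9, 1), (10, 4), (11, 1), (12, 3), (13, 4), (14, 1), (17, 1)], [(6, 4)], [(7, 4), (8, 4), (9, 1), (13, 4), (17, 1)], [(2, 3), (4, 3), (5, 4), (6, 2), (8, 3), (9, 3), (10, 3), (11, 4), (12, 3), (13, 4), (14, 4), (16, 4)], [(11, 1)], [(12, 1)], [(2, 4), (3, 1), (5, 4), (6, 2), (7, 1), (8, 4), (9, 4), (10, 1), (11, 4), (12, 2), (13, 1), (14, 4)], [(4, 1), (5, 1), (9, 4), (12, 1), (13, 4), (16, 4), (17, 4)], [(15, 4)], [(2, 1), (3, 4), (4, 4), (6, 4), (8, 1), (10, 4), (11, 1), (12, 4)], [(7, 1), (8, 1), (13, 1)], [(2, 2), (4, 2), (7, 2), (8,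 1), (10, 3), (11, 4), (12, 4), (13, 3), (14, 3), (15, 4), (16, 1), (17, 3), (18, 1), (19, 3), (20, 2), (21, 2), (22, 1), (23, 2), (24, 1)], [(5, 1), (6, 3), (7, 4), (9, 1), (11, 1), (12, 4), (13, 4), (14, 1), (15, 4), (20, 1), (21, 1), (23, 1)], [(20, 1)], [(2, 2), (4, 2), (6, 3), (8, 1), (9, 2), (10, 3), (11, 1), (12, 2), (13, 1), (14, 1), (15, 4), (16, 1), (17, 1), (21, 1)], [(6, 1), (7, 1), (9, 4), (11, 4), (12, 1), (13, 1), (24, 4)], [(2, 3), (4, 2), (6, 2), (8, 3), (9, 3), (10, 2), (11, 3), (12, 3), (14, 4), (17, 4), (19, 1), (20, 4), (21, 4)], [(6, 1), (7, 1), (9, 4), (11, 4), (12, 1), (13, 1), (22, 4)], [(6, 4), (7, 4), (9, 1), (11, 1), (12, 4), (13, 4), (14, 1), (17, 1), (19, 4), (20, 1), (21, 1), (23, 1), (25, 1)], [(26, 4)], [(3, 1), (4, 4), (6, 4), (8, 1), (9, 1), (10, 4), (11, 1), (12, 3), (13, 1), (27, 4), (28, 1)], [(28, 1)], [(2, 3), (3, 2), (4, 2), (5, 3),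 (6, 3), (7, 2), (9, 3), (10, 1), (16, 3), (17, 2), (19, 2), (20, 3), (21, 3), (23, 3), (26, 1), (27, 3), (28, 1), (29, 1)], [(4, 4), (5, 4), (6, 4), (7, 3), (9, 2), (11, 2), (12, 3), (13, 3), (14, 1), (17, 2), (19, 4), (20, 1), (21, 1), (22, 1), (23, 1), (24, 1), (30, 1)], [(31, 1)], [(2, 1), (3, 4), (4, 4), (5, 1), (6, 3), (7, 4), (8, 1), (9, 1), (10, 4), (11, 1), (12, 3), (14, 1), (32, 1)], [(33, 1)], [(34, 1)], [(2, 2), (3, 2), (4, 2), (5, 4), (6, 3), (7, 1), (8, 3), (9, 3), (10, 2), (11, 3), (12, 3), (13, 1), (14, 3), (17, 4), (19, 1), (20, 4), (21, 4), (23, 4), (26, 1), (27, 3), (28, 1), (35, 1)], [(36, 1)], [(2, 3), (4, 3), (5, 4), (6, 3), (8, 2), (9, 2), (10, 4), (11, 3), (13, 4), (14, 4), (16, 4), (17, 4), (37, 4)], [(2, 4), (4, 2), (6, 2), (7, 1), (8, 4), (9, 3), (10, 2), (11, 3), (12, 3), (13, 1), (14, 4), (16, 4), (17, 3), (18, 4), (19, 1), (24, 4), (25, 4), (39,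 4), (40, 4)], [(2, 2), (4, 2), (5, 1), (6, 3), (7, 4), (8, 1), (9, 2), (10, 3), (11, 1), (12, 2), (14, 1), (16, 1), (17, 1), (39, 1)], [(2, 4), (3, 1), (4, 2), (5, 3), (6, 4), (7, 3), (8, 4), (9, 2), (10, 2), (11, 3), (12, 2), (13, 1), (16, 3), (17, 1), (18, 4), (19, 3), (20, 3), (21, 3), (23, 3), (24, 4), (25, 4), (38, 4), (39, 4)], [(41, 4)], [(42, 4)], [(4, 4), (5, 1), (6, 3), (7, 2), (9, 3), (10, 4), (11, 1), (12, 4), (13, 4), (14, 4), (15, 4), (16, 2), (17, 4), (19, 3), (20, 2), (21, 2), (22, 1), (23, 2), (24, 1), (37, 1), (41, 4), (42, 4), (43, 1)], [(2, 3), (3, 4), (4, 2), (5, 4), (6, 1), (7, 4), (8, 3), (9, 3), (10, 3), (12, 3), (13, 3), (16, 4), (18, 1), (19, 4), (24, 1), (25, 1), (37, 3), (38, 1), (39, 1), (40, 1), (44, 1)], [(2, 4), (3, 4), (4, 1), (9, 4), (10, 1), (12, 1), (16, 4), (17, 4), (45, 1)], [(2, 2), (4, 4), (6, 3), (7, 4), (8, 2), (9, 2), (10, 4), (11,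 3), (13, 3), (14, 4), (15, 4), (16, 4), (17, 4), (37, 4), (46, 1)], [(2, 1), (3, 4), (4, 3), (5, 2), (6, 1), (7, 2), (8, 1), (9, 3), (10, 3), (11, 2), (12, 3), (13, 4), (16, 2), (17, 4), (18, 1), (19, 2), (20, 2), (21, 2), (23, 2), (24, 1), (25, 1), (38, 1), (39, 1), (40, 1), (42, 3), (47, 1)], [(4, 1), (5, 4), (6, 1), (7, 1), (9, 4), (10, 1), (12, 4), (14, 2), (16, 3), (17, 2), (18, 4), (19, 2), (20, 4), (21, 4), (23, 4), (24, 4), (25, 4), (38, 4), (39, 4), (40, 4), (41, 1), (42, 1), (48, 1)], [(2, 2), (3, 4), (4, 4), (5, 4), (6, 3), (9, 1), (11, 2), (12, 2), (13, 3), (14, 4), (16, 4), (17, 4), (27, 2), (28, 4), (37, 4), (41, 4), (42, 1), (49, 1)], [(2, 1), (3, 3), (5, 2), (6, 4), (9, 4), (11, 4), (12, 1), (14, 1), (17, 4), (22, 4), (24, 4), (26, 4), (27, 2), (28, 4), (50, 1)], [(5, 3), (6, 1), (7, 1), (13, 1), (17, 1), (51, 1)]]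

/-- Columns. -/
def g17 : List ℕ := mkCols [[(0, 1)], [(1, 1)], [(4, 1), (5, 1), (6, 4), (7, 4), (11, 1), (12, 4), (13, 4), (14, 1), (15, 4)], [(2, 4), (4, 2), (6, 1), (7, 4), (8, 4), (9, 4), (10, 2), (11, 4), (12, 2), (13, 4), (15, 4)], [(2, 2), (4, 3), (6, 3), (8, 1), (9, 2), (10, 3), (11, 1), (12, 2), (13, 1), (14, 1), (15, 4), (16, 1), (17, 1)], [(5, 1)], [(2, 4), (4, 1), (6, 1), (8, 4), (9, 4), (10, 1), (12, 1), (13, 4)], [(2, 4), (4, 1), (6, 1), (8, 4), (10, 1), (11, 4), (12, 1)], [(2, 3), (3, 1), (4, 1), (5, 4), (6, 2), (8, 3), (9, 4), (10, 2), (11, 3), (12, 3), (14, 4)], [(2, 4), (4, 1), (8, 4), (10, 1), (12, 1), (13, 4)], [(2, 2), (3, 1), (4, 3), (6, 2), (8, 3), (9, 3), (10, 3), (11, 4), (12, 3), (13, 4), (14, 4), (16, 4), (17, 4)], [(11, 1)], [(12, 1)], [(2, 1), (4, 4), (6, 4), (7, 1), (8, 1), (10, 4), (11, 1), (12, 4), (13, 1)], [(2, 3), (4, 3), (5, 4), (6, 3),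 (7, 1), (8, 3), (9, 2), (10, 3), (11, 3), (13, 4), (14, 4), (16, 4), (17, 4)], [(15, 4)], [(3, 1), (4, 4), (9, 1), (10, 4), (12, 4), (13, 1), (15, 4), (16, 1)], [(2, 1), (4, 4), (8, 1), (9, 1), (10, 4), (12, 4), (13, 1), (17, 1)], [(18, 4)], [(2, 2), (4, 4), (5, 4), (6, 4), (8, 2), (9, 2), (10, 4), (11, 2), (12, 1), (13, 4), (14, 3), (16, 4), (17, 4), (18, 4), (19, 1), (21, 4)], [(2, 4), (4, 1), (6, 2), (7, 1), (8, 4), (9, 3), (10, 1), (11, 3), (12, 3), (13, 1), (14, 4), (17, 4), (18, 4), (19, 1), (22, 4), (25, 1)], [(21, 4)], [(22, 1)], [(2, 4), (4, 1), (6, 2), (7, 1), (8, 4), (9, 3), (10, 1), (11, 3), (12, 2), (13, 1), (14, 4), (17, 4), (19, 1), (20, 4), (21, 4), (23, 4), (24, 4), (25, 4)], [(24, 1)], [(2, 1), (4, 4), (6, 3), (7, 4), (8, 1), (9, 2), (10, 4), (11, 2), (12, 2), (13, 4), (14, 1), (17, 1), (19, 4), (20, 1), (21, 1), (22, 1)], [(26, 1)], [(2, 1), (4, 4), (5,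 4), (6, 1), (9, 1), (11, 4), (13, 1), (16, 1), (17, 1), (18, 4), (29, 4)], [(2, 4), (3, 3), (4, 2), (5, 1), (7, 1), (8, 1), (9, 1), (10, 3), (11, 3), (13, 2), (14, 1), (15, 1), (16, 1), (18, 3), (22, 4), (24, 4), (26, 4), (27, 2), (28, 4), (29, 3)], [(2, 3), (3, 1), (4, 2), (6, 1), (8, 4), (9, 4), (10, 1), (12, 1), (13, 4), (15, 4), (18, 1), (27, 4)], [(18, 4), (30, 1)], [(31, 1)], [(2, 4), (3, 4), (4, 2), (6, 1), (7, 4), (8, 4), (9, 4), (10, 2), (11, 4), (12, 2), (13, 4), (21, 4), (32, 1)], [(33, 1)], [(34, 1)], [(2, 1), (3, 1), (4, 3), (6, 4), (8, 1), (9, 2), (10, 3), (11, 1), (12, 2), (13, 1), (14, 1), (16, 1), (17, 1), (27, 4), (29, 4), (35, 1)], [(36, 1)], [(4, 4), (5, 1), (6, 2), (7, 3), (9, 2), (10, 4), (11, 2), (12, 4), (13, 4), (14, 4), (16, 1), (17, 3), (19, 3), (20, 2), (21, 2), (22, 1), (23, 2), (24, 1), (37, 1)], [(2, 4), (4, 2), (5, 4), (6, 2), (8, 4), (9, 4),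 (10, 2), (11, 4), (12, 2), (13, 4), (14, 4), (16, 4), (18, 4), (19, 1), (22, 1), (25, 4), (37, 1), (38, 4), (39, 4)], [(2, 2), (4, 2), (5, 1), (7, 3), (8, 2), (9, 4), (10, 2), (11, 4), (12, 4), (13, 4), (14, 3), (16, 1), (17, 2), (18, 1), (19, 4), (20, 1), (23, 2), (24, 1), (25, 1), (39, 1)], [(6, 1), (7, 1), (9, 4), (11, 4), (12, 1), (13, 1), (14, 4), (17, 4), (18, 4), (19, 1), (24, 4), (25, 4), (37, 1), (39, 4), (40, 4)], [(4, 4), (5, 1), (6, 3), (7, 2), (9, 3), (10, 4), (11, 1), (12, 4), (13, 4), (14, 4), (15, 4), (16, 2), (17, 4), (19, 3), (20, 2), (21, 2), (22, 1), (23, 2), (24, 1), (37, 1), (42, 4)], [(3, 1), (4, 4), (9, 1), (10, 4), (12, 4), (16, 1), (17, 1), (37, 1), (41, 4)], [(43, 4)], [(2, 2), (4, 2), (5, 1), (7, 3), (8, 2), (9, 4), (10, 2), (11, 4), (12, 4), (13, 4), (14, 3), (15, 4), (16, 1), (17, 2), (18, 1), (19, 3), (20, 1), (21, 1), (23, 1), (24, 1), (25,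 1), (37, 4), (38, 1), (39, 1), (40, 1), (44, 1)], [(2, 2), (4, 4), (6, 3), (8, 3), (9, 2), (10, 3), (11, 3), (12, 4), (13, 4), (14, 4), (15, 4), (16, 4), (17, 4), (19, 1), (20, 4), (21, 4), (23, 4), (38, 4), (40, 1), (45, 1)], [(2, 3), (4, 3), (5, 4), (7, 2), (8, 3), (9, 1), (10, 3), (11, 1), (12, 1), (13, 1), (14, 2), (16, 4), (17, 3), (18, 3), (19, 1), (20, 4), (21, 4), (23, 3), (24, 4), (25, 4), (46, 1)], [(2, 3), (4, 1), (5, 1), (7, 3), (8, 3), (10, 1), (11, 4), (12, 3), (13, 4), (14, 3), (16, 2), (17, 3), (18, 1), (19, 3), (20, 1), (21, 1), (23, 1), (24, 1), (25, 1), (38, 1), (39, 1), (40, 1), (41, 4), (42, 4), (47, 1)], [(6, 4), (7, 1), (9, 4), (11, 1), (12, 3), (13, 1), (14, 3), (16, 3), (17, 1), (19, 2), (20, 4), (22, 4), (24, 4), (37, 4), (39, 4), (40, 3), (41, 2), (42, 2), (43, 3), (48, 1)], [(3, 3), (5, 2), (6, 4), (7, 3), (8, 2), (10, 1), (11, 3), (12, 4), (13,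 4), (14, 4), (16, 1), (17, 2), (18, 4), (19, 3), (20, 2), (21, 2), (23, 2), (26, 4), (27, 3), (28, 3), (29, 4), (49, 1)], [(2, 4), (3, 2), (4, 3), (5, 1), (8, 1), (9, 1), (10, 4), (11, 3), (14, 1), (16, 1), (17, 1), (18, 3), (23, 4), (24, 4), (25, 4), (26, 4), (27, 3), (28, 3), (29, 4), (37, 1), (38, 4), (40, 1), (41, 4), (42, 4), (43, 2), (50, 1)], [(51, 1)]]

/-- Columns. -/
def g18 : List ℕ := mkCols [[(0, 1)], [(1, 4), (2, 4), (3, 2), (5, 4), (6, 3), (7, 3), (8, 1), (10, 1), (11, 2), (12, 4), (15, 4), (16, 3), (17, 4), (18, 1), (19, 3), (20, 1), (21, 4), (22, 2), (23, 2), (24, 3), (25, 3), (27, 1), (28, 1), (29, 1), (31, 1), (32, 3), (33, 1), (34, 1), (35, 2), (37, 4), (38, 2), (39, 3), (41, 4), (43, 2), (44, 3), (45, 1), (46, 2), (48, 1), (49, 1), (50, 3), (51, 2)], [(2, 4)], [(3, 4)], [(4, 4)], [(5, 4)], [(6, 4)], [(7, 4)], [(8, 4)], [(9, 4)], [(10, 4)], [(11, 4)], [(12,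 4)], [(13, 4)], [(14, 4)], [(15, 4)], [(16, 4)], [(17, 4)], [(2, 3), (4, 1), (5, 1), (6, 3), (7, 2), (8, 3), (9, 1), (10, 1), (11, 1), (12, 1), (13, 3), (14, 4), (15, 4), (16, 1), (17, 3), (18, 1), (19, 3), (20, 2), (21, 2), (22, 1), (23, 2), (24, 1)], [(2, 2), (4, 2), (5, 1), (7, 3), (8, 2), (9, 4), (10, 2), (11, 4), (12, 4), (13, 4), (14, 3), (15, 4), (16, 1), (17, 2), (18, 1), (19, 3), (20, 2), (21, 2), (23, 2), (24, 1), (25, 1)], [(20, 1)], [(2, 2), (4, 2), (5, 1), (7, 3), (8, 2), (9, 4), (10, 2), (11, 4), (12, 4), (13, 4), (14, 3), (15, 4), (16, 1), (17, 2), (18, 1), (19, 4), (20, 1), (21, 1), (23, 2), (24, 1), (25, 1)], [(24, 4)], [(20, 4), (23, 4)], [(22, 4)], [(2, 4), (4, 1), (6, 2), (7, 1), (8, 4), (9, 3), (10, 1), (11, 3), (12, 3), (13, 1), (14, 4), (17, 4), (18, 4), (19, 1), (24, 4)], [(26, 4)], [(27, 4), (28, 1)], [(28, 1)], [(2, 3), (3, 2), (4, 2), (5, 3), (6,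 2), (7, 2), (8, 1), (9, 3), (10, 1), (11, 1), (12, 4), (16, 3), (17, 2), (19, 2), (20, 3), (21, 3), (23, 3), (26, 1), (27, 3), (28, 1), (29, 1)], [(3, 1), (4, 1), (5, 2), (6, 4), (7, 2), (8, 3), (9, 4), (10, 4), (11, 1), (12, 3), (14, 3), (15, 2), (16, 3), (17, 1), (20, 1), (21, 1), (22, 1), (23, 1), (31, 3), (32, 4), (33, 2)], [(31, 4)], [(2, 2), (3, 4), (4, 1), (5, 4), (6, 1), (7, 1), (8, 4), (10, 3), (11, 3), (12, 1), (13, 4), (15, 2), (16, 3), (17, 1), (18, 1), (19, 4), (20, 1), (21, 1), (23, 1), (25, 1), (30, 4), (31, 2), (33, 2)], [(33, 1)], [(34, 1)], [(2, 3), (3, 3), (4, 3), (6, 1), (7, 4), (8, 4), (9, 2), (11, 2), (12, 2), (14, 3), (15, 2), (16, 1), (17, 3), (19, 2), (20, 4), (21, 4), (23, 4), (24, 1), (26, 1), (27, 3), (28, 1), (29, 2), (30, 1), (31, 3), (32, 4), (33, 2), (34, 1), (35, 4)], [(1, 1), (2, 3), (3, 4), (4, 4), (6, 2), (8, 4), (9, 3), (11, 3), (12, 3),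 (13, 4), (14, 2), (15, 1), (16, 2), (17, 1), (19, 2), (20, 2), (21, 3), (22, 4), (23, 4), (24, 3), (25, 4), (27, 2), (28, 2), (30, 4), (32, 2), (34, 1), (35, 1), (36, 1), (37, 2), (38, 2), (39, 4), (40, 3), (41, 3), (43, 4), (44, 2), (45, 2), (46, 4), (48, 2), (49, 2), (50, 1)], [(37, 4)], [(38, 4)], [(39, 4)], [(40, 4)], [(41, 4)], [(42, 4)], [(2, 2), (4, 3), (6, 2), (7, 3), (8, 2), (9, 4), (10, 3), (11, 3), (13, 3), (14, 2), (15, 4), (16, 1), (17, 3), (19, 4), (20, 1), (21, 1), (22, 1), (23, 1), (24, 1), (37, 1), (38, 4), (40, 1), (41, 4), (42, 4), (43, 1)], [(44, 4)], [(45, 4)], [(2, 1), (3, 1), (4, 3), (5, 2), (6, 1), (8, 4), (9, 2), (12, 3), (13, 1), (14, 4), (15, 1), (16, 1), (17, 2), (18, 4), (19, 2), (20, 4), (23, 3), (24, 3), (25, 4), (30, 4), (31, 2), (32, 4), (33, 2), (38, 4), (39, 4), (44, 4), (45, 1), (46, 1)], [(47, 4)], [(2, 3), (4, 3), (5, 1), (6, 1), (7, 4),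 (8, 3), (9, 3), (10, 3), (11, 3), (12, 4), (13, 4), (14, 4), (16, 4), (17, 3), (18, 4), (19, 1), (24, 4), (25, 4), (37, 1), (38, 4), (39, 4), (40, 4), (41, 1), (44, 4), (47, 1), (48, 1), (51, 4)], [(4, 2), (5, 4), (6, 2), (7, 2), (8, 3), (9, 3), (10, 2), (11, 4), (12, 1), (13, 4), (14, 2), (16, 3), (17, 2), (18, 4), (19, 2), (20, 4), (21, 4), (23, 4), (24, 4), (25, 4), (27, 2), (28, 4), (38, 4), (39, 4), (40, 4), (41, 4), (42, 2), (44, 4), (47, 4), (49, 1)], [(3, 4), (4, 3), (5, 2), (6, 2), (8, 3), (9, 4), (10, 1), (11, 3), (12, 1), (13, 1), (14, 3), (15, 2), (16, 1), (17, 1), (18, 4), (19, 3), (20, 4), (21, 4), (22, 4), (23, 4), (24, 4), (25, 4), (26, 4), (27, 2), (28, 4), (29, 2), (30, 1), (31, 2), (32, 4), (33, 2), (34, 1), (35, 3), (50, 1)], [(51, 4)]]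

/-- Columns. -/
def g19 : List ℕ := mkCols [[(0, 1)], [(1, 4), (3, 2), (4, 1), (5, 3), (6, 2), (7, 3), (9, 4), (11, 4), (12, 1), (14, 4), (15, 4), (16, 3), (17, 3), (19, 4), (20, 3), (21, 2), (24, 3), (27, 1), (28, 1), (29, 1), (30, 2), (31, 1), (32, 1), (33, 1), (34, 3), (35, 2), (36, 3), (38, 1), (39, 3), (40, 1), (41, 2), (43, 4), (44, 3), (45, 1), (46, 2), (47, 3), (48, 4), (49, 1), (50, 3), (51, 2)], [(2, 1), (4, 4), (5, 1), (6, 3), (7, 4), (8, 1), (9, 2), (10, 3), (11, 1), (12, 2), (14, 1), (15, 4), (16, 1), (17, 1)], [(11, 4), (13, 1), (15, 4), (16, 1)], [(2, 2), (4, 3), (5, 1), (6, 3), (7, 4), (8, 1), (9, 2), (10, 3), (11, 1), (12, 2), (14, 1), (15, 4), (16, 1), (17, 1)], [(5, 4), (9, 1), (11, 1), (12, 4), (17, 1)], [(2, 4), (4, 1), (8, 4), (10, 1), (12, 1), (13, 4)], [(2, 4), (4, 1), (6, 1), (7, 4), (8, 4), (10, 1), (12, 1), (13, 4)], [(2, 3), (3, 1), (4, 1), (5,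 4), (6, 2), (7, 1), (8, 3), (9, 3), (10, 2), (11, 3), (12, 3), (13, 1), (14, 4), (17, 4)], [(2, 4), (4, 1), (6, 1), (8, 4), (9, 4), (10, 1), (12, 1), (13, 4)], [(2, 3), (3, 1), (4, 1), (5, 4), (6, 2), (7, 1), (8, 4), (9, 4), (10, 1), (11, 4), (12, 2), (13, 1), (14, 4)], [(9, 1), (12, 4), (17, 1)], [(12, 4)], [(2, 1), (4, 4), (6, 4), (8, 1), (9, 1), (10, 4), (11, 1), (12, 3), (17, 1)], [(2, 4), (4, 1), (6, 1), (8, 4), (9, 4), (10, 1), (11, 4), (12, 2), (13, 4), (14, 4), (17, 4)], [(15, 4)], [(2, 4), (3, 1), (4, 1), (6, 1), (8, 4), (10, 1), (11, 4), (12, 1), (15, 4)], [(2, 1), (4, 4), (6, 4), (8, 1), (9, 1), (10, 4), (11, 1), (12, 3), (13, 1)], [(18, 4)], [(19, 4)], [(20, 4)], [(21, 4)], [(22, 4)], [(23, 4)], [(24, 4)], [(25, 4)], [(26, 1)], [(2, 1), (4, 4), (6, 1), (7, 1), (11, 3), (12, 1), (13, 2), (16, 1), (18, 4), (24, 4), (29, 4)], [(2, 4), (3, 3), (4, 2), (5, 1), (7, 1),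 (8, 1), (9, 1), (10, 3), (11, 3), (13, 2), (14, 1), (15, 1), (16, 1), (18, 3), (24, 3), (26, 4), (27, 2), (28, 4), (29, 3)], [(2, 3), (3, 1), (4, 2), (7, 4), (8, 4), (10, 1), (11, 1), (13, 3), (15, 4), (18, 1), (24, 1), (27, 4)], [(2, 1), (4, 2), (5, 3), (6, 4), (7, 2), (8, 3), (9, 4), (10, 4), (11, 1), (12, 3), (14, 3), (15, 2), (16, 3), (17, 1), (30, 4), (31, 2), (33, 2)], [(31, 1)], [(2, 4), (3, 1), (4, 3), (5, 2), (6, 1), (7, 3), (8, 2), (9, 2), (10, 1), (11, 4), (12, 1), (13, 1), (14, 2), (15, 2), (16, 3), (31, 3), (32, 4), (33, 2)], [(33, 1)], [(1, 1), (2, 3), (3, 4), (4, 4), (6, 2), (8, 4), (9, 3), (11, 3), (12, 3), (13, 4), (14, 2), (15, 1), (16, 2), (17, 1), (19, 2), (20, 2), (21, 3), (22, 4), (23, 4), (24, 3), (25, 4), (27, 2), (28, 2), (30, 4), (32, 2), (35, 1), (36, 2), (37, 2), (38, 2), (39, 4), (40, 3), (41, 3), (43, 4), (44, 2), (45, 2), (46, 4), (48, 2), (49,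 2), (50, 1)], [(1, 1), (2, 1), (4, 3), (5, 2), (6, 2), (7, 2), (8, 1), (10, 1), (11, 4), (12, 3), (13, 3), (14, 4), (15, 3), (16, 4), (17, 1), (18, 1), (19, 2), (20, 2), (21, 3), (22, 4), (23, 4), (24, 4), (25, 4), (27, 1), (28, 2), (29, 1), (30, 4), (31, 2), (32, 2), (33, 2), (34, 1), (36, 1), (37, 2), (38, 2), (39, 4), (40, 3), (41, 3), (43, 4), (44, 2), (45, 2), (46, 4), (48, 2), (49, 2), (50, 1)], [(36, 1)], [(37, 4)], [(38, 4)], [(39, 4)], [(40, 4)], [(2, 2), (4, 3), (5, 1), (6, 2), (7, 4), (8, 2), (9, 3), (10, 3), (11, 2), (12, 1), (14, 2), (15, 4), (16, 1), (17, 1), (19, 4), (20, 1), (21, 1), (23, 1), (42, 4)], [(2, 2), (3, 1), (4, 3), (5, 4), (6, 4), (7, 1), (8, 2), (9, 2), (10, 3), (11, 2), (14, 3), (17, 4), (19, 1), (20, 4), (21, 4), (23, 4), (41, 4)], [(43, 4)], [(2, 4), (3, 1), (4, 3), (5, 3), (6, 4), (7, 2), (8, 2), (9, 3), (11, 1), (12, 4), (14, 3), (15, 1),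 (16, 3), (18, 1), (25, 1), (30, 4), (31, 2), (32, 4), (33, 2), (37, 4), (39, 1), (40, 1), (45, 1)], [(2, 4), (3, 1), (4, 3), (5, 3), (6, 4), (7, 2), (8, 2), (9, 3), (11, 1), (12, 4), (14, 3), (15, 1), (16, 3), (18, 1), (25, 1), (30, 4), (31, 3), (32, 4), (33, 2), (37, 4), (39, 1), (40, 1), (44, 1)], [(46, 4)], [(4, 4), (5, 4), (6, 4), (7, 4), (9, 2), (10, 4), (11, 2), (12, 3), (13, 4), (14, 1), (16, 1), (17, 2), (18, 1), (19, 4), (24, 1), (25, 1), (37, 4), (38, 1), (39, 1), (40, 1), (41, 4), (44, 1), (51, 1)], [(48, 4)], [(2, 4), (3, 3), (4, 1), (6, 1), (7, 4), (8, 1), (9, 4), (10, 2), (11, 3), (13, 4), (14, 4), (16, 1), (17, 3), (19, 3), (20, 2), (21, 1), (23, 2), (24, 1), (25, 1), (26, 4), (27, 3), (28, 3), (29, 4), (37, 4), (39, 1), (40, 1), (41, 4), (43, 1), (44, 1), (46, 4), (47, 4), (48, 4), (49, 1), (51, 1)], [(2, 3), (3, 4), (5, 4), (6, 1), (7, 2), (9, 1), (10, 4),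 (11, 1), (13, 2), (14, 2), (15, 2), (16, 3), (18, 1), (19, 3), (21, 3), (23, 3), (25, 4), (26, 4), (27, 3), (28, 3), (29, 1), (30, 2), (31, 3), (32, 3), (33, 2), (34, 2), (35, 3), (36, 4), (37, 1), (38, 4), (39, 1), (40, 3), (41, 2), (42, 3), (43, 4), (44, 1), (47, 4), (48, 3), (50, 1), (51, 1)], [(2, 4), (3, 4), (4, 3), (5, 2), (6, 1), (7, 1), (8, 1), (9, 2), (10, 1), (11, 3), (12, 4), (15, 3), (16, 4), (17, 3), (19, 3), (20, 1), (21, 1), (23, 1), (24, 1), (30, 1), (31, 3), (32, 1), (33, 3), (38, 1), (42, 4), (45, 4), (47, 1)]]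

/-- Columns. -/
def g20 : List ℕ := mkCols [[(0, 1)], [(1, 4), (2, 2), (3, 3), (4, 2), (5, 3), (6, 3), (7, 2), (8, 1), (9, 3), (10, 2), (11, 2), (12, 2), (13, 4), (14, 1), (15, 2), (16, 1), (17, 4), (18, 4), (19, 4), (20, 3), (21, 4), (23, 4), (24, 4), (25, 4), (26, 2), (27, 4), (28, 4), (29, 2), (30, 4), (31, 2), (32, 1), (33, 2), (34, 3), (36, 3), (38, 1), (39, 4), (40, 1), (41, 1), (42, 1), (43, 4), (44, 3), (45, 1), (47, 3), (48, 4), (49, 3), (50, 3), (51, 2)], [(2, 3), (4, 2), (6, 1), (8, 4), (9, 3), (10, 2), (12, 2), (13, 4), (16, 4), (17, 4)], [(2, 4), (3, 4), (4, 2), (6, 1), (8, 4), (9, 3), (10, 2), (11, 4), (12, 3), (13, 4), (16, 4), (17, 4)], [(4, 4)], [(5, 4), (9, 1), (11, 1), (12, 4), (17, 1)], [(6, 4), (11, 1), (12, 4)], [(7, 4), (9, 1), (12, 4), (17, 1)], [(8, 4), (11, 4), (12, 1)], [(17, 1)], [(2, 4), (4, 2), (6, 1), (8, 4), (9, 4), (10, 1), (12, 1), (13, 4),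 (16, 4)], [(11, 1)], [(12, 1)], [(11, 1), (13, 4)], [(2, 4), (4, 2), (6, 1), (8, 4), (9, 3), (10, 2), (11, 4), (12, 3), (13, 4), (14, 4), (16, 4), (17, 4)], [(15, 4)], [(2, 1), (4, 3), (6, 4), (8, 1), (9, 1), (10, 3), (11, 1), (12, 3), (13, 1)], [(9, 1)], [(18, 4)], [(2, 2), (4, 4), (6, 4), (7, 1), (8, 2), (9, 1), (10, 4), (11, 1), (12, 2), (14, 3), (16, 4), (17, 3), (18, 4), (19, 1), (21, 4), (24, 4)], [(2, 4), (4, 1), (6, 2), (7, 1), (8, 4), (9, 3), (10, 1), (11, 3), (12, 3), (13, 1), (14, 4), (17, 4), (18, 4), (19, 1), (24, 4), (25, 1)], [(21, 4)], [(22, 4)], [(2, 4), (4, 1), (6, 1), (8, 4), (9, 4), (10, 1), (11, 4), (12, 1), (14, 4), (17, 4), (19, 1), (20, 4), (21, 4), (23, 4), (25, 4)], [(24, 4)], [(2, 1), (4, 4), (6, 4), (8, 1), (9, 1), (10, 4), (11, 1), (12, 3), (14, 1), (17, 1), (19, 4), (20, 1), (21, 1)], [(26, 4)], [(27, 4)], [(28, 4)], [(29, 4)], [(2, 3), (4, 2),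 (5, 4), (6, 2), (8, 4), (9, 3), (10, 2), (12, 2), (13, 4), (14, 4), (16, 4), (24, 1), (29, 1), (35, 4)], [(1, 1), (2, 3), (3, 4), (4, 4), (6, 2), (8, 4), (9, 3), (11, 3), (12, 3), (13, 4), (14, 2), (15, 1), (16, 2), (17, 1), (19, 2), (20, 2), (21, 3), (22, 4), (23, 4), (24, 3), (25, 4), (27, 2), (28, 2), (30, 4), (31, 4), (32, 2), (34, 1), (35, 1), (37, 2), (38, 2), (39, 4), (40, 3), (41, 3), (43, 4), (44, 2), (45, 2), (46, 4), (48, 2), (49, 2), (50, 1)], [(2, 1), (4, 4), (5, 4), (7, 1), (8, 2), (10, 4), (11, 1), (12, 2), (14, 2), (16, 4), (17, 3), (18, 4), (19, 2), (21, 4), (29, 1), (30, 1), (32, 4), (34, 1), (35, 4), (36, 4)], [(1, 1), (2, 3), (3, 4), (4, 4), (6, 2), (8, 4), (9, 3), (11, 3), (12, 3), (13, 4), (14, 2), (15, 1), (16, 2), (17, 1), (19, 2), (20, 2), (21, 3), (22, 4), (23, 4), (24, 3), (25, 4), (27, 2), (28, 2), (30, 4), (32, 2), (33, 4), (34, 1), (35, 1), (36,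 2), (37, 2), (38, 2), (39, 4), (40, 3), (41, 3), (43, 4), (44, 2), (45, 2), (46, 4), (48, 2), (49, 2), (50, 1)], [(34, 1)], [(2, 2), (4, 3), (5, 1), (6, 3), (8, 1), (9, 2), (10, 3), (11, 1), (12, 2), (13, 1), (14, 1), (16, 1), (24, 4), (29, 4), (30, 4)], [(36, 1)], [(2, 4), (4, 2), (6, 1), (8, 4), (9, 3), (10, 2), (12, 2), (13, 4), (16, 4), (17, 4), (37, 4)], [(2, 1), (4, 1), (5, 4), (6, 1), (7, 2), (8, 1), (9, 4), (10, 1), (12, 4), (14, 2), (16, 3), (17, 2), (18, 4), (19, 2), (20, 4), (21, 4), (23, 4), (24, 4), (25, 4), (38, 4), (39, 4)], [(2, 2), (4, 2), (5, 2), (7, 2), (8, 2), (9, 4), (10, 2), (11, 4), (12, 4), (13, 3), (14, 3), (16, 1), (17, 2), (18, 1), (19, 4), (20, 1), (23, 2), (24, 1), (25, 1), (39, 1)], [(2, 2), (4, 4), (5, 4), (7, 2), (8, 2), (10, 4), (11, 1), (12, 2), (13, 1), (14, 2), (16, 4), (17, 2), (18, 4), (19, 2), (20, 4), (21, 4), (23, 4), (24, 4), (25,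 4), (39, 4), (40, 4)], [(41, 4)], [(42, 4)], [(43, 4)], [(2, 1), (5, 4), (7, 1), (8, 1), (11, 2), (12, 2), (13, 4), (14, 3), (16, 3), (17, 3), (19, 1), (20, 4), (21, 4), (23, 4), (37, 4), (42, 1), (47, 4)], [(1, 1), (2, 1), (4, 4), (5, 1), (8, 2), (9, 2), (10, 2), (11, 2), (12, 4), (13, 4), (14, 4), (15, 3), (16, 2), (17, 2), (18, 4), (20, 1), (21, 2), (22, 4), (23, 3), (24, 3), (25, 3), (27, 2), (28, 2), (29, 2), (31, 2), (32, 1), (33, 2), (34, 2), (35, 4), (37, 3), (38, 1), (39, 3), (40, 3), (41, 3), (43, 4), (44, 1), (45, 2), (46, 4), (48, 2), (49, 2), (50, 1), (51, 4)], [(2, 2), (4, 4), (5, 3), (6, 2), (7, 2), (8, 2), (10, 4), (11, 1), (12, 2), (14, 2), (16, 4), (17, 4), (18, 4), (19, 1), (20, 4), (21, 3), (23, 3), (37, 4), (39, 1), (40, 1), (41, 4), (43, 1), (44, 1), (47, 4), (48, 4), (51, 1)], [(2, 3), (4, 2), (5, 1), (6, 1), (7, 4), (8, 3), (9, 4), (10, 2), (11, 3),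 (12, 4), (14, 2), (16, 1), (17, 2), (19, 4), (20, 1), (21, 1), (23, 1), (37, 1), (42, 4), (44, 4)], [(2, 1), (3, 4), (5, 3), (6, 1), (8, 3), (10, 3), (11, 3), (12, 1), (13, 4), (15, 3), (16, 3), (17, 1), (18, 1), (19, 4), (20, 1), (21, 1), (23, 2), (24, 1), (25, 1), (30, 1), (31, 3), (32, 1), (33, 3), (37, 4), (38, 1), (40, 4), (41, 1), (42, 1), (43, 4), (44, 1), (45, 4), (46, 4)], [(49, 4)], [(3, 2), (4, 3), (5, 1), (6, 2), (7, 4), (8, 2), (9, 4), (10, 3), (11, 2), (14, 4), (15, 3), (17, 4), (18, 2), (20, 2), (23, 1), (24, 1), (26, 3), (27, 1), (28, 1), (29, 4), (30, 2), (31, 3), (32, 4), (33, 3), (34, 1), (35, 4), (36, 4), (37, 1), (38, 4), (39, 1), (40, 2), (41, 1), (43, 4), (44, 1), (45, 4), (46, 3), (47, 3), (48, 3), (49, 2), (50, 1), (51, 1)], [(2, 4), (3, 4), (4, 3), (5, 2), (6, 1), (7, 1), (8, 1), (9, 2), (10, 1), (11, 3), (12, 4), (15, 3), (16, 4), (17, 3), (19, 3),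 (20, 1), (21, 1), (23, 1), (24, 1), (30, 1), (31, 3), (32, 1), (33, 3), (38, 1), (42, 4), (45, 4), (47, 1)]]

/-- Columns. -/
def g21 : List ℕ := mkCols [[(0, 1)], [(1, 1)], [(2, 1), (4, 3), (6, 4), (8, 1), (9, 1), (10, 3), (11, 1), (12, 3), (13, 1)], [(2, 4), (4, 1), (9, 4), (10, 1), (12, 1), (16, 4), (17, 4)], [(2, 3), (4, 2), (5, 4), (6, 2), (8, 3), (9, 3), (10, 2), (11, 4), (12, 3), (13, 4), (14, 4), (16, 4)], [(2, 3), (3, 4), (4, 2), (5, 1), (6, 2), (7, 4), (8, 2), (9, 3), (10, 2), (11, 2), (14, 2), (16, 1), (17, 1)], [(6, 1)], [(7, 1)], [(8, 1)], [(11, 1), (13, 4)], [(2, 2), (4, 2), (5, 1), (6, 3), (8, 2), (9, 2), (10, 2), (11, 1), (12, 2), (13, 1), (14, 1), (16, 1)], [(7, 4), (8, 4), (9, 1), (13, 4)], [(6, 4), (7, 4), (9, 1), (11, 1), (12, 4), (13, 4)], [(7, 4), (8, 4), (13, 4)], [(2, 2), (3, 1), (4, 3), (6, 2), (8, 3), (9, 3), (10, 3), (11, 4), (12, 3), (13, 4), (14,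 4), (16, 4), (17, 4)], [(2, 3), (4, 2), (6, 1), (7, 4), (8, 3), (9, 4), (10, 2), (11, 4), (12, 2), (13, 4), (15, 4)], [(2, 3), (4, 1), (5, 4), (6, 2), (8, 3), (9, 4), (10, 2), (11, 3), (12, 3), (14, 4)], [(2, 1), (3, 4), (5, 1), (6, 3), (7, 4), (8, 1), (9, 1), (10, 4), (11, 1), (12, 3), (13, 4), (14, 1)], [(2, 2), (4, 2), (6, 1), (7, 3), (8, 2), (9, 4), (10, 2), (11, 4), (12, 4), (13, 4), (14, 2), (15, 4), (16, 1), (17, 2), (18, 1), (19, 4), (20, 1), (21, 1), (22, 1), (23, 1), (24, 1)], [(5, 1), (6, 2), (7, 3), (8, 1), (9, 2), (10, 4), (11, 3), (12, 2), (13, 3), (14, 2), (15, 4), (17, 1), (18, 1), (19, 4), (20, 1), (21, 1), (23, 1), (24, 1), (25, 1)], [(20, 1)], [(2, 2), (4, 2), (6, 1), (7, 3), (8, 2), (9, 4), (10, 2), (11, 4), (12, 4), (13, 4), (14, 3), (15, 4), (16, 1), (17, 3), (18, 1), (19, 3), (20, 1), (21, 2), (23, 1), (24, 1), (25, 1)], [(2, 4), (4, 1), (6, 2), (7,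 1), (8, 4), (9, 3), (10, 1), (11, 3), (12, 2), (13, 1), (14, 4), (17, 4), (19, 1), (20, 4), (21, 4), (23, 4), (24, 4)], [(23, 1)], [(2, 4), (4, 1), (6, 2), (7, 1), (8, 4), (9, 3), (10, 1), (11, 3), (12, 2), (13, 1), (14, 4), (17, 4), (19, 1), (20, 4), (21, 4), (22, 4), (23, 4)], [(2, 4), (4, 1), (6, 3), (7, 2), (8, 4), (9, 2), (10, 1), (11, 2), (12, 4), (13, 2), (14, 3), (17, 3), (18, 4), (19, 2), (20, 4), (21, 4), (23, 4), (24, 4)], [(26, 1)], [(2, 4), (3, 4), (4, 2), (6, 1), (8, 4), (9, 3), (10, 2), (11, 4), (12, 3), (13, 4), (16, 4), (17, 4), (27, 1)], [(28, 1)], [(2, 3), (4, 2), (6, 1), (8, 4), (9, 3), (10, 2), (12, 2), (13, 4), (14, 4), (16, 4), (17, 4), (29, 1)], [(2, 1), (3, 1), (5, 2), (6, 3), (7, 2), (8, 3), (10, 3), (11, 2), (12, 2), (14, 3), (15, 2), (16, 3), (17, 1), (20, 1), (21, 1), (22, 1), (23, 1), (31, 3), (32, 4), (33, 2)], [(31, 4)], [(4, 3), (5, 3), (6,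 3), (7, 2), (8, 3), (9, 3), (11, 2), (12, 4), (13, 4), (14, 4), (15, 2), (16, 2), (18, 1), (19, 4), (20, 1), (21, 1), (23, 1), (25, 1), (30, 4), (31, 2), (33, 2)], [(33, 1)], [(34, 1)], [(35, 1)], [(31, 1), (36, 1)], [(2, 1), (4, 3), (6, 3), (7, 4), (8, 1), (9, 2), (10, 3), (11, 2), (12, 2), (14, 1), (16, 1), (17, 1), (18, 1), (19, 4), (24, 1), (25, 1), (37, 4), (38, 1), (39, 1), (40, 1)], [(2, 1), (4, 4), (5, 1), (6, 2), (7, 4), (8, 2), (9, 2), (10, 3), (11, 3), (12, 1), (13, 4), (14, 2), (17, 1), (18, 1), (19, 4), (24, 1), (25, 1), (39, 1), (40, 1)], [(2, 3), (4, 1), (7, 3), (8, 3), (10, 1), (12, 3), (13, 4), (14, 3), (16, 1), (17, 3), (18, 1), (19, 2), (20, 2), (21, 2), (23, 2), (24, 1), (25, 1), (38, 1), (40, 4)], [(40, 1)], [(2, 4), (3, 4), (4, 1), (9, 4), (10, 1), (12, 1), (16, 4), (17, 4), (41, 1)], [(42, 1)], [(2, 1), (4, 4), (6, 2), (7, 3), (8, 1), (9, 3), (10, 4),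 (11, 3), (12, 1), (13, 3), (14, 2), (15, 4), (17, 2), (19, 4), (20, 1), (21, 1), (22, 1), (23, 1), (24, 1), (37, 1), (38, 4), (43, 1)], [(44, 4)], [(45, 4)], [(2, 2), (3, 1), (4, 1), (5, 3), (6, 2), (7, 3), (10, 3), (11, 3), (12, 4), (14, 1), (15, 1), (16, 2), (17, 3), (19, 1), (24, 4), (30, 4), (31, 2), (32, 4), (33, 2), (44, 4), (45, 1), (46, 1)], [(47, 1)], [(48, 1)], [(44, 4), (49, 1)], [(2, 1), (6, 2), (7, 3), (8, 1), (9, 3), (11, 3), (13, 2), (14, 1), (16, 4), (17, 1), (18, 4), (19, 3), (20, 3), (21, 3), (22, 4), (23, 3), (24, 3), (25, 4), (31, 4), (50, 1)], [(2, 2), (3, 4), (4, 1), (5, 4), (6, 2), (7, 4), (8, 2), (9, 3), (10, 2), (11, 3), (13, 1), (14, 2), (16, 1), (17, 2), (18, 1), (19, 4), (24, 1), (25, 1), (37, 3), (38, 1), (39, 1), (40, 1), (44, 2), (51, 1)]]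

/-- Columns. -/
def g22 : List ℕ := mkCols [[(0, 1)], [(1, 1)], [(4, 1), (5, 1), (7, 4), (13, 4), (15, 4)], [(2, 1), (4, 4), (5, 1), (6, 3), (7, 4), (8, 1), (9, 1), (10, 4), (11, 1), (12, 3), (14, 1), (15, 4), (16, 1)], [(7, 4), (8, 4), (9, 1), (11, 4), (15, 4), (16, 1), (17, 1)], [(2, 4), (4, 2), (6, 1), (8, 4), (9, 4), (10, 2), (12, 1), (13, 4), (16, 4)], [(6, 1)], [(7, 1)], [(2, 4), (3, 1), (5, 4), (6, 1), (7, 1), (8, 4), (9, 4), (10, 1), (11, 4), (12, 2), (13, 1), (14, 4), (17, 4)], [(9, 1)], [(2, 3), (3, 1), (4, 2), (6, 2), (7, 1), (8, 4), (9, 3), (10, 2), (11, 4), (12, 3), (14, 4), (16, 4), (17, 4)], [(7, 4), (9, 1), (11, 1), (12, 4), (13, 4), (17, 1)], [(6, 4), (7, 4), (9, 1), (11, 1), (12, 4), (13, 4)], [(7, 4), (9, 1), (12, 4), (17, 1)], [(2, 1), (4, 3), (5, 1), (6, 3), (7, 4), (8, 1), (9, 2), (10, 3), (11, 1), (12, 2), (14, 1), (16, 1)], [(2, 3), (4, 2), (6, 1),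 (7, 4), (8, 3), (9, 4), (10, 2), (11, 4), (12, 2), (13, 4), (15, 4)], [(2, 2), (3, 1), (4, 3), (5, 4), (6, 3), (8, 2), (9, 3), (10, 3), (11, 3), (12, 4), (13, 4), (14, 4), (15, 4)], [(6, 4), (11, 1), (12, 4)], [(2, 3), (4, 3), (5, 4), (7, 2), (8, 3), (9, 1), (10, 3), (11, 1), (12, 1), (13, 1), (14, 2), (16, 4), (17, 3), (18, 4), (19, 1), (20, 4), (21, 4), (23, 3), (24, 4), (25, 4)], [(2, 4), (4, 1), (6, 3), (7, 2), (8, 4), (9, 2), (10, 1), (11, 2), (12, 4), (13, 2), (14, 3), (17, 3), (18, 4), (19, 1), (20, 4), (21, 4), (22, 4), (23, 3), (24, 4)], [(20, 1)], [(4, 1), (5, 4), (6, 3), (7, 2), (9, 3), (10, 1), (11, 3), (12, 1), (13, 1), (14, 1), (16, 4), (17, 2), (18, 4), (19, 2), (20, 3), (21, 3), (22, 4), (23, 3), (24, 4)], [(2, 2), (4, 3), (6, 2), (7, 4), (8, 2), (9, 3), (10, 3), (11, 3), (13, 4), (14, 2), (17, 2), (18, 1), (19, 3), (21, 1), (24, 1)], [(23, 1)], [(2, 1), (4,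 4), (6, 4), (8, 1), (9, 1), (10, 4), (11, 1), (12, 3), (14, 1), (17, 1), (19, 4), (20, 1), (21, 1), (25, 1)], [(2, 2), (4, 3), (6, 3), (8, 2), (9, 2), (10, 3), (11, 2), (12, 2), (14, 1), (17, 1), (19, 4), (21, 1), (24, 1)], [(26, 1)], [(2, 2), (3, 4), (4, 3), (7, 1), (8, 1), (10, 4), (11, 4), (13, 2), (16, 1), (18, 4), (23, 4), (24, 4), (27, 1)], [(2, 2), (4, 4), (5, 4), (6, 2), (7, 3), (8, 2), (9, 4), (10, 4), (11, 4), (12, 4), (13, 2), (14, 1), (15, 1), (16, 4), (17, 2), (18, 3), (19, 2), (20, 4), (21, 3), (23, 3), (24, 3), (28, 1)], [(2, 4), (4, 1), (5, 1), (6, 3), (7, 3), (9, 1), (11, 2), (12, 3), (13, 3), (14, 1), (15, 4), (18, 1), (23, 1), (24, 1), (29, 1)], [(2, 4), (5, 3), (6, 2), (7, 3), (8, 1), (9, 1), (10, 2), (11, 3), (12, 3), (14, 1), (15, 2), (16, 2), (17, 4), (19, 1), (20, 4), (21, 4), (23, 4), (24, 4), (25, 4), (30, 4), (31, 2), (33, 2)], [(31, 1)], [(2, 3),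 (3, 1), (4, 4), (5, 2), (6, 4), (8, 1), (9, 4), (10, 2), (11, 1), (13, 3), (15, 2), (16, 3), (17, 3), (18, 4), (19, 2), (20, 4), (21, 4), (22, 4), (23, 4), (24, 4), (31, 3), (32, 4), (33, 2)], [(33, 1)], [(2, 2), (3, 2), (4, 1), (5, 3), (7, 2), (8, 3), (9, 2), (10, 2), (11, 1), (13, 2), (14, 2), (17, 4), (18, 3), (19, 2), (30, 2), (31, 1), (32, 3), (34, 1)], [(35, 1)], [(36, 1)], [(2, 3), (4, 3), (5, 4), (7, 2), (8, 3), (9, 1), (10, 3), (11, 1), (12, 1), (13, 1), (14, 2), (16, 4), (17, 3), (18, 4), (19, 1), (20, 4), (23, 3), (24, 4), (25, 4), (39, 4)], [(2, 1), (4, 4), (6, 1), (7, 2), (8, 1), (9, 4), (10, 4), (11, 4), (13, 2), (14, 4), (17, 4), (18, 4), (19, 1), (20, 4), (23, 3), (24, 4), (25, 4), (37, 1), (38, 4), (39, 4)], [(4, 1), (5, 4), (6, 3), (7, 2), (9, 3), (10, 1), (11, 3), (12, 1), (13, 1), (14, 1), (16, 4), (17, 2), (19, 2), (20, 3), (21, 3), (22, 4), (23, 3), (24,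 4), (37, 4)], [(40, 1)], [(2, 3), (4, 3), (5, 4), (6, 4), (7, 2), (8, 3), (9, 1), (10, 3), (11, 2), (13, 1), (14, 3), (15, 4), (16, 4), (17, 3), (18, 4), (19, 1), (20, 4), (23, 3), (24, 4), (25, 4), (38, 4), (39, 4), (41, 1)], [(2, 4), (3, 1), (4, 2), (5, 3), (6, 4), (7, 3), (8, 4), (9, 2), (10, 2), (11, 3), (12, 2), (13, 1), (16, 3), (17, 1), (18, 4), (19, 3), (20, 3), (21, 3), (23, 3), (24, 4), (25, 4), (38, 4), (39, 4), (42, 1)], [(4, 2), (5, 3), (6, 1), (7, 4), (9, 1), (10, 2), (11, 1), (12, 3), (13, 2), (14, 4), (16, 3), (17, 1), (18, 2), (19, 4), (20, 2), (21, 2), (23, 1), (24, 3), (25, 3), (37, 1), (38, 3), (39, 4), (43, 1)], [(2, 2), (3, 1), (4, 1), (5, 3), (6, 2), (7, 3), (10, 3), (11, 3), (12, 4), (14, 1), (15, 1), (16, 2), (17, 3), (19, 1), (24, 4), (30, 4), (31, 2), (32, 4), (33, 2), (45, 1)], [(2, 4), (3, 1), (4, 3), (5, 3), (7, 3), (8, 2), (9, 2), (13, 1), (14,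 2), (15, 1), (16, 3), (17, 4), (19, 1), (24, 4), (30, 4), (31, 3), (32, 4), (33, 2), (44, 1)], [(46, 4)], [(47, 1)], [(48, 1)], [(2, 3), (3, 1), (4, 2), (5, 4), (6, 2), (7, 1), (8, 3), (9, 3), (10, 2), (11, 4), (12, 3), (14, 4), (16, 4), (17, 4), (46, 4), (49, 1)], [(50, 1)], [(3, 4), (4, 3), (5, 1), (6, 1), (7, 2), (8, 2), (9, 2), (10, 1), (12, 1), (13, 4), (14, 3), (15, 3), (16, 2), (17, 1), (19, 4), (24, 1), (30, 1), (31, 3), (32, 1), (33, 3), (37, 4), (38, 1), (44, 1), (45, 4), (51, 1)]]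

/-- Columns. -/
def g23 : List ℕ := mkCols [[(0, 1)], [(1, 1)], [(2, 1), (4, 3), (6, 4), (8, 1), (9, 1), (10, 3), (11, 1), (12, 3), (13, 1)], [(3, 4)], [(4, 4)], [(2, 2), (3, 1), (4, 3), (5, 4), (6, 3), (7, 1), (8, 3), (9, 2), (10, 3), (11, 3), (14, 3), (16, 4), (17, 4)], [(7, 4)], [(6, 4)], [(2, 1), (3, 4), (5, 1), (6, 4), (7, 4), (8, 1), (9, 1), (10, 4), (11, 1), (12, 3), (13, 4), (14, 1), (17, 1)], [(7, 4), (8, 4), (9, 1), (13, 4), (17, 1)], [(10, 4)], [(11, 1)], [(9, 1), (11, 1), (12, 4), (17, 1)], [(2, 4), (3, 1), (5, 4), (6, 2), (7, 1), (8, 4), (9, 4), (10, 1), (11, 4), (12, 2), (13, 1), (14, 4)], [(4, 4), (5, 4), (9, 1), (12, 4), (13, 1), (16, 1), (17, 1)], [(2, 3), (4, 1), (5, 4), (6, 2), (7, 1), (8, 4), (9, 3), (10, 2), (11, 4), (12, 3), (14, 4), (15, 1), (16, 4), (17, 4)], [(2, 3), (4, 2), (6, 1), (8, 4), (9, 3), (10, 2), (12, 2), (13, 4), (16, 4), (17, 4)], [(7,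 1), (8, 1), (13, 1)], [(2, 2), (4, 2), (6, 1), (7, 3), (8, 2), (9, 4), (10, 2), (11, 4), (12, 4), (13, 4), (14, 2), (17, 2), (18, 1), (19, 4), (20, 1), (21, 1), (22, 1), (23, 1), (24, 1)], [(3, 4), (19, 1)], [(20, 1)], [(4, 4), (21, 1)], [(2, 1), (3, 1), (4, 4), (5, 4), (7, 2), (8, 2), (10, 4), (11, 1), (12, 2), (13, 1), (14, 2), (16, 4), (17, 3), (19, 1), (20, 4), (21, 4), (23, 4), (24, 4)], [(2, 1), (4, 4), (5, 1), (6, 3), (7, 4), (8, 1), (9, 1), (10, 4), (11, 1), (12, 3), (14, 1), (23, 1)], [(2, 1), (3, 1), (4, 4), (5, 4), (7, 2), (8, 2), (10, 4), (11, 1), (12, 2), (13, 1), (14, 2), (16, 4), (17, 3), (19, 1), (20, 4), (21, 4), (22, 4), (23, 4)], [(10, 4), (25, 1)], [(2, 1), (3, 1), (5, 3), (6, 2), (7, 2), (8, 3), (10, 1), (11, 4), (12, 3), (13, 3), (16, 1), (17, 2), (19, 3), (20, 2), (21, 2), (23, 2), (26, 4), (27, 4), (28, 3)], [(2, 1), (3, 3), (5, 1), (6, 4), (7, 4),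 (13, 4), (14, 1), (27, 1)], [(28, 1)], [(2, 1), (3, 2), (4, 3), (5, 3), (6, 4), (7, 1), (8, 3), (9, 2), (10, 3), (11, 3), (12, 4), (13, 1), (14, 2), (16, 4), (17, 4), (19, 1), (20, 4), (21, 4), (23, 4), (26, 1), (27, 3), (28, 1), (29, 1)], [(2, 1), (3, 1), (5, 2), (6, 3), (7, 2), (8, 3), (10, 3), (11, 2), (12, 2), (14, 3), (15, 2), (16, 3), (17, 1), (20, 1), (21, 1), (22, 1), (23, 1), (31, 3), (32, 4), (33, 2)], [(2, 2), (3, 3), (4, 3), (6, 3), (7, 3), (8, 2), (9, 2), (10, 3), (11, 2), (12, 2), (13, 3), (14, 2), (15, 1), (17, 2), (19, 3), (24, 2), (30, 2), (32, 2), (33, 1)], [(2, 1), (3, 3), (5, 1), (6, 4), (7, 4), (13, 4), (14, 1), (32, 1)], [(33, 1)], [(34, 1)], [(2, 4), (3, 3), (4, 2), (6, 1), (7, 4), (9, 2), (10, 4), (11, 2), (12, 1), (13, 1), (14, 3), (15, 2), (16, 1), (17, 3), (19, 2), (20, 4), (21, 4), (23, 4), (24, 1), (26, 1), (27, 3), (28, 1), (29, 2), (30, 1), (31,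 3), (32, 4), (33, 2), (34, 1), (35, 4)], [(2, 3), (4, 3), (5, 2), (6, 2), (8, 1), (9, 3), (10, 3), (11, 1), (12, 2), (13, 1), (14, 2), (16, 1), (24, 3), (29, 3), (30, 3), (34, 4), (35, 2), (36, 1)], [(2, 1), (4, 3), (6, 3), (7, 4), (8, 1), (9, 2), (10, 3), (11, 2), (12, 2), (14, 1), (16, 1), (17, 1), (18, 1), (19, 4), (24, 1), (25, 1), (37, 4), (38, 1), (39, 1), (40, 1)], [(2, 1), (3, 4), (4, 4), (6, 4), (8, 1), (9, 1), (10, 4), (12, 4), (13, 1), (16, 1), (38, 1)], [(2, 2), (4, 2), (5, 1), (6, 3), (7, 4), (8, 1), (9, 2), (10, 3), (11, 1), (12, 2), (14, 1), (16, 1), (17, 1), (39, 1)], [(40, 1)], [(2, 4), (3, 4), (4, 1), (9, 4), (10, 1), (12, 1), (16, 4), (17, 4), (41, 1)], [(2, 1), (3, 4), (4, 3), (5, 2), (6, 1), (7, 2), (8, 1), (9, 3), (10, 3), (11, 2), (12, 3), (13, 4), (16, 2), (17, 4), (18, 1), (19, 2), (20, 2), (21, 2), (23, 2), (24, 1), (25, 1), (38, 1), (39, 1), (40,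 1), (42, 4)], [(2, 4), (3, 4), (6, 4), (7, 3), (8, 4), (9, 1), (10, 1), (12, 2), (13, 4), (14, 3), (16, 1), (17, 3), (19, 3), (20, 2), (21, 2), (22, 1), (23, 2), (24, 1), (37, 1), (42, 4), (43, 1)], [(44, 4)], [(2, 4), (3, 4), (4, 1), (9, 4), (10, 1), (12, 1), (16, 4), (17, 4), (45, 1)], [(44, 4), (46, 1)], [(47, 4)], [(6, 4), (7, 4), (47, 1), (48, 1)], [(2, 3), (3, 1), (4, 4), (5, 3), (7, 3), (8, 3), (9, 1), (10, 3), (11, 3), (12, 3), (16, 2), (17, 1), (18, 4), (19, 3), (20, 3), (21, 3), (23, 3), (24, 4), (25, 4), (38, 4), (39, 4), (40, 4), (42, 2), (44, 4), (47, 4), (49, 1)], [(2, 3), (3, 3), (4, 2), (6, 2), (8, 4), (9, 1), (10, 2), (11, 3), (12, 4), (13, 4), (14, 4), (16, 4), (17, 4), (22, 4), (24, 1), (26, 4), (27, 2), (28, 4), (29, 2), (30, 2), (34, 1), (35, 3), (50, 1)], [(2, 2), (4, 2), (5, 3), (6, 2), (8, 3), (9, 3), (10, 2), (12, 3), (13, 4), (14, 4), (16, 4), (18,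 1), (19, 4), (24, 1), (25, 1), (37, 3), (38, 1), (39, 1), (40, 1), (44, 2), (51, 1)]]

/-- Columns. -/
def g24 : List ℕ := mkCols [[(0, 1)], [(1, 1)], [(2, 1), (18, 4)], [(2, 4), (4, 2), (6, 4), (7, 2), (8, 4), (9, 1), (10, 2), (11, 1), (13, 2), (14, 3), (17, 3), (18, 4), (19, 1), (20, 4), (21, 4), (22, 4), (23, 3), (24, 4)], [(4, 1), (21, 4)], [(7, 4), (9, 1), (11, 1), (12, 4), (13, 4), (17, 1), (22, 1)], [(5, 1), (6, 4), (7, 4), (9, 1), (11, 1), (12, 4), (13, 4), (14, 1), (23, 1)], [(2, 4), (4, 1), (5, 4), (6, 2), (7, 1), (8, 4), (9, 4), (10, 1), (11, 4), (12, 2), (14, 4), (20, 4), (23, 4)], [(2, 3), (3, 1), (4, 1), (6, 2), (7, 1), (8, 4), (9, 3), (10, 1), (11, 3), (12, 3), (13, 1), (14, 4), (17, 4), (22, 4), (25, 1)], [(2, 2), (4, 2), (6, 2), (7, 4), (8, 2), (9, 4), (10, 2), (11, 3), (14, 2), (16, 1), (17, 2), (19, 4), (20, 1), (21, 1), (23, 1), (24, 1), (25, 1)], [(3,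 1), (4, 4), (5, 4), (9, 1), (11, 1), (12, 4), (17, 1), (19, 4), (21, 1), (24, 1)], [(2, 2), (4, 4), (6, 4), (7, 1), (8, 2), (9, 1), (10, 4), (11, 2), (12, 1), (14, 3), (16, 4), (17, 3), (18, 4), (19, 2), (21, 4), (24, 4)], [(2, 4), (4, 1), (6, 2), (7, 1), (8, 4), (9, 3), (10, 1), (11, 3), (12, 3), (13, 1), (14, 4), (17, 4), (18, 4), (19, 1), (20, 1), (24, 4), (25, 1)], [(2, 1), (4, 4), (6, 3), (7, 4), (8, 1), (9, 2), (10, 4), (11, 2), (12, 2), (14, 1), (17, 1), (20, 1), (22, 1), (23, 1)], [(6, 1), (7, 1), (9, 4), (11, 4), (12, 1), (13, 1), (17, 4), (23, 4), (24, 4)], [(2, 3), (4, 3), (5, 4), (7, 2), (8, 3), (9, 1), (10, 3), (11, 1), (12, 1), (13, 1), (14, 2), (15, 1), (16, 4), (17, 3), (18, 4), (19, 1), (20, 4), (21, 3), (23, 3), (24, 4), (25, 4)], [(3, 1), (4, 1), (5, 4), (6, 2), (7, 2), (9, 4), (10, 1), (11, 4), (14, 1), (16, 4), (17, 2), (18, 4), (19, 2), (20, 4), (21,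 3), (23, 4), (24, 4), (25, 4)], [(6, 1), (7, 1), (9, 4), (11, 4), (12, 1), (13, 1), (14, 4), (23, 4), (24, 4)], [(18, 4)], [(2, 4), (4, 1), (6, 3), (7, 2), (8, 4), (9, 2), (10, 1), (11, 2), (12, 4), (13, 2), (14, 3), (17, 3), (18, 4), (19, 1), (20, 4), (21, 4), (22, 4), (23, 3), (24, 4)], [(2, 4), (4, 1), (7, 4), (8, 4), (10, 1), (12, 1), (13, 4)], [(21, 4)], [(22, 1)], [(23, 1)], [(6, 4), (7, 4), (9, 1), (11, 1), (12, 4), (13, 4), (22, 1)], [(2, 2), (4, 3), (6, 3), (8, 2), (9, 2), (10, 3), (11, 2), (12, 2), (14, 1), (17, 1), (19, 4), (21, 1), (24, 1)], [(26, 1)], [(2, 4), (3, 4), (4, 2), (5, 1), (6, 2), (7, 1), (8, 4), (9, 2), (10, 2), (11, 2), (12, 4), (13, 1), (14, 4), (17, 3), (18, 4), (19, 1), (20, 4), (21, 4), (22, 4), (23, 4), (24, 4), (27, 1)], [(2, 4), (3, 2), (4, 2), (5, 2), (6, 1), (7, 3), (8, 1), (9, 3), (10, 3), (11, 1), (12, 2), (13, 4), (14, 3), (16, 1), (17,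 1), (18, 4), (19, 4), (20, 1), (21, 1), (23, 1), (24, 4), (26, 4), (27, 3), (28, 4), (29, 4)], [(29, 1)], [(5, 4), (6, 1), (17, 1), (18, 4), (24, 1), (30, 1)], [(31, 1)], [(2, 3), (3, 1), (4, 4), (5, 2), (6, 4), (8, 1), (9, 4), (10, 2), (11, 1), (13, 3), (15, 2), (16, 3), (17, 3), (18, 4), (19, 2), (20, 4), (21, 4), (22, 4), (23, 4), (24, 4), (31, 3), (32, 4), (33, 2)], [(33, 1)], [(2, 3), (4, 3), (5, 2), (6, 2), (8, 1), (9, 3), (10, 3), (11, 1), (12, 2), (13, 1), (14, 2), (16, 1), (24, 3), (29, 3), (30, 3), (34, 4), (35, 2), (36, 1)], [(5, 1), (6, 3), (7, 4), (9, 1), (11, 1), (12, 4), (13, 4), (14, 1), (23, 1), (35, 1)], [(36, 1)], [(4, 4), (5, 1), (6, 2), (7, 3), (9, 2), (10, 4), (11, 2), (12, 4), (13, 4), (14, 4), (16, 1), (17, 3), (19, 3), (20, 2), (21, 2), (22, 1), (23, 2), (24, 1), (37, 1)], [(2, 1), (4, 4), (6, 1), (7, 2), (8, 1), (9, 4), (10, 4), (11, 4), (13, 2),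 (14, 4), (17, 4), (18, 4), (19, 1), (20, 4), (23, 3), (24, 4), (25, 4), (37, 1), (38, 4), (39, 4)], [(2, 2), (4, 2), (5, 1), (7, 3), (8, 2), (9, 4), (10, 2), (11, 4), (12, 4), (13, 4), (14, 3), (16, 1), (17, 2), (18, 1), (19, 4), (20, 1), (23, 2), (24, 1), (25, 1), (39, 1)], [(40, 1)], [(4, 1), (6, 3), (7, 2), (9, 3), (10, 1), (11, 2), (12, 3), (13, 1), (14, 3), (17, 4), (18, 3), (19, 1), (20, 4), (21, 4), (23, 3), (24, 4), (25, 4), (37, 1), (38, 4), (40, 1), (42, 4), (43, 1)], [(2, 3), (3, 1), (4, 2), (5, 4), (6, 4), (7, 1), (8, 3), (9, 3), (10, 2), (11, 2), (12, 4), (14, 3), (18, 4), (19, 1), (20, 4), (21, 4), (23, 4), (37, 1), (38, 4), (40, 1), (41, 4), (43, 1)], [(4, 2), (5, 3), (6, 1), (7, 4), (9, 1), (10, 2), (11, 1), (12, 3), (13, 2), (14, 4), (16, 3), (17, 1), (18, 2), (19, 4), (20, 2), (21, 2), (23, 1), (24, 3), (25, 3), (37, 1), (38, 3), (39, 4), (43, 1)], [(2, 4),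 (3, 1), (4, 4), (5, 2), (6, 2), (7, 4), (8, 2), (9, 1), (10, 1), (11, 4), (12, 2), (13, 1), (14, 1), (15, 2), (16, 2), (17, 4), (18, 4), (23, 4), (24, 4), (30, 4), (31, 2), (32, 4), (33, 2), (45, 1), (46, 1)], [(3, 1), (4, 3), (5, 4), (6, 1), (7, 1), (10, 4), (11, 4), (13, 2), (14, 4), (16, 1), (18, 4), (19, 1), (30, 1), (31, 1), (32, 4), (44, 1), (46, 4)], [(2, 3), (4, 3), (5, 4), (7, 2), (8, 3), (9, 1), (10, 3), (11, 1), (12, 1), (13, 1), (14, 2), (16, 4), (17, 3), (18, 3), (19, 1), (20, 4), (21, 4), (23, 3), (24, 4), (25, 4), (46, 1)], [(2, 4), (4, 1), (7, 4), (8, 4), (10, 1), (12, 1), (13, 4), (20, 4), (47, 1), (48, 1)], [(48, 4)], [(3, 3), (5, 2), (6, 4), (7, 3), (8, 2), (10, 1), (11, 3), (12, 4), (13, 4), (14, 4), (16, 1), (17, 2), (18, 4), (19, 3), (20, 2), (21, 2), (23, 2), (26, 4), (27, 3), (28, 3), (29, 4), (49, 1)], [(2, 2), (3, 4), (5, 2), (6, 1), (7, 3), (8, 4),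 (9, 3), (10, 4), (11, 3), (14, 2), (15, 2), (16, 4), (17, 2), (18, 3), (20, 2), (21, 1), (23, 1), (24, 1), (26, 4), (27, 3), (28, 3), (29, 1), (30, 2), (31, 3), (32, 3), (33, 2), (34, 2), (35, 3), (36, 4), (37, 1), (39, 1), (40, 2), (41, 3), (42, 3), (43, 2), (48, 4), (50, 1)], [(2, 1), (3, 4), (5, 2), (6, 3), (7, 4), (8, 3), (9, 1), (10, 3), (11, 2), (12, 3), (13, 3), (14, 2), (15, 3), (17, 1), (18, 1), (19, 2), (20, 2), (21, 1), (22, 1), (23, 2), (24, 3), (25, 1), (30, 1), (31, 3), (32, 1), (33, 3), (38, 1), (39, 1), (40, 1), (41, 4), (42, 4), (43, 1), (44, 1), (45, 4), (46, 4), (48, 4), (51, 1)]]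

/-- Columns. -/
def g25 : List ℕ := mkCols [[(0, 1)], [(1, 1)], [(2, 3), (3, 1), (4, 2), (5, 4), (6, 2), (7, 1), (8, 3), (9, 3), (10, 2), (11, 4), (12, 3), (14, 4), (16, 4), (17, 4)], [(2, 3), (4, 3), (5, 4), (6, 3), (7, 1), (8, 3), (9, 2), (10, 3), (11, 3), (13, 4), (14, 4), (16, 4), (17, 4)], [(4, 1)], [(2, 4), (5, 4), (6, 1), (7, 1), (9, 4), (10, 1), (12, 1), (13, 1), (14, 4), (15, 1), (16, 4)], [(2, 3), (3, 1), (4, 1), (5, 4), (6, 2), (8, 3), (9, 4), (10, 2), (11, 4), (12, 2), (14, 4)], [(2, 1), (4, 4), (6, 4), (8, 1), (9, 1), (10, 4), (11, 1), (12, 3), (17, 1)], [(2, 4), (4, 1), (6, 1), (8, 4), (9, 4), (10, 1), (11, 4), (12, 2), (13, 4)], [(7, 4), (8, 4), (9, 1), (13, 4), (17, 1)], [(2, 4), (4, 1), (6, 1), (8, 4), (9, 4), (10, 1), (12, 1), (13, 4), (16, 4)], [(11, 1)], [(12, 1)], [(13, 1)], [(2, 4), (4, 2), (6, 1), (7, 4), (8, 4), (9, 4), (10, 2), (11, 4), (12, 2), (13,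 4), (15, 4)], [(2, 3), (4, 3), (6, 2), (8, 4), (9, 3), (10, 2), (11, 4), (12, 3), (13, 4), (14, 4), (16, 4), (17, 4)], [(8, 1), (10, 4), (11, 1), (12, 4)], [(7, 1), (8, 1), (13, 1)], [(3, 3), (5, 2), (6, 4), (7, 3), (8, 2), (10, 1), (11, 3), (12, 4), (13, 4), (14, 4), (16, 1), (17, 2), (19, 3), (20, 2), (21, 2), (23, 2), (26, 4), (27, 3), (28, 3), (29, 4)], [(3, 4), (4, 1), (5, 1), (6, 4), (7, 4), (8, 4), (10, 1), (12, 1), (13, 3), (14, 1), (15, 4), (20, 1), (21, 1), (23, 1), (27, 1), (28, 4)], [(20, 1), (28, 4)], [(21, 1)], [(2, 2), (3, 4), (4, 3), (7, 1), (8, 1), (10, 4), (11, 4), (13, 2), (15, 1), (18, 4), (24, 4), (27, 1), (29, 4)], [(2, 2), (3, 2), (4, 2), (5, 4), (6, 3), (7, 1), (8, 3), (9, 3), (10, 2), (11, 3), (12, 3), (13, 1), (14, 3), (17, 4), (19, 1), (20, 4), (21, 4), (27, 4), (28, 1)], [(2, 3), (3, 1), (4, 1), (5, 4), (9, 4), (10, 1), (11, 1), (14, 4), (16, 4),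 (18, 1), (24, 1), (26, 1), (27, 4), (29, 1)], [(2, 2), (3, 4), (4, 3), (5, 1), (6, 2), (7, 4), (8, 1), (9, 2), (10, 3), (11, 2), (12, 2), (13, 4), (14, 2), (17, 1), (19, 4), (20, 1), (21, 1), (23, 1), (25, 1), (27, 1)], [(5, 4), (7, 4), (9, 1), (11, 1), (12, 4), (13, 4), (17, 1), (22, 1), (24, 1)], [(3, 4), (4, 1), (6, 1), (8, 4), (9, 4), (10, 1), (11, 4), (12, 2), (13, 4), (27, 1), (28, 4)], [(28, 4)], [(2, 4), (3, 2), (4, 1), (5, 3), (6, 4), (7, 3), (9, 3), (10, 1), (11, 3), (12, 1), (13, 2), (16, 4), (17, 2), (18, 4), (19, 2), (20, 3), (21, 3), (22, 4), (23, 3), (24, 4), (27, 4), (28, 1)], [(2, 3), (3, 3), (4, 3), (5, 1), (6, 2), (7, 4), (8, 1), (9, 2), (10, 3), (11, 2), (12, 2), (13, 4), (14, 2), (17, 1), (19, 4), (20, 1), (21, 1), (23, 1), (26, 4), (27, 2), (28, 4), (35, 4)], [(3, 3), (4, 1), (5, 2), (7, 3), (8, 3), (10, 1), (11, 3), (12, 4), (13, 4), (14, 4), (15, 1),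 (16, 1), (17, 2), (19, 3), (29, 3), (32, 2), (33, 1), (34, 4), (35, 2)], [(3, 4), (4, 1), (6, 1), (8, 4), (9, 4), (10, 1), (11, 4), (12, 2), (13, 4), (32, 1)], [(2, 2), (3, 2), (4, 1), (5, 3), (7, 2), (8, 3), (9, 2), (10, 2), (11, 1), (13, 2), (14, 2), (17, 4), (18, 3), (19, 2), (30, 2), (31, 1), (32, 3), (34, 1)], [(34, 1)], [(2, 3), (3, 1), (4, 2), (6, 3), (7, 2), (8, 3), (9, 2), (10, 2), (11, 2), (12, 4), (13, 2), (14, 3), (17, 3), (19, 1), (20, 4), (21, 4), (22, 4), (23, 4), (24, 4), (30, 4)], [(36, 1)], [(2, 1), (3, 4), (5, 1), (6, 4), (7, 4), (8, 4), (13, 4), (14, 1), (27, 2), (28, 4), (41, 4), (42, 1)], [(2, 3), (3, 3), (4, 3), (5, 1), (6, 2), (7, 4), (8, 1), (9, 2), (10, 4), (11, 1), (12, 3), (13, 4), (14, 2), (16, 1), (17, 1), (19, 4), (20, 1), (21, 1), (23, 1), (27, 2), (28, 4), (38, 1), (41, 4)], [(2, 2), (4, 3), (5, 1), (6, 3), (7, 4), (8, 1), (9, 2), (10, 3),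 (11, 1), (12, 2), (14, 1), (16, 1), (17, 1), (39, 1)], [(2, 2), (3, 1), (4, 3), (5, 4), (6, 4), (7, 1), (8, 2), (9, 2), (10, 3), (11, 2), (14, 3), (17, 4), (19, 1), (20, 4), (21, 4), (23, 4), (40, 1), (41, 4)], [(3, 4), (4, 1), (6, 1), (8, 4), (9, 4), (10, 1), (11, 4), (12, 2), (13, 4), (27, 2), (28, 4), (41, 4)], [(3, 1), (4, 4), (9, 1), (10, 4), (12, 4), (16, 1), (17, 1), (37, 1), (41, 4)], [(2, 2), (3, 2), (4, 4), (5, 2), (6, 4), (7, 3), (8, 4), (9, 1), (11, 3), (12, 3), (13, 4), (14, 4), (16, 2), (17, 3), (18, 4), (19, 3), (20, 2), (21, 2), (23, 2), (26, 4), (27, 3), (28, 3), (29, 4), (37, 1), (41, 4), (42, 4), (43, 1)], [(2, 3), (3, 1), (4, 4), (5, 3), (7, 3), (8, 3), (9, 1), (10, 3), (11, 3), (12, 3), (16, 2), (17, 1), (18, 4), (19, 3), (20, 3), (21, 3), (23, 3), (24, 4), (25, 4), (38, 4), (39, 4), (40, 4), (42, 2), (47, 4)], [(2, 3), (4, 2), (5, 4), (6, 2), (7, 1),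 (8, 4), (9, 3), (10, 2), (11, 4), (12, 3), (14, 4), (16, 4), (17, 4), (45, 1)], [(4, 1), (5, 1), (7, 4), (13, 4), (15, 4), (46, 1), (49, 4)], [(3, 1), (6, 1), (7, 1), (11, 4), (13, 1), (14, 4), (18, 4), (19, 1), (24, 4), (25, 4), (37, 2), (38, 4), (39, 4), (40, 4), (44, 4)], [(2, 2), (4, 1), (7, 3), (8, 3), (9, 4), (10, 2), (11, 4), (12, 4), (14, 2), (16, 1), (17, 2), (18, 1), (19, 3), (20, 1), (21, 1), (23, 1), (24, 1), (25, 1), (27, 4), (37, 4), (38, 1), (39, 1), (40, 1), (41, 1), (42, 4), (44, 1), (47, 1), (48, 1), (49, 4)], [(49, 4)], [(50, 1)], [(2, 2), (3, 4), (4, 1), (5, 4), (6, 1), (7, 4), (8, 3), (9, 3), (10, 2), (11, 4), (14, 2), (15, 1), (17, 2), (18, 1), (19, 3), (20, 1), (21, 1), (23, 1), (24, 1), (25, 1), (37, 4), (38, 1), (39, 1), (40, 1), (42, 4), (44, 1), (47, 1), (51, 1)]]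

/-- Columns. -/
def g26 : List ℕ := mkCols [[(0, 1)], [(1, 1)], [(4, 1), (5, 1), (6, 4), (7, 4), (11, 1), (12, 4), (13, 4), (14, 1), (15, 4), (18, 1)], [(2, 2), (3, 3), (5, 2), (9, 4), (11, 3), (12, 2), (14, 1), (17, 4), (18, 4), (22, 4), (24, 4), (26, 4), (27, 2), (28, 4), (29, 4)], [(4, 1)], [(7, 4), (9, 1), (11, 1), (12, 4), (13, 4), (17, 1), (22, 1)], [(2, 4), (3, 1), (11, 1), (12, 4), (18, 1), (27, 4)], [(2, 2), (4, 3), (5, 4), (6, 3), (7, 1), (8, 3), (9, 2), (10, 3), (11, 3), (12, 4), (14, 3), (16, 4), (17, 4), (19, 1), (20, 4), (21, 4), (23, 4), (29, 1)], [(2, 1), (3, 1), (4, 4), (5, 4), (6, 2), (7, 3), (8, 2), (9, 4), (10, 4), (11, 4), (12, 4), (13, 2), (14, 1), (15, 1), (16, 4), (17, 2), (18, 4), (19, 2), (20, 3), (21, 3), (22, 4), (23, 3), (24, 4), (27, 4), (28, 1)], [(2, 4), (3, 1), (5, 4), (9, 1), (11, 1), (12, 4), (17, 1), (18, 1), (24, 1), (27, 4)], [(2, 2),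 (3, 1), (4, 3), (5, 4), (6, 4), (7, 1), (8, 3), (9, 2), (10, 3), (11, 3), (12, 4), (14, 3), (16, 4), (17, 4), (19, 1), (20, 4), (21, 4), (23, 4), (27, 4), (28, 1)], [(11, 1)], [(12, 1)], [(2, 3), (4, 2), (6, 2), (7, 4), (8, 2), (9, 4), (10, 2), (11, 3), (14, 2), (16, 1), (17, 2), (19, 4), (20, 1), (21, 1), (22, 1), (23, 1), (29, 4)], [(2, 3), (3, 1), (4, 2), (5, 4), (6, 2), (7, 1), (8, 4), (9, 3), (10, 2), (11, 4), (12, 3), (14, 4), (16, 4), (17, 4), (27, 4)], [(2, 3), (4, 3), (6, 2), (8, 4), (9, 3), (10, 2), (11, 4), (12, 3), (13, 4), (14, 4), (16, 4), (17, 4)], [(2, 1), (3, 1), (4, 4), (5, 4), (6, 4), (7, 1), (8, 3), (9, 1), (10, 3), (11, 3), (14, 2), (16, 4), (17, 3), (19, 1), (20, 4), (21, 4), (23, 4), (27, 4), (28, 1), (29, 1)], [(2, 1), (3, 4), (5, 1), (11, 4), (12, 1), (18, 4), (24, 4), (27, 1)], [(18, 1)], [(2, 2), (4, 4), (7, 2), (8, 2), (10, 4), (12, 3), (13, 1),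 (14, 2), (16, 4), (17, 2), (18, 4), (19, 2), (20, 4), (21, 4), (22, 4), (23, 4), (24, 4)], [(2, 4), (4, 1), (7, 4), (8, 4), (10, 1), (12, 1), (13, 4), (20, 1), (23, 1), (25, 1)], [(21, 1)], [(22, 1)], [(2, 4), (4, 1), (6, 2), (7, 1), (8, 4), (9, 3), (10, 1), (11, 3), (12, 2), (13, 1), (14, 4), (17, 4), (19, 1), (20, 4), (21, 4), (23, 4), (24, 4), (25, 4)], [(6, 4), (7, 4), (9, 1), (11, 1), (12, 4), (13, 4), (22, 1)], [(2, 1), (4, 4), (7, 1), (8, 1), (10, 4), (12, 4), (13, 1), (23, 4)], [(2, 1), (3, 4), (4, 4), (6, 4), (8, 1), (10, 4), (11, 1), (12, 4), (15, 1), (16, 4)], [(2, 2), (3, 3), (4, 4), (5, 1), (7, 1), (9, 4), (11, 3), (12, 2), (13, 1), (15, 1), (17, 4), (18, 4), (22, 4), (24, 4), (26, 4), (27, 2), (28, 4), (29, 4)], [(2, 4), (4, 1), (5, 4), (6, 1), (8, 4), (9, 4), (10, 2), (11, 4), (12, 2), (14, 4)], [(2, 3), (3, 1), (4, 2), (6, 1), (8, 4), (9, 4), (10, 1), (12,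 1), (13, 4), (15, 4), (18, 1), (27, 4)], [(5, 4), (6, 1), (17, 1), (24, 1), (30, 1)], [(33, 1), (36, 4)], [(2, 4), (3, 4), (4, 1), (6, 4), (7, 2), (8, 3), (9, 1), (10, 2), (12, 1), (13, 2), (14, 3), (17, 3), (18, 3), (19, 2), (22, 4), (24, 4), (26, 4), (27, 2), (28, 4), (30, 1), (32, 4), (34, 1), (35, 4), (36, 4)], [(31, 1), (36, 1)], [(34, 1)], [(2, 1), (4, 4), (5, 1), (6, 4), (9, 1), (10, 4), (12, 4), (14, 1), (16, 1), (24, 4), (29, 4), (35, 1)], [(36, 1)], [(4, 4), (5, 1), (6, 2), (7, 3), (9, 2), (10, 4), (11, 2), (12, 4), (13, 4), (14, 4), (16, 1), (17, 3), (18, 1), (19, 3), (20, 2), (21, 2), (22, 1), (23, 2), (24, 1), (37, 1)], [(2, 3), (3, 2), (4, 3), (5, 3), (6, 2), (7, 3), (9, 2), (10, 4), (11, 4), (12, 1), (13, 4), (16, 2), (17, 3), (18, 4), (19, 3), (20, 2), (21, 2), (23, 2), (26, 4), (27, 3), (28, 3), (29, 4), (37, 1), (40, 1), (41, 4), (42, 4), (43, 1)], [(2, 2),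 (4, 2), (5, 1), (7, 3), (8, 2), (9, 4), (10, 2), (11, 4), (12, 4), (13, 4), (14, 3), (16, 1), (17, 2), (18, 1), (19, 4), (20, 1), (21, 1), (23, 2), (24, 1), (25, 1), (39, 1)], [(2, 2), (4, 2), (5, 1), (6, 1), (7, 4), (8, 2), (9, 3), (10, 2), (11, 3), (14, 2), (16, 1), (17, 1), (18, 1), (19, 4), (20, 1), (21, 1), (23, 1), (38, 1), (43, 4)], [(2, 1), (3, 3), (4, 4), (5, 3), (6, 2), (7, 3), (9, 1), (10, 4), (12, 1), (13, 4), (14, 4), (16, 1), (17, 2), (19, 3), (20, 2), (21, 2), (23, 2), (26, 4), (27, 2), (28, 4), (37, 1), (42, 4)], [(3, 1), (4, 4), (9, 1), (10, 4), (12, 4), (16, 1), (17, 1), (37, 1), (41, 4)], [(2, 2), (3, 2), (4, 4), (5, 2), (6, 4), (7, 3), (8, 4), (9, 1), (11, 3), (12, 3), (13, 4), (14, 4), (16, 2), (17, 3), (18, 4), (19, 3), (20, 2), (21, 2), (23, 2), (26, 4), (27, 3), (28, 3), (29, 4), (37, 1), (41, 4), (42, 4), (43, 1)], [(2, 3), (3, 1), (4, 4), (5, 3),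 (7, 3), (8, 3), (9, 1), (10, 3), (11, 3), (12, 3), (16, 2), (17, 1), (18, 4), (19, 3), (20, 3), (21, 3), (23, 3), (24, 4), (25, 4), (38, 4), (39, 4), (40, 4), (42, 2), (47, 4), (49, 1)], [(3, 4), (4, 3), (5, 2), (6, 3), (7, 3), (8, 1), (9, 1), (10, 1), (11, 2), (12, 3), (13, 4), (14, 2), (15, 2), (16, 3), (17, 1), (18, 3), (19, 1), (20, 1), (23, 1), (24, 1), (26, 4), (27, 3), (28, 3), (30, 2), (31, 3), (32, 4), (33, 3), (34, 1), (35, 4), (36, 4), (37, 1), (38, 4), (40, 1), (41, 3), (43, 2), (46, 4), (47, 4), (48, 4), (49, 1)], [(2, 3), (4, 3), (5, 4), (7, 2), (8, 3), (9, 1), (10, 3), (11, 1), (12, 1), (13, 1), (14, 2), (16, 4), (17, 3), (18, 4), (19, 1), (20, 4), (21, 4), (23, 3), (24, 4), (25, 4), (46, 1)], [(2, 1), (3, 1), (5, 4), (6, 1), (7, 2), (12, 3), (14, 2), (16, 4), (17, 3), (18, 4), (19, 2), (20, 4), (21, 4), (23, 4), (24, 4), (25, 4), (27, 1), (28, 4), (37, 1),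 (38, 4), (39, 4), (40, 4), (41, 4), (42, 1), (44, 4), (49, 1)], [(3, 3), (4, 1), (5, 4), (6, 1), (7, 3), (8, 2), (10, 4), (11, 2), (12, 4), (13, 3), (14, 3), (15, 3), (17, 4), (18, 2), (19, 2), (20, 2), (21, 1), (23, 3), (24, 2), (25, 2), (30, 1), (31, 3), (32, 1), (33, 3), (37, 4), (38, 2), (39, 1), (44, 1), (45, 4), (46, 4)], [(49, 1)], [(3, 4), (4, 3), (5, 1), (6, 1), (9, 4), (10, 2), (11, 4), (12, 1), (13, 1), (15, 3), (16, 3), (18, 2), (19, 2), (21, 4), (23, 4), (25, 4), (26, 4), (27, 3), (28, 3), (30, 2), (31, 3), (32, 4), (33, 3), (34, 1), (35, 4), (36, 4), (37, 1), (38, 4), (40, 1), (41, 3), (43, 2), (45, 4), (46, 4), (47, 4), (48, 4), (49, 1), (50, 1)], [(2, 1), (3, 4), (5, 2), (6, 3), (7, 4), (8, 3), (9, 1), (10, 3), (11, 2), (12, 3), (13, 3), (14, 2), (15, 3), (17, 1), (18, 1), (19, 2), (20, 2), (21, 1), (22, 1), (23, 2), (24, 3), (25, 1), (30, 1), (31, 3), (32,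 1), (33, 3), (38, 1), (39, 1), (40, 1), (41, 4), (42, 4), (43, 1), (44, 1), (45, 4), (46, 4), (48, 4), (51, 1)]]

/-- Columns. -/
def g27 : List ℕ := mkCols [[(0, 1)], [(1, 4), (2, 4), (4, 4), (5, 3), (6, 2), (7, 4), (8, 4), (10, 1), (11, 1), (12, 1), (14, 3), (15, 3), (16, 2), (18, 4), (20, 1), (21, 2), (24, 4), (25, 4), (26, 4), (27, 1), (29, 3), (30, 3), (31, 1), (33, 3), (34, 4), (35, 4), (36, 3), (37, 1), (39, 3), (40, 2), (41, 2), (42, 3), (43, 1), (44, 3), (45, 1), (46, 2), (47, 4), (48, 4), (49, 1), (50, 4), (51, 2)], [(4, 4), (8, 1), (10, 4), (12, 4), (13, 1)], [(2, 1), (3, 4), (4, 4), (5, 1), (6, 3), (7, 4), (8, 1), (9, 1), (10, 4), (11, 1), (12, 3), (14, 1)], [(2, 4), (5, 4), (6, 1), (8, 4), (9, 4), (10, 1), (11, 4), (12, 2), (14, 4)], [(2, 1), (4, 4), (6, 4), (8, 1), (9, 1), (10, 4), (11, 1), (12, 3), (14, 1)], [(6, 1)], [(7, 1)], [(8, 4)], [(2, 4), (4, 1), (6,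 1), (8, 4), (9, 4), (10, 1), (12, 1), (13, 4)], [(2, 1), (4, 4), (5, 1), (6, 4), (8, 1), (9, 1), (10, 3), (11, 1), (12, 3), (14, 1)], [(2, 4), (4, 1), (6, 1), (7, 4), (8, 4), (10, 1), (11, 4), (12, 1), (13, 4)], [(2, 4), (4, 1), (7, 4), (8, 4), (10, 1), (13, 4)], [(7, 4), (13, 4)], [(5, 1), (6, 4), (7, 4), (9, 1), (11, 1), (12, 4), (13, 4)], [(2, 4), (4, 1), (7, 4), (8, 4), (10, 1), (12, 1), (13, 4), (15, 4)], [(2, 3), (4, 2), (5, 4), (6, 2), (8, 3), (9, 4), (10, 2), (11, 4), (12, 3), (13, 4), (14, 4), (16, 4)], [(6, 4), (17, 4)], [(5, 4), (6, 2), (7, 1), (9, 4), (11, 4), (12, 1), (13, 1), (14, 4), (18, 4), (23, 4)], [(19, 4), (23, 4)], [(20, 1)], [(2, 4), (4, 1), (5, 4), (6, 2), (8, 4), (9, 4), (10, 1), (11, 4), (12, 2), (14, 4), (20, 4), (21, 4), (23, 4)], [(2, 1), (4, 4), (7, 1), (8, 1), (10, 4), (12, 4), (13, 1), (20, 4), (22, 4), (23, 4)], [(23, 1)], [(2, 1), (4, 4),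 (7, 1), (8, 1), (10, 4), (12, 4), (13, 1), (23, 4), (24, 4)], [(2, 1), (4, 4), (7, 1), (8, 1), (10, 4), (12, 4), (13, 1), (20, 4), (23, 4), (25, 4)], [(1, 4), (2, 2), (3, 1), (4, 1), (6, 3), (8, 1), (9, 2), (11, 2), (12, 2), (13, 1), (14, 3), (15, 4), (16, 3), (17, 4), (19, 3), (20, 3), (21, 2), (22, 1), (23, 1), (24, 2), (25, 1), (27, 3), (28, 3), (30, 1), (31, 1), (32, 3), (34, 4), (35, 4), (37, 3), (38, 3), (39, 1), (40, 2), (41, 2), (43, 1), (44, 3), (45, 3), (46, 1), (48, 3), (49, 3), (50, 4)], [(1, 4), (2, 4), (4, 2), (5, 3), (6, 3), (7, 3), (8, 4), (10, 4), (11, 1), (12, 2), (13, 2), (14, 1), (15, 2), (16, 1), (17, 4), (18, 4), (19, 3), (20, 3), (21, 2), (22, 1), (24, 1), (25, 1), (27, 3), (28, 3), (29, 4), (30, 1), (31, 3), (32, 3), (33, 3), (34, 4), (36, 4), (37, 3), (38, 3), (39, 1), (40, 2), (41, 2), (43, 1), (44, 3), (45, 3), (46, 1), (48, 3), (49, 3), (50, 4)],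 [(1, 4), (2, 4), (3, 2), (4, 1), (5, 1), (6, 4), (8, 1), (10, 3), (11, 2), (12, 4), (13, 3), (14, 2), (15, 2), (17, 2), (18, 3), (20, 3), (21, 1), (22, 1), (24, 1), (25, 1), (27, 3), (28, 3), (30, 2), (31, 3), (32, 2), (33, 3), (35, 4), (36, 3), (37, 3), (38, 3), (39, 1), (40, 2), (41, 2), (43, 1), (44, 3), (45, 3), (46, 1), (48, 3), (49, 3), (50, 4)], [(5, 1), (6, 4), (7, 4), (9, 1), (11, 1), (12, 4), (13, 4), (14, 1), (23, 1), (29, 4), (35, 1)], [(30, 4)], [(31, 4)], [(32, 4)], [(33, 4)], [(2, 3), (3, 3), (4, 3), (6, 1), (7, 4), (8, 4), (9, 2), (11, 2), (12, 2), (14, 3), (15, 2), (16, 1), (17, 3), (19, 2), (20, 4), (21, 4), (23, 4), (24, 1), (26, 1), (27, 3), (28, 1), (29, 2), (30, 1), (31, 3), (32, 4), (33, 2)], [(35, 1)], [(2, 3), (3, 1), (4, 4), (5, 2), (7, 2), (8, 2), (9, 2), (10, 1), (11, 1), (13, 4), (14, 2), (15, 2), (16, 2), (18, 1), (24, 1), (26, 1), (27, 4), (29,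 1), (31, 3), (33, 2)], [(5, 4), (6, 2), (7, 1), (9, 4), (11, 4), (12, 1), (13, 1), (14, 4), (20, 4), (23, 3), (37, 4), (40, 1)], [(2, 1), (4, 4), (7, 1), (8, 1), (10, 4), (12, 4), (13, 1), (20, 4), (23, 3), (38, 4), (40, 1)], [(2, 4), (4, 1), (5, 4), (6, 2), (8, 4), (9, 4), (10, 1), (11, 4), (12, 2), (14, 4), (39, 4), (40, 4)], [(40, 1)], [(2, 4), (4, 2), (6, 3), (7, 2), (8, 4), (9, 2), (10, 2), (11, 2), (12, 4), (13, 1), (14, 3), (16, 4), (17, 3), (18, 4), (19, 1), (20, 4), (23, 3), (24, 4), (25, 4), (37, 1), (38, 4), (39, 4), (44, 4), (51, 4)], [(40, 1), (42, 4), (47, 1)], [(2, 4), (4, 2), (5, 1), (6, 1), (8, 4), (9, 3), (10, 2), (11, 3), (12, 3), (14, 4), (16, 4), (17, 3), (18, 4), (19, 1), (20, 4), (23, 4), (24, 4), (25, 4), (37, 1), (38, 4), (39, 4), (40, 4), (41, 1), (43, 4), (44, 4), (47, 1), (48, 1), (51, 4)], [(44, 4)], [(45, 4)], [(46, 4)], [(47, 1)], [(48, 1)],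 [(2, 1), (3, 1), (4, 1), (5, 2), (6, 1), (7, 1), (8, 4), (9, 1), (10, 3), (13, 1), (14, 2), (15, 4), (16, 2), (18, 2), (19, 1), (20, 4), (21, 3), (23, 3), (24, 3), (25, 4), (26, 2), (27, 2), (28, 1), (29, 1), (30, 2), (31, 4), (32, 4), (33, 4), (34, 4), (35, 1), (36, 4), (37, 1), (38, 1), (39, 2), (40, 3), (41, 3), (42, 1), (43, 2), (44, 2), (45, 2), (46, 4), (47, 1), (48, 4), (49, 1), (50, 3)], [(50, 4)], [(2, 2), (4, 2), (6, 2), (7, 4), (8, 2), (9, 3), (10, 2), (11, 3), (14, 2), (16, 1), (17, 2), (18, 1), (19, 4), (24, 1), (25, 1), (37, 4), (38, 1), (39, 1), (40, 1), (41, 4), (44, 1)]]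

/-- Columns. -/
def g28 : List ℕ := mkCols [[(0, 1)], [(1, 4), (2, 1), (3, 1), (5, 4), (6, 2), (7, 4), (8, 3), (10, 3), (11, 4), (12, 2), (13, 1), (14, 3), (15, 2), (16, 2), (17, 4), (18, 2), (20, 4), (21, 3), (24, 3), (25, 3), (26, 1), (27, 1), (29, 2), (30, 4), (31, 4), (32, 1), (33, 4), (34, 1), (35, 4), (36, 3), (37, 1), (38, 1), (39, 4), (40, 1), (43, 1), (44, 3), (47, 3), (48, 4), (49, 3), (50, 4), (51, 2)], [(4, 4), (6, 4), (9, 1), (10, 4), (11, 1), (12, 4)], [(3, 4)], [(4, 4)], [(2, 4), (4, 1), (5, 4), (6, 1), (7, 1), (9, 3), (10, 1), (12, 2), (14, 4), (15, 1), (16, 4), (17, 4)], [(2, 4), (4, 1), (7, 4), (8, 4), (10, 1), (12, 1), (13, 4)], [(2, 1), (4, 4), (6, 4), (8, 1), (10, 4), (12, 4), (13, 1)], [(2, 4), (4, 1), (6, 1), (8, 4), (9, 4), (10, 1), (11, 4), (12, 1)], [(7, 4), (8, 4), (13, 4)], [(10, 4)], [(11, 1)], [(11, 1), (12, 4)], [(11, 1), (13, 4)], [(7, 4),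 (9, 1), (12, 4), (15, 4), (16, 1), (17, 1)], [(2, 3), (4, 2), (6, 2), (8, 4), (9, 3), (10, 2), (11, 4), (12, 3), (13, 4), (14, 4), (16, 4), (17, 4)], [(2, 4), (4, 1), (6, 1), (9, 4), (10, 1), (12, 1), (16, 4)], [(7, 1), (8, 1), (9, 4), (13, 1), (17, 4)], [(2, 2), (3, 4), (4, 3), (5, 1), (6, 1), (7, 3), (8, 1), (9, 3), (10, 3), (11, 3), (12, 1), (13, 3), (14, 2), (17, 1), (19, 4), (20, 1), (21, 1), (23, 1), (24, 1), (27, 1), (28, 4)], [(2, 1), (3, 4), (4, 1), (5, 3), (6, 3), (7, 1), (8, 3), (9, 4), (10, 4), (11, 1), (12, 3), (13, 4), (14, 4), (15, 2), (16, 3), (17, 1), (19, 4), (20, 1), (21, 1), (23, 1), (24, 1), (27, 1), (28, 4), (30, 1), (31, 3), (33, 3)], [(1, 1), (2, 1), (3, 3), (4, 4), (5, 4), (6, 1), (8, 4), (10, 2), (11, 3), (12, 1), (13, 2), (14, 3), (15, 3), (17, 3), (18, 2), (20, 3), (21, 4), (22, 4), (24, 4), (25, 4), (27, 2), (28, 1), (30, 3), (31, 2), (32, 3),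 (33, 2), (35, 1), (36, 2), (37, 2), (38, 2), (39, 4), (40, 3), (41, 3), (43, 4), (44, 2), (45, 2), (46, 4), (48, 2), (49, 2), (50, 1)], [(1, 4), (2, 2), (3, 1), (6, 4), (8, 1), (9, 2), (11, 1), (12, 3), (13, 1), (14, 3), (16, 3), (17, 4), (18, 4), (19, 3), (20, 3), (21, 2), (22, 1), (23, 1), (24, 2), (25, 1), (27, 3), (28, 3), (29, 4), (30, 2), (31, 1), (32, 3), (33, 1), (34, 4), (36, 4), (37, 3), (38, 3), (39, 1), (40, 2), (41, 2), (43, 1), (44, 3), (45, 3), (46, 1), (48, 3), (49, 3), (50, 4)], [(2, 4), (3, 4), (4, 2), (6, 3), (7, 2), (8, 4), (9, 1), (10, 2), (11, 2), (13, 1), (14, 3), (15, 1), (16, 4), (17, 3), (18, 4), (19, 1), (20, 4), (21, 4), (22, 4), (23, 4), (24, 4), (27, 1)], [(3, 2), (4, 4), (5, 3), (6, 1), (7, 2), (8, 2), (10, 4), (11, 1), (12, 2), (13, 1), (14, 1), (16, 4), (17, 3), (18, 4), (19, 2), (20, 4), (21, 4), (23, 4), (27, 4), (28, 1), (29, 1), (30, 1),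 (32, 4), (34, 1), (35, 4), (36, 4)], [(2, 2), (3, 4), (4, 3), (5, 1), (6, 1), (7, 4), (8, 2), (9, 2), (10, 3), (11, 3), (12, 1), (13, 4), (14, 2), (17, 1), (18, 1), (19, 4), (20, 1), (21, 1), (23, 1), (27, 1), (28, 4)], [(6, 1), (7, 1), (8, 4), (9, 4), (11, 3), (12, 2), (13, 1), (14, 4), (17, 4), (18, 4), (19, 1), (24, 4), (27, 1), (32, 4)], [(2, 1), (3, 3), (5, 1), (6, 4), (7, 4), (13, 4), (14, 1), (26, 4), (27, 2), (28, 4)], [(2, 1), (3, 3), (5, 1), (6, 4), (7, 4), (13, 4), (14, 1), (27, 1), (28, 4)], [(28, 4)], [(2, 3), (3, 1), (4, 2), (5, 4), (6, 4), (7, 1), (8, 3), (9, 3), (10, 2), (11, 2), (12, 4), (13, 1), (14, 3), (17, 4), (18, 4), (19, 1), (20, 4), (21, 4), (23, 4), (24, 4), (27, 4), (28, 1), (29, 4)], [(2, 1), (4, 4), (6, 4), (9, 1), (10, 4), (11, 1), (12, 4), (30, 4)], [(2, 4), (3, 4), (4, 4), (5, 2), (6, 3), (7, 3), (8, 1), (10, 2), (11, 2), (12, 4), (14, 1), (15,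 3), (16, 2), (17, 4), (18, 4), (19, 1), (20, 4), (21, 4), (23, 4), (25, 4), (30, 1), (31, 2), (32, 1), (33, 3)], [(2, 4), (3, 4), (4, 4), (5, 2), (6, 3), (7, 3), (8, 1), (10, 2), (11, 2), (12, 4), (14, 1), (15, 3), (16, 2), (17, 4), (18, 4), (19, 1), (20, 4), (21, 4), (23, 4), (25, 4), (30, 1), (31, 3), (33, 3)], [(2, 4), (3, 1), (4, 2), (5, 2), (6, 1), (7, 3), (8, 2), (9, 2), (11, 4), (12, 1), (13, 1), (14, 2), (15, 2), (16, 3), (18, 4), (19, 1), (20, 1), (21, 1), (23, 1), (25, 1), (30, 1), (31, 3), (32, 4), (33, 2)], [(34, 4)], [(35, 4)], [(2, 3), (4, 2), (5, 1), (6, 2), (8, 2), (9, 3), (10, 2), (11, 2), (12, 1), (13, 1), (14, 2), (16, 1), (17, 1), (19, 4), (20, 1), (21, 1), (24, 4), (25, 1), (29, 4), (30, 4), (34, 4), (35, 1)], [(3, 3), (5, 2), (6, 3), (7, 2), (8, 3), (9, 1), (12, 2), (13, 3), (14, 4), (16, 2), (17, 3), (18, 1), (19, 3), (20, 1), (21, 1), (23, 1), (24,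 1), (25, 1), (27, 2), (28, 4), (37, 4), (38, 1), (39, 1), (40, 1), (41, 4)], [(2, 1), (3, 2), (4, 2), (5, 4), (6, 4), (8, 1), (9, 3), (11, 3), (12, 3), (13, 4), (14, 1), (15, 3), (17, 3), (19, 3), (20, 1), (21, 1), (23, 1), (24, 1), (27, 2), (28, 4), (30, 1), (31, 3), (32, 1), (33, 3), (38, 1), (41, 4), (45, 4)], [(2, 1), (4, 4), (5, 2), (6, 3), (7, 4), (8, 1), (9, 1), (10, 4), (11, 1), (12, 3), (13, 4), (14, 1), (37, 1), (38, 4), (44, 4), (45, 1), (51, 4)], [(4, 4), (5, 4), (6, 4), (7, 4), (9, 2), (10, 4), (11, 2), (12, 3), (13, 4), (14, 1), (16, 1), (17, 2), (18, 1), (19, 4), (24, 1), (25, 1), (37, 4), (38, 1), (39, 1), (40, 1), (41, 4), (44, 1), (51, 1)], [(2, 1), (3, 3), (5, 1), (6, 4), (7, 4), (13, 4), (14, 1), (27, 2), (28, 4), (41, 4)], [(2, 3), (4, 1), (5, 1), (7, 3), (8, 3), (10, 1), (11, 4), (12, 3), (13, 4), (14, 3), (16, 2), (17, 3), (18, 1), (19, 3), (20, 1),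 (21, 1), (23, 1), (24, 1), (25, 1), (38, 1), (39, 1), (40, 1), (41, 4), (42, 4)], [(2, 2), (3, 4), (4, 4), (5, 2), (6, 3), (7, 4), (8, 2), (9, 1), (10, 4), (12, 4), (17, 4), (18, 4), (21, 1), (24, 4), (25, 4), (37, 1), (39, 4), (40, 4), (41, 1), (42, 4), (43, 4), (44, 4), (46, 1), (47, 1), (48, 1), (49, 4), (51, 4)], [(44, 4)], [(2, 4), (3, 4), (4, 4), (5, 2), (6, 3), (7, 3), (8, 1), (10, 2), (11, 2), (12, 4), (14, 1), (15, 3), (16, 2), (17, 4), (18, 4), (19, 1), (20, 4), (21, 4), (23, 4), (25, 4), (30, 1), (31, 3), (32, 1), (33, 3), (45, 4)], [(2, 2), (4, 2), (5, 3), (6, 1), (8, 3), (9, 2), (10, 1), (11, 2), (12, 3), (14, 4), (16, 2), (17, 3), (18, 3), (19, 4), (20, 1), (24, 3), (26, 2), (27, 2), (28, 1), (29, 1), (30, 1), (31, 1), (32, 3), (33, 1), (34, 4), (35, 1), (36, 4), (37, 1), (38, 2), (39, 3), (40, 4), (41, 3), (42, 4), (43, 2), (44, 2), (45, 3), (47, 2), (48, 4),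 (50, 3)], [(47, 4)], [(1, 1), (2, 4), (3, 4), (4, 4), (6, 3), (7, 2), (8, 1), (9, 1), (11, 1), (12, 2), (13, 3), (15, 4), (16, 1), (17, 4), (18, 3), (19, 2), (20, 2), (22, 4), (25, 4), (26, 3), (27, 4), (28, 1), (30, 2), (31, 3), (32, 3), (33, 3), (34, 2), (35, 4), (36, 2), (37, 2), (39, 1), (41, 1), (42, 4), (43, 2), (44, 4), (48, 4), (50, 3), (51, 4)], [(49, 4)], [(50, 4)], [(2, 1), (4, 4), (5, 3), (7, 2), (8, 2), (10, 4), (11, 2), (12, 2), (14, 2), (15, 1), (16, 3), (17, 3), (19, 1), (20, 4), (21, 4), (23, 4), (37, 4), (40, 1), (44, 1)]]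

/-- Columns. -/
def g29 : List ℕ := mkCols [[(0, 1)], [(1, 4), (2, 4), (4, 3), (5, 2), (6, 3), (7, 4), (10, 1), (11, 2), (14, 2), (15, 4), (16, 4), (17, 2), (18, 4), (20, 4), (21, 4), (22, 2), (23, 1), (24, 4), (26, 1), (27, 3), (28, 3), (30, 3), (31, 1), (33, 1), (34, 4), (35, 4), (39, 4), (40, 2), (43, 1), (44, 3), (45, 1), (46, 1), (47, 2), (48, 3), (49, 3), (50, 4), (51, 2)], [(2, 3), (4, 4), (5, 2), (6, 1), (7, 2), (8, 2), (9, 1), (10, 1), (12, 1), (13, 4), (14, 2), (15, 2), (16, 2), (24, 1), (29, 1), (30, 1), (31, 3), (33, 3), (35, 4)], [(2, 3), (3, 4), (4, 3), (6, 3), (7, 1), (8, 4), (9, 1), (10, 2), (11, 3), (12, 4), (14, 3), (16, 4), (17, 3), (19, 1), (20, 4), (21, 4), (22, 4), (23, 4), (29, 1), (35, 4)], [(1, 4), (2, 2), (3, 1), (4, 1), (6, 4), (8, 1), (9, 2), (11, 1), (12, 3), (13, 1), (14, 3), (16, 3), (17, 4), (18, 4), (19, 3), (20, 3), (21, 1), (22, 1), (23,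 1), (24, 2), (25, 1), (27, 3), (28, 3), (29, 4), (30, 2), (31, 1), (32, 3), (33, 1), (34, 4), (36, 4), (37, 3), (38, 3), (39, 1), (40, 2), (41, 2), (43, 1), (44, 3), (45, 3), (46, 1), (48, 3), (49, 3), (50, 4)], [(1, 1), (2, 2), (3, 4), (4, 3), (5, 2), (6, 2), (7, 2), (8, 1), (10, 1), (11, 4), (12, 3), (13, 3), (14, 4), (15, 3), (16, 4), (17, 1), (18, 1), (19, 2), (20, 2), (21, 3), (23, 4), (24, 3), (25, 4), (27, 2), (28, 2), (29, 1), (30, 3), (31, 2), (32, 2), (33, 2), (34, 1), (36, 1), (37, 2), (38, 2), (39, 4), (40, 3), (41, 3), (43, 4), (44, 2), (45, 2), (46, 4), (48, 2), (49, 2), (50, 1)], [(1, 1), (2, 1), (4, 3), (5, 2), (6, 2), (7, 2), (8, 1), (10, 1), (11, 4), (12, 3), (13, 3), (14, 4), (15, 3), (16, 4), (17, 1), (18, 1), (19, 2), (20, 2), (21, 3), (22, 4), (23, 4), (24, 4), (25, 4), (27, 1), (28, 2), (29, 1), (30, 4), (31, 2), (32, 2), (33, 2), (34, 1), (36, 1), (37,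 2), (38, 2), (39, 4), (40, 3), (41, 3), (43, 4), (44, 2), (45, 2), (46, 4), (48, 2), (49, 2), (50, 1)], [(20, 4), (23, 4), (35, 1)], [(2, 4), (4, 4), (5, 3), (6, 2), (7, 4), (8, 1), (10, 1), (11, 3), (12, 3), (13, 1), (14, 1), (15, 3), (16, 2), (17, 3), (19, 1), (20, 4), (21, 4), (22, 4), (23, 4), (24, 4), (30, 4), (31, 2), (33, 2)], [(2, 1), (3, 1), (4, 3), (6, 4), (8, 1), (9, 2), (10, 3), (11, 1), (12, 2), (13, 1), (14, 1), (16, 1), (17, 1), (27, 4), (29, 4), (35, 1)], [(1, 1), (2, 3), (3, 4), (4, 1), (5, 2), (6, 1), (7, 2), (8, 2), (9, 1), (10, 4), (12, 1), (13, 3), (15, 3), (16, 4), (17, 2), (18, 1), (19, 1), (20, 2), (21, 4), (22, 4), (23, 4), (24, 4), (25, 4), (27, 2), (28, 2), (29, 1), (30, 4), (31, 2), (32, 2), (33, 2), (34, 1), (36, 1), (37, 2), (38, 2), (39, 4), (40, 3), (41, 3), (43, 4), (44, 2), (45, 2), (46, 4), (48, 2), (49, 2), (50, 1)], [(1, 1), (2, 4), (3,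 4), (4, 3), (5, 4), (6, 2), (7, 1), (8, 1), (9, 3), (10, 4), (11, 4), (13, 4), (14, 4), (15, 1), (16, 1), (17, 4), (18, 4), (19, 4), (20, 2), (21, 2), (22, 4), (23, 4), (24, 3), (25, 4), (27, 2), (28, 2), (29, 1), (32, 2), (34, 1), (36, 1), (37, 2), (38, 2), (39, 4), (40, 3), (41, 3), (43, 4), (44, 2), (45, 2), (46, 4), (48, 2), (49, 2), (50, 1)], [(2, 3), (4, 2), (6, 3), (7, 1), (8, 3), (9, 2), (10, 2), (11, 2), (12, 4), (13, 1), (14, 3), (17, 3), (18, 4), (19, 2), (21, 4), (24, 4)], [(2, 1), (4, 1), (5, 2), (7, 2), (8, 3), (9, 4), (10, 4), (12, 4), (14, 3), (15, 3), (16, 3), (17, 1), (18, 4), (20, 1), (22, 1), (23, 1), (29, 4), (30, 1), (31, 3), (33, 3)], [(2, 4), (3, 1), (5, 4), (6, 1), (14, 4), (24, 1), (27, 4), (30, 1)], [(2, 3), (4, 3), (6, 2), (8, 4), (9, 3), (10, 2), (11, 4), (12, 3), (13, 4), (14, 4), (16, 4), (17, 4), (21, 4)], [(2, 1), (6, 3), (8, 2), (9, 1), (10,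 4), (11, 3), (12, 1), (13, 3), (14, 3), (16, 3), (17, 3), (19, 1), (21, 4), (29, 1)], [(2, 1), (3, 4), (5, 1), (6, 4), (17, 4), (24, 4), (27, 1), (30, 4)], [(18, 4)], [(2, 4), (4, 1), (6, 3), (7, 2), (8, 4), (9, 2), (10, 1), (11, 2), (12, 4), (13, 2), (14, 3), (17, 3), (18, 4), (19, 1), (20, 4), (21, 4), (22, 4), (23, 4), (24, 4)], [(2, 4), (4, 1), (7, 4), (8, 4), (10, 1), (12, 1), (13, 4), (23, 1)], [(21, 4)], [(22, 1)], [(23, 4)], [(22, 1), (24, 4)], [(2, 1), (4, 4), (7, 1), (8, 1), (10, 4), (12, 4), (13, 1), (20, 4), (23, 4), (25, 4)], [(2, 2), (3, 4), (4, 3), (7, 1), (8, 1), (10, 4), (11, 4), (13, 2), (15, 1), (18, 4), (24, 4), (26, 4), (27, 1), (29, 4)], [(2, 4), (3, 4), (4, 2), (6, 3), (7, 2), (8, 4), (9, 1), (10, 2), (11, 2), (13, 1), (14, 3), (15, 1), (16, 4), (17, 3), (18, 4), (19, 1), (20, 4), (21, 4), (22, 4), (23, 4), (24, 4)], [(2, 1), (3, 4), (4, 4), (6, 3),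 (7, 4), (9, 1), (11, 1), (12, 4), (13, 4), (14, 1), (17, 1), (19, 4), (20, 1), (21, 1), (23, 1), (27, 1), (28, 4)], [(2, 3), (3, 1), (4, 2), (7, 4), (8, 4), (10, 1), (11, 1), (13, 3), (15, 4), (18, 1), (24, 1), (27, 4)], [(2, 4), (4, 3), (5, 1), (6, 2), (7, 3), (8, 2), (9, 1), (10, 1), (11, 4), (12, 2), (14, 2), (15, 3), (16, 2), (18, 4), (24, 1), (30, 1), (31, 3), (33, 3)], [(2, 1), (4, 2), (5, 3), (6, 4), (7, 2), (8, 3), (9, 4), (10, 4), (11, 1), (12, 3), (14, 3), (15, 2), (16, 3), (17, 1), (31, 2), (33, 3)], [(2, 4), (4, 1), (6, 3), (7, 2), (8, 4), (9, 2), (10, 1), (11, 2), (12, 4), (13, 2), (14, 3), (17, 3), (18, 4), (19, 2), (20, 4), (21, 4), (22, 4), (23, 4), (24, 4), (32, 4)], [(2, 1), (4, 2), (5, 3), (6, 4), (7, 2), (8, 3), (9, 4), (10, 4), (11, 1), (12, 3), (14, 3), (15, 2), (16, 3), (17, 1), (31, 3), (33, 2)], [(2, 2), (4, 3), (5, 1), (6, 3), (8, 1), (9, 3), (10,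 3), (11, 1), (12, 2), (13, 1), (14, 1), (16, 1), (17, 1), (24, 4), (29, 4), (30, 4), (34, 4), (35, 1)], [(2, 4), (4, 1), (8, 4), (10, 1), (12, 1), (13, 4)], [(36, 4)], [(2, 4), (4, 1), (5, 1), (7, 1), (8, 2), (9, 4), (10, 4), (11, 1), (13, 4), (14, 1), (15, 3), (16, 4), (19, 3), (20, 2), (21, 1), (22, 1), (23, 2), (24, 3), (25, 1), (30, 2), (31, 3), (33, 3), (39, 1), (40, 1), (41, 4), (43, 1), (44, 1), (46, 4), (47, 4), (48, 4), (51, 1)], [(5, 3), (6, 4), (7, 3), (9, 3), (11, 3), (12, 2), (13, 2), (14, 3), (18, 4), (19, 1), (20, 4), (21, 4), (23, 3), (38, 4), (40, 1), (41, 4), (43, 1), (44, 1), (47, 4), (48, 4), (51, 1)], [(2, 4), (4, 1), (7, 3), (8, 2), (10, 4), (11, 2), (12, 4), (13, 3), (14, 3), (15, 3), (16, 4), (17, 3), (18, 1), (19, 3), (20, 2), (21, 2), (23, 4), (24, 2), (25, 1), (30, 2), (31, 3), (33, 3), (37, 1), (40, 4), (41, 1), (43, 4), (44, 4), (46, 4), (47, 1),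 (48, 1), (51, 4)], [(2, 1), (4, 3), (5, 4), (6, 4), (8, 1), (9, 2), (10, 3), (11, 2), (12, 2), (14, 1), (16, 1), (17, 2), (18, 1), (19, 4), (20, 1), (24, 1), (25, 1), (37, 4), (38, 1), (39, 1), (40, 1), (41, 4), (44, 1), (47, 4), (48, 4), (51, 1)], [(2, 1), (4, 4), (5, 1), (6, 3), (8, 3), (9, 1), (10, 3), (11, 2), (12, 2), (27, 4), (28, 1), (29, 1), (37, 1), (42, 4), (49, 4)], [(2, 1), (4, 3), (5, 4), (6, 3), (7, 4), (9, 3), (10, 3), (11, 3), (12, 1), (13, 3), (14, 2), (16, 1), (17, 3), (18, 1), (19, 4), (20, 1), (23, 1), (24, 2), (25, 1), (27, 1), (28, 4), (39, 1), (40, 1), (41, 3), (43, 1), (44, 1), (46, 4), (47, 4), (48, 4), (49, 1), (51, 1)], [(2, 3), (4, 3), (5, 4), (7, 2), (8, 3), (9, 1), (10, 3), (11, 1), (12, 1), (13, 1), (14, 2), (16, 4), (17, 3), (18, 3), (19, 2), (20, 4), (21, 4), (23, 4), (24, 4), (25, 4), (37, 1), (38, 4), (39, 4), (40, 4)], [(2, 4), (3, 1), (4,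 3), (6, 1), (7, 2), (8, 4), (9, 3), (10, 3), (11, 4), (12, 4), (13, 4), (14, 2), (15, 4), (16, 2), (17, 1), (19, 3), (20, 4), (21, 4), (23, 4), (24, 3), (26, 3), (27, 4), (28, 3), (31, 4), (33, 4), (34, 2), (35, 3), (38, 2), (39, 2), (40, 2), (42, 1), (44, 2), (45, 3), (47, 2), (50, 2)], [(3, 1), (4, 2), (5, 1), (7, 2), (8, 4), (9, 4), (10, 2), (11, 4), (12, 3), (14, 2), (15, 3), (16, 3), (17, 1), (19, 4), (20, 4), (21, 4), (23, 4), (24, 2), (26, 3), (27, 4), (28, 3), (30, 4), (31, 4), (33, 4), (34, 2), (35, 3), (38, 2), (39, 2), (40, 2), (42, 1), (44, 3), (45, 2), (47, 2), (50, 2)], [(2, 4), (4, 3), (5, 1), (6, 2), (7, 3), (8, 2), (9, 1), (10, 1), (11, 4), (12, 2), (14, 2), (15, 3), (16, 2), (18, 4), (24, 1), (30, 2), (31, 3), (33, 3), (46, 4)], [(2, 1), (3, 4), (4, 1), (5, 4), (6, 2), (7, 2), (8, 2), (9, 4), (10, 3), (11, 2), (13, 3), (14, 3), (15, 4), (16, 4), (17, 4),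 (18, 4), (19, 3), (21, 4), (24, 4), (26, 2), (27, 3), (30, 1), (31, 4), (33, 4), (34, 3), (35, 2), (38, 2), (39, 3), (40, 3), (41, 2), (42, 1), (43, 2), (44, 3), (45, 2), (46, 4), (47, 1), (48, 4), (49, 2), (50, 3), (51, 1)], [(48, 4)], [(49, 4)], [(2, 1), (3, 4), (5, 2), (6, 4), (8, 4), (10, 2), (11, 2), (14, 1), (15, 4), (19, 1), (20, 1), (21, 1), (23, 1), (24, 3), (26, 2), (27, 1), (28, 2), (30, 1), (31, 4), (33, 4), (34, 3), (35, 2), (38, 3), (39, 3), (40, 3), (42, 4), (44, 2), (45, 2), (47, 3), (50, 2)], [(2, 4), (3, 3), (4, 1), (5, 3), (8, 2), (9, 3), (10, 2), (11, 1), (12, 1), (13, 4), (14, 1), (16, 2), (18, 4), (19, 4), (20, 2), (22, 1), (23, 1), (24, 2), (26, 4), (27, 3), (28, 3), (29, 1), (30, 1), (34, 1), (35, 3), (37, 1), (39, 1), (40, 2), (41, 2), (42, 4), (43, 3), (44, 1), (45, 4), (46, 4), (47, 4), (48, 3), (49, 1), (50, 1), (51, 1)]]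

/-- Columns. -/
def g30 : List ℕ := mkCols [[(0, 1)], [(1, 1)], [(2, 1), (4, 3), (6, 4), (8, 1), (9, 1), (10, 3), (11, 1), (12, 3), (13, 1)], [(2, 2), (4, 2), (5, 1), (6, 2), (7, 4), (8, 2), (9, 3), (10, 2), (11, 2), (13, 1), (14, 1), (16, 1), (17, 1)], [(2, 1), (4, 3), (6, 4), (8, 1), (9, 1), (10, 3), (12, 4), (13, 1), (16, 1)], [(7, 1), (8, 1), (9, 4), (11, 1), (15, 1), (16, 4), (17, 4)], [(6, 1)], [(7, 1)], [(2, 1), (3, 4), (5, 1), (6, 4), (7, 4), (8, 1), (9, 1), (10, 4), (11, 1), (12, 3), (13, 4), (14, 1), (17, 1)], [(2, 1), (3, 4), (5, 1), (6, 4), (7, 4), (9, 1), (10, 4), (11, 1), (12, 4), (13, 3), (14, 1)], [(2, 4), (4, 1), (6, 1), (8, 4), (9, 4), (10, 1), (12, 1), (13, 4), (16, 4)], [(11, 1)], [(2, 1), (3, 4), (5, 1), (6, 3), (7, 4), (8, 1), (9, 1), (10, 4), (11, 2), (12, 3), (13, 4), (14, 1)], [(9, 4), (12, 1), (17, 4)], [(5, 1), (6, 4), (7, 4), (9, 1), (12, 4), (14,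 1), (15, 4), (16, 1)], [(2, 3), (3, 1), (4, 1), (6, 1), (8, 4), (9, 4), (10, 1), (11, 4), (12, 2), (14, 4), (17, 4)], [(2, 3), (3, 1), (4, 1), (5, 4), (6, 2), (7, 1), (8, 4), (9, 4), (10, 1), (11, 4), (12, 2), (13, 1), (14, 4)], [(6, 4), (8, 1), (11, 1), (12, 4)], [(2, 3), (3, 1), (4, 4), (5, 2), (6, 2), (7, 3), (8, 1), (9, 1), (10, 1), (11, 4), (12, 2), (14, 1), (15, 2), (16, 2), (17, 4), (19, 1), (31, 3), (32, 4), (33, 2)], [(4, 2), (5, 3), (6, 4), (7, 1), (8, 3), (9, 4), (10, 4), (11, 1), (12, 3), (13, 4), (14, 3), (15, 2), (16, 3), (17, 1), (24, 1), (30, 1), (31, 3), (33, 3)], [(20, 1)], [(2, 1), (5, 2), (6, 4), (7, 2), (8, 4), (9, 4), (10, 3), (11, 1), (12, 3), (14, 3), (15, 3), (16, 3), (17, 1), (19, 4), (21, 1), (24, 1), (30, 1), (31, 3), (33, 3)], [(2, 3), (4, 2), (5, 4), (6, 4), (7, 2), (8, 4), (9, 1), (10, 2), (11, 2), (13, 1), (14, 3), (15, 1), (16, 4), (17, 3),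 (18, 4), (19, 1), (20, 4), (21, 4), (23, 4), (30, 1)], [(23, 1)], [(2, 1), (3, 4), (4, 2), (5, 3), (6, 3), (7, 2), (8, 4), (9, 3), (10, 4), (11, 2), (12, 3), (13, 4), (14, 4), (15, 3), (16, 2), (18, 1), (19, 4), (24, 1), (31, 2), (32, 1), (33, 3)], [(2, 2), (3, 1), (4, 3), (5, 4), (7, 2), (8, 2), (9, 1), (10, 3), (11, 1), (12, 1), (13, 1), (14, 2), (16, 4), (17, 3), (18, 4), (19, 2), (20, 4), (21, 4), (23, 4), (24, 4), (32, 4)], [(2, 4), (3, 4), (4, 3), (5, 2), (7, 2), (8, 2), (9, 1), (10, 1), (12, 1), (13, 4), (14, 2), (15, 2), (16, 2), (20, 1), (21, 1), (23, 1), (24, 1), (27, 2), (28, 4), (29, 2), (30, 1), (31, 3), (32, 4), (33, 2), (34, 1), (35, 3)], [(2, 2), (3, 4), (4, 3), (5, 1), (6, 3), (7, 4), (8, 1), (9, 2), (10, 3), (11, 1), (12, 2), (14, 1), (16, 1), (17, 1), (27, 1)], [(28, 1)], [(2, 2), (4, 3), (5, 1), (6, 4), (8, 1), (9, 2), (10, 3), (12, 3), (13, 1), (14, 1),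 (16, 1), (18, 4), (24, 4), (29, 4), (35, 1)], [(2, 1), (3, 1), (5, 2), (6, 3), (7, 2), (8, 3), (10, 3), (11, 2), (12, 2), (14, 3), (15, 2), (16, 3), (17, 1), (20, 1), (21, 1), (22, 1), (23, 1), (31, 3), (32, 4), (33, 2)], [(2, 1), (6, 2), (7, 3), (8, 1), (9, 3), (11, 3), (13, 2), (14, 1), (16, 4), (17, 1), (18, 4), (19, 3), (20, 3), (21, 3), (22, 4), (23, 3), (24, 3), (25, 4)], [(4, 2), (5, 2), (6, 2), (7, 3), (8, 2), (9, 2), (11, 3), (12, 1), (13, 1), (14, 1), (15, 3), (16, 3), (18, 4), (19, 1), (20, 4), (21, 4), (23, 4), (25, 4), (30, 1), (31, 3), (33, 3)], [(2, 4), (4, 1), (6, 2), (7, 1), (8, 4), (9, 3), (10, 1), (11, 3), (12, 3), (13, 1), (14, 4), (17, 4), (18, 4), (19, 1), (22, 4), (25, 1)], [(2, 3), (3, 2), (4, 2), (5, 3), (6, 2), (7, 2), (8, 1), (9, 3), (10, 1), (11, 1), (12, 4), (16, 3), (17, 2), (19, 2), (20, 3), (21, 3), (22, 4), (23, 3), (24, 1), (26, 1), (27, 3),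 (28, 1), (29, 2)], [(35, 1)], [(3, 1), (6, 3), (7, 4), (8, 1), (9, 2), (10, 4), (11, 3), (12, 2), (13, 4), (14, 1), (17, 1), (18, 1), (19, 4), (24, 1), (25, 1), (26, 1), (27, 3), (28, 1), (30, 4), (32, 1), (34, 4), (35, 1), (36, 1)], [(37, 1), (44, 4)], [(2, 3), (3, 4), (4, 4), (5, 3), (6, 2), (7, 1), (9, 1), (10, 2), (11, 2), (14, 4), (15, 3), (16, 4), (17, 2), (19, 4), (24, 1), (30, 1), (31, 3), (32, 1), (33, 3), (38, 1), (45, 4)], [(2, 3), (3, 4), (4, 1), (5, 1), (7, 3), (8, 3), (9, 4), (10, 1), (11, 4), (12, 4), (13, 4), (14, 3), (16, 1), (17, 2), (18, 1), (19, 3), (20, 1), (21, 1), (23, 1), (24, 1), (25, 1), (39, 1), (45, 1)], [(40, 1)], [(4, 4), (6, 4), (8, 1), (9, 1), (10, 4), (11, 1), (12, 3), (13, 1), (41, 1)], [(2, 1), (3, 4), (4, 3), (5, 2), (6, 1), (7, 2), (8, 1), (9, 3), (10, 3), (11, 2), (12, 3), (13, 4), (16, 2), (17, 4), (18, 1), (19, 2), (20, 2), (21, 2),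 (23, 2), (24, 1), (25, 1), (38, 1), (39, 1), (40, 1), (42, 4), (47, 1)], [(4, 2), (5, 4), (7, 3), (8, 1), (9, 2), (10, 2), (11, 1), (12, 1), (13, 1), (14, 2), (15, 1), (16, 3), (17, 4), (18, 4), (19, 2), (20, 1), (21, 1), (23, 1), (24, 3), (26, 2), (27, 1), (28, 2), (30, 1), (31, 2), (32, 4), (33, 1), (34, 3), (35, 2), (38, 3), (39, 3), (40, 3), (42, 4), (43, 1), (44, 3), (45, 2), (47, 3), (50, 3)], [(44, 4)], [(4, 2), (5, 2), (6, 2), (7, 3), (8, 2), (9, 2), (11, 3), (12, 1), (13, 1), (14, 1), (15, 3), (16, 3), (18, 4), (19, 1), (20, 4), (21, 4), (23, 4), (25, 4), (30, 1), (31, 3), (32, 1), (33, 3), (45, 4)], [(2, 2), (3, 1), (4, 1), (5, 3), (6, 2), (7, 3), (10, 3), (11, 3), (12, 4), (14, 1), (15, 1), (16, 2), (17, 3), (19, 1), (24, 4), (30, 4), (31, 2), (32, 4), (33, 2), (44, 4), (45, 1), (46, 1)], [(47, 1)], [(48, 1)], [(2, 3), (3, 1), (4, 4), (5, 3), (7, 3), (8, 3), (9,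 1), (10, 3), (11, 3), (12, 3), (16, 2), (17, 1), (18, 4), (19, 3), (20, 3), (21, 3), (23, 3), (24, 4), (25, 4), (38, 4), (39, 4), (40, 4), (42, 2), (44, 4), (47, 4), (49, 1)], [(50, 4)], [(4, 4), (5, 4), (7, 1), (8, 1), (10, 4), (11, 1), (12, 4), (13, 1), (15, 1), (16, 4), (44, 1), (51, 1)]]

/-- Columns. -/
def g31 : List ℕ := mkCols [[(0, 1)], [(1, 1)], [(2, 1), (4, 1), (5, 3), (6, 3), (7, 1), (8, 4), (9, 4), (10, 3), (11, 2), (12, 2), (13, 4), (14, 4), (15, 2), (16, 3), (17, 1), (19, 4), (20, 1), (21, 1), (23, 1), (24, 1), (25, 1), (30, 1), (31, 3), (33, 3)], [(2, 2), (3, 1), (4, 1), (5, 3), (6, 4), (7, 4), (9, 3), (10, 3), (11, 1), (12, 1), (13, 1), (15, 2), (16, 2), (17, 2), (18, 4), (19, 2), (20, 4), (21, 4), (22, 4), (23, 4), (24, 4), (31, 3), (32, 4), (33, 2)], [(2, 1), (4, 1), (5, 2), (6, 4), (7, 2), (8, 4), (9, 4), (10, 3), (11, 1), (12, 3), (14, 3), (15, 3), (16,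 3), (17, 1), (19, 4), (24, 1), (30, 1), (31, 3), (33, 3)], [(2, 2), (4, 3), (5, 1), (6, 1), (7, 4), (8, 2), (9, 3), (10, 3), (11, 4), (13, 4), (14, 2), (17, 1), (18, 1), (19, 4), (20, 1), (21, 1), (22, 1), (23, 1), (30, 4)], [(6, 1)], [(7, 1)], [(3, 4), (4, 4), (5, 3), (6, 1), (7, 3), (8, 2), (9, 1), (10, 1), (11, 4), (12, 2), (14, 2), (15, 3), (16, 2), (17, 4), (20, 4), (21, 4), (22, 4), (23, 4), (30, 4), (31, 2), (32, 1), (33, 2)], [(2, 2), (4, 2), (6, 2), (7, 4), (8, 2), (9, 4), (10, 2), (11, 3), (14, 2), (16, 1), (17, 2), (19, 4), (20, 1), (21, 1), (23, 1), (24, 1), (25, 1)], [(2, 2), (3, 4), (4, 3), (5, 1), (6, 1), (7, 3), (8, 2), (9, 3), (10, 3), (11, 4), (13, 3), (14, 3), (17, 2), (18, 1), (19, 3), (20, 1), (21, 1), (23, 1), (24, 1), (25, 1), (32, 1)], [(2, 3), (4, 4), (5, 2), (6, 3), (7, 3), (8, 1), (10, 2), (11, 3), (12, 4), (14, 1), (15, 3), (16, 2), (17, 4), (18,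 4), (19, 1), (30, 1), (31, 3), (33, 3)], [(2, 4), (4, 1), (6, 1), (8, 4), (9, 4), (10, 1), (11, 4), (12, 2), (14, 4), (17, 4), (18, 4), (19, 1)], [(2, 2), (4, 4), (5, 2), (6, 2), (7, 1), (9, 1), (10, 2), (11, 3), (14, 4), (15, 3), (16, 3), (17, 2), (19, 4), (20, 1), (21, 1), (22, 1), (23, 1), (24, 1), (30, 1), (31, 3), (33, 3)], [(2, 4), (4, 1), (6, 2), (8, 4), (9, 4), (10, 1), (11, 3), (12, 2), (14, 4), (17, 4), (18, 4), (19, 1), (20, 4), (21, 4), (23, 4), (25, 4), (30, 1)], [(5, 1), (6, 3), (7, 4), (8, 1), (9, 1), (10, 4), (11, 2), (12, 3), (13, 4), (14, 1), (18, 1), (19, 4)], [(3, 4), (4, 1), (5, 1), (6, 4), (7, 4), (11, 1), (13, 3), (14, 1), (18, 1), (19, 4), (32, 1)], [(2, 3), (4, 3), (6, 2), (7, 1), (8, 3), (9, 2), (10, 3), (11, 3), (12, 4), (14, 3), (16, 4), (17, 3), (19, 1), (20, 4), (21, 4), (23, 4), (24, 4), (25, 4), (30, 4)], [(2, 2), (4, 2), (6, 3), (8, 2), (9,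 2), (10, 2), (11, 2), (12, 1), (13, 1), (14, 1), (16, 1), (17, 1), (19, 4), (20, 1), (21, 1), (25, 1)], [(2, 4), (4, 1), (6, 3), (7, 2), (8, 4), (9, 2), (10, 1), (11, 2), (12, 4), (13, 2), (14, 3), (17, 3), (18, 4), (19, 1), (20, 4), (21, 4), (22, 4), (23, 3), (24, 4)], [(20, 1)], [(2, 3), (4, 1), (6, 1), (7, 4), (8, 3), (9, 4), (10, 1), (11, 4), (12, 4), (14, 2), (16, 1), (17, 2), (18, 1), (19, 3), (21, 1), (24, 1)], [(22, 1)], [(23, 1)], [(2, 2), (4, 3), (6, 3), (8, 2), (9, 2), (10, 3), (11, 2), (12, 2), (14, 1), (17, 1), (19, 4), (20, 1), (21, 1), (22, 1)], [(25, 1)], [(2, 2), (3, 4), (4, 1), (5, 3), (7, 3), (8, 3), (9, 3), (10, 4), (11, 4), (13, 1), (14, 3), (15, 3), (16, 3), (18, 4), (24, 4), (27, 1), (29, 4), (31, 3), (33, 2), (36, 1)], [(2, 3), (5, 2), (6, 1), (7, 1), (9, 2), (10, 3), (11, 4), (12, 3), (13, 3), (14, 4), (15, 3), (16, 2), (17, 2), (18, 3), (19, 2), (20,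 4), (21, 4), (22, 4), (23, 3), (24, 3), (27, 1), (31, 3), (32, 4), (33, 2)], [(4, 4), (5, 4), (6, 1), (7, 1), (9, 4), (11, 4), (12, 1), (13, 1), (14, 4), (18, 4), (20, 1), (21, 1), (27, 1), (29, 1), (30, 1), (32, 4), (34, 1), (35, 4), (36, 4)], [(2, 4), (4, 1), (5, 1), (6, 3), (7, 3), (9, 1), (11, 2), (12, 3), (13, 3), (14, 1), (15, 4), (18, 1), (23, 1), (24, 1), (29, 1)], [(2, 1), (5, 2), (6, 3), (7, 2), (8, 4), (9, 4), (10, 3), (11, 2), (12, 2), (14, 4), (15, 3), (16, 3), (17, 1), (19, 4), (20, 1), (21, 1), (23, 1), (24, 1), (25, 1), (30, 1), (31, 3), (33, 3)], [(3, 1), (9, 1), (12, 4), (13, 1), (15, 4), (16, 1), (17, 1)], [(2, 3), (3, 1), (4, 4), (5, 2), (6, 4), (8, 1), (9, 4), (10, 2), (11, 1), (13, 3), (15, 2), (16, 3), (17, 3), (18, 4), (19, 2), (20, 4), (21, 4), (22, 4), (23, 4), (24, 4), (31, 3), (32, 4), (33, 2)], [(2, 2), (3, 4), (4, 4), (5, 1), (6, 3), (7, 4), (8,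 1), (9, 2), (10, 3), (11, 2), (12, 2), (13, 4), (14, 1), (17, 1)], [(2, 4), (3, 1), (4, 1), (6, 1), (14, 4), (19, 1), (20, 4), (21, 4), (23, 4), (26, 1), (27, 3), (28, 1), (35, 1)], [(35, 1)], [(2, 4), (4, 1), (6, 4), (7, 4), (11, 2), (12, 4), (13, 3), (16, 4), (18, 1), (24, 1), (26, 1), (27, 4), (29, 1)], [(2, 4), (4, 1), (5, 2), (6, 4), (8, 2), (9, 4), (10, 4), (11, 1), (13, 4), (14, 1), (15, 3), (16, 4), (17, 4), (19, 3), (20, 2), (21, 2), (22, 1), (23, 2), (24, 2), (25, 1), (30, 2), (31, 3), (33, 3), (37, 1), (46, 4)], [(3, 1), (4, 3), (5, 4), (6, 1), (7, 1), (10, 4), (11, 4), (13, 2), (14, 4), (16, 1), (18, 4), (19, 1), (30, 1), (31, 1), (32, 4), (38, 1), (44, 1), (45, 4), (46, 4)], [(2, 3), (4, 2), (5, 2), (8, 1), (9, 3), (12, 2), (13, 4), (14, 1), (15, 3), (16, 4), (17, 4), (18, 1), (19, 3), (20, 1), (21, 1), (23, 2), (24, 3), (25, 1), (30, 2), (31, 3), (33, 3), (39,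 1), (46, 4)], [(40, 1)], [(2, 2), (4, 2), (5, 3), (6, 2), (7, 1), (8, 3), (9, 1), (10, 1), (11, 1), (12, 4), (13, 1), (14, 4), (15, 1), (16, 2), (17, 2), (18, 3), (19, 4), (21, 4), (23, 4), (24, 2), (26, 2), (27, 1), (28, 2), (30, 1), (31, 2), (32, 4), (33, 1), (34, 3), (35, 2), (37, 1), (38, 2), (39, 3), (40, 4), (41, 4), (42, 4), (43, 2), (44, 3), (45, 2), (46, 4), (47, 2), (48, 4), (50, 3)], [(2, 1), (4, 4), (5, 2), (7, 3), (9, 3), (11, 2), (13, 3), (14, 3), (15, 4), (17, 1), (18, 2), (20, 1), (21, 1), (23, 2), (25, 1), (26, 3), (27, 4), (28, 3), (31, 4), (32, 1), (33, 4), (34, 2), (35, 3), (38, 3), (39, 3), (40, 3), (44, 3), (45, 2), (46, 4), (47, 3), (50, 2)], [(3, 1), (4, 3), (5, 4), (6, 1), (7, 1), (10, 4), (11, 4), (13, 2), (14, 4), (16, 1), (18, 4), (19, 1), (30, 1), (31, 1), (32, 4), (43, 1), (44, 1), (45, 4), (46, 4)], [(2, 2), (3, 4), (4, 3), (5, 1), (7, 3), (8,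 3), (9, 3), (10, 2), (12, 4), (13, 3), (14, 3), (17, 1), (18, 1), (19, 3), (20, 1), (21, 1), (23, 1), (24, 1), (25, 1), (45, 1)], [(2, 4), (3, 1), (4, 3), (5, 3), (7, 3), (8, 2), (9, 2), (13, 1), (14, 2), (15, 1), (16, 3), (17, 4), (19, 1), (24, 4), (30, 4), (31, 3), (32, 4), (33, 2), (44, 1)], [(2, 1), (5, 2), (6, 3), (7, 2), (8, 4), (9, 4), (10, 3), (11, 2), (12, 2), (14, 4), (15, 3), (16, 3), (17, 1), (19, 4), (20, 1), (21, 1), (23, 1), (24, 1), (25, 1), (30, 2), (31, 3), (33, 3), (46, 4)], [(47, 1)], [(48, 1)], [(2, 4), (3, 4), (4, 1), (5, 3), (7, 2), (8, 3), (9, 1), (10, 2), (11, 1), (14, 3), (18, 3), (19, 1), (20, 1), (24, 1), (26, 4), (27, 3), (28, 3), (29, 1), (30, 2), (32, 4), (34, 2), (35, 3), (36, 4), (37, 1), (38, 4), (40, 1), (41, 3), (43, 2), (46, 4), (47, 4), (48, 4), (49, 1), (50, 1)], [(2, 1), (3, 4), (5, 4), (6, 2), (8, 3), (10, 4), (14, 2), (15, 2), (17,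 4), (19, 2), (20, 3), (21, 3), (23, 3), (24, 1), (25, 1), (26, 4), (27, 2), (28, 4), (30, 1), (31, 3), (32, 4), (33, 2), (34, 1), (35, 4), (38, 1), (39, 1), (40, 1), (42, 3), (47, 1)], [(2, 1), (4, 3), (5, 3), (6, 2), (7, 4), (8, 1), (9, 2), (10, 2), (11, 1), (12, 1), (14, 2), (15, 1), (16, 3), (17, 1), (18, 4), (19, 2), (20, 1), (22, 1), (24, 3), (26, 2), (27, 1), (28, 2), (31, 1), (33, 1), (34, 3), (35, 2), (37, 1), (38, 2), (39, 3), (40, 4), (41, 3), (42, 4), (43, 2), (44, 3), (45, 2), (47, 2), (48, 4), (50, 3), (51, 1)]]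

/-- Columns. -/
def g32 : List ℕ := mkCols [[(0, 1)], [(1, 1)], [(2, 3), (3, 3), (4, 3), (5, 1), (6, 2), (7, 4), (8, 1), (9, 2), (10, 3), (11, 2), (12, 2), (13, 4), (14, 2), (17, 1), (19, 4), (20, 1), (21, 1), (23, 1), (26, 4), (27, 2), (28, 4), (35, 4)], [(2, 4), (3, 1), (4, 3), (5, 1), (6, 2), (8, 4), (12, 4), (13, 1), (14, 3), (15, 2), (16, 1), (17, 2), (19, 2), (20, 4), (21, 4), (22, 4), (23, 4), (29, 2), (30, 1), (31, 3), (32, 4), (33, 2), (34, 1), (35, 3)], [(4, 1)], [(2, 2), (4, 3), (5, 1), (6, 1), (7, 4), (8, 2), (9, 3), (10, 3), (11, 4), (13, 4), (14, 2), (17, 1), (18, 1), (19, 4), (20, 1), (21, 1), (22, 1), (23, 1), (30, 4)], [(2, 2), (3, 2), (4, 2), (5, 1), (6, 3), (8, 1), (9, 4), (11, 4), (12, 2), (13, 4), (14, 3), (15, 3), (16, 4), (17, 2), (19, 3), (20, 1), (21, 1), (23, 1), (24, 4), (26, 4), (27, 2), (28, 4), (29, 3), (30, 4), (31, 2), (32, 1), (33, 3), (34,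 4), (35, 1)], [(2, 1), (4, 4), (5, 1), (6, 3), (8, 1), (9, 1), (10, 4), (11, 1), (12, 3), (14, 1), (35, 1)], [(2, 4), (3, 4), (4, 4), (5, 3), (6, 2), (7, 3), (8, 2), (10, 1), (11, 3), (12, 3), (14, 2), (15, 3), (16, 2), (17, 4), (20, 4), (21, 4), (22, 4), (23, 4), (31, 2), (32, 1), (33, 3)], [(2, 3), (3, 4), (5, 4), (6, 2), (7, 1), (8, 4), (9, 1), (10, 2), (11, 2), (12, 1), (13, 4), (15, 3), (16, 3), (17, 1), (19, 4), (29, 4), (31, 2), (32, 1), (33, 3), (35, 1)], [(2, 4), (4, 1), (6, 1), (8, 4), (9, 4), (10, 1), (12, 1), (13, 4), (16, 4)], [(11, 1)], [(2, 4), (5, 4), (6, 1), (9, 4), (12, 1), (14, 4), (24, 1), (29, 1), (30, 1), (34, 1), (35, 4)], [(2, 3), (4, 2), (6, 2), (7, 4), (8, 2), (9, 4), (10, 2), (11, 3), (14, 2), (16, 1), (17, 2), (19, 4), (20, 1), (21, 1), (22, 1), (23, 1), (29, 4)], [(2, 3), (3, 1), (4, 3), (5, 1), (6, 3), (7, 3), (8, 2), (9, 1), (10, 1), (11, 3),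 (12, 2), (13, 1), (14, 1), (15, 2), (16, 3), (18, 4), (19, 1), (24, 1), (29, 1), (30, 2), (31, 3), (32, 4), (33, 2), (34, 1), (35, 4)], [(3, 2), (4, 4), (5, 3), (6, 1), (7, 2), (8, 2), (10, 4), (11, 1), (12, 2), (13, 1), (14, 1), (16, 4), (17, 3), (18, 4), (19, 2), (29, 1), (30, 1), (31, 1), (32, 3), (33, 4), (34, 1), (35, 4)], [(2, 2), (3, 1), (5, 2), (6, 2), (7, 3), (8, 1), (10, 2), (11, 4), (12, 3), (14, 1), (15, 2), (16, 2), (17, 4), (19, 1), (29, 1), (31, 3), (32, 4), (33, 2)], [(2, 2), (3, 1), (5, 1), (6, 3), (7, 4), (8, 1), (9, 4), (10, 3), (11, 3), (12, 4), (13, 1), (15, 2), (16, 2), (17, 4), (19, 1), (29, 1), (31, 3), (32, 4), (33, 2), (34, 1), (35, 4)], [(3, 3), (5, 2), (6, 4), (7, 3), (8, 2), (10, 1), (11, 3), (12, 4), (13, 4), (14, 4), (16, 1), (17, 2), (19, 3), (20, 2), (21, 2), (23, 2), (26, 4), (27, 3), (28, 3), (29, 4)], [(2, 2), (5, 2), (6, 4), (7, 4), (9,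 3), (10, 3), (11, 1), (12, 1), (13, 1), (15, 2), (16, 2), (17, 3), (18, 4), (19, 2), (22, 4), (27, 1), (28, 4), (29, 1), (30, 1), (31, 3), (32, 4), (33, 2), (34, 1), (35, 4)], [(3, 3), (4, 1), (5, 3), (6, 2), (7, 2), (8, 3), (9, 1), (10, 1), (12, 2), (13, 3), (16, 1), (17, 2), (18, 1), (19, 3), (20, 2), (21, 1), (23, 2), (27, 1), (28, 4), (29, 4), (30, 4), (32, 1), (34, 4), (35, 1), (36, 1)], [(21, 1)], [(22, 1)], [(2, 2), (3, 4), (4, 1), (5, 3), (7, 3), (8, 3), (9, 3), (10, 4), (11, 4), (13, 1), (14, 3), (15, 3), (16, 3), (18, 4), (24, 4), (26, 4), (27, 1), (29, 4), (31, 2), (33, 3), (36, 4)], [(2, 1), (3, 3), (4, 4), (5, 2), (6, 1), (7, 2), (9, 2), (10, 4), (11, 2), (12, 4), (13, 3), (16, 1), (17, 3), (18, 1), (19, 3), (20, 2), (21, 2), (22, 1), (23, 2), (24, 1), (27, 1), (28, 4)], [(2, 2), (3, 1), (4, 3), (5, 4), (7, 2), (8, 2), (9, 1), (10, 3), (11, 1), (12, 1), (13, 1),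 (14, 2), (16, 4), (17, 3), (18, 4), (19, 2), (20, 4), (21, 4), (23, 4), (24, 4), (32, 4)], [(2, 1), (3, 4), (4, 4), (5, 1), (6, 3), (7, 4), (8, 1), (9, 1), (10, 4), (11, 1), (12, 3), (14, 1), (27, 1)], [(2, 1), (3, 3), (5, 2), (6, 4), (9, 4), (11, 4), (12, 1), (14, 1), (17, 4), (22, 4), (24, 4), (27, 2), (28, 4)], [(3, 3), (5, 2), (6, 3), (7, 3), (8, 3), (10, 1), (11, 4), (12, 3), (13, 4), (14, 4), (16, 1), (17, 2), (19, 3), (20, 2), (21, 2), (23, 2), (27, 2), (28, 4)], [(2, 2), (3, 4), (4, 4), (5, 1), (9, 1), (10, 4), (11, 4), (14, 1), (16, 1), (18, 4), (24, 4), (26, 4), (27, 1), (29, 4)], [(2, 3), (3, 1), (4, 2), (5, 4), (6, 2), (7, 1), (8, 3), (9, 3), (10, 2), (11, 4), (12, 3), (14, 4), (16, 4), (17, 4)], [(4, 2), (5, 2), (6, 2), (7, 3), (8, 2), (9, 2), (11, 3), (12, 1), (13, 1), (14, 1), (15, 3), (16, 3), (18, 4), (19, 1), (20, 4), (21, 4), (23, 4), (25, 4), (30, 1), (31,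 3), (33, 3)], [(2, 1), (6, 2), (7, 3), (8, 1), (9, 3), (11, 3), (13, 2), (14, 1), (16, 4), (17, 1), (18, 4), (19, 3), (20, 3), (21, 3), (22, 4), (23, 3), (24, 3), (25, 4)], [(2, 1), (4, 1), (5, 3), (6, 3), (7, 1), (8, 4), (10, 3), (11, 2), (12, 2), (13, 4), (14, 4), (15, 2), (16, 3), (17, 2), (19, 4), (20, 1), (21, 1), (23, 1), (24, 1), (25, 1), (30, 1), (31, 3), (33, 3)], [(9, 1), (17, 1)], [(2, 1), (3, 2), (4, 3), (6, 4), (7, 1), (9, 3), (10, 1), (11, 3), (12, 4), (13, 4), (14, 2), (15, 3), (16, 4), (17, 2), (19, 3), (20, 1), (21, 1), (23, 1), (24, 4), (26, 4), (27, 2), (28, 4), (29, 3), (30, 4), (31, 2), (32, 1), (33, 3), (34, 4), (35, 1)], [(2, 1), (4, 4), (6, 4), (8, 1), (9, 1), (10, 4), (11, 1), (12, 4), (14, 1), (17, 1), (19, 4), (20, 1), (21, 1), (25, 1)], [(2, 3), (4, 1), (6, 1), (7, 3), (8, 3), (10, 1), (11, 4), (12, 3), (13, 4), (14, 2), (16, 1), (17, 3), (19, 4),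 (20, 1), (21, 1), (22, 1), (23, 1), (24, 1), (30, 1), (37, 1), (49, 4)], [(4, 2), (5, 4), (6, 3), (7, 2), (8, 3), (9, 3), (10, 1), (11, 4), (12, 3), (14, 3), (15, 1), (16, 3), (18, 1), (19, 1), (20, 1), (21, 1), (23, 1), (24, 4), (25, 1), (26, 3), (27, 4), (28, 3), (29, 1), (30, 1), (31, 2), (33, 1), (34, 3), (35, 2), (38, 4), (39, 3), (40, 3), (42, 4), (44, 3), (45, 2), (47, 3), (49, 4), (50, 2)], [(3, 2), (4, 4), (5, 4), (6, 2), (7, 1), (8, 4), (9, 1), (10, 2), (11, 1), (12, 1), (13, 3), (14, 1), (15, 3), (16, 4), (17, 3), (18, 4), (19, 4), (20, 1), (23, 1), (24, 1), (26, 4), (27, 3), (28, 3), (29, 4), (30, 1), (31, 2), (32, 1), (33, 3), (37, 1), (38, 4), (39, 1), (40, 1), (41, 3), (43, 2), (46, 4), (47, 4), (48, 4), (49, 1), (50, 1)], [(2, 4), (3, 1), (4, 3), (6, 2), (7, 2), (8, 3), (9, 3), (10, 1), (12, 3), (13, 1), (14, 3), (15, 1), (16, 2), (17, 3), (18, 2), (19, 1),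 (21, 1), (24, 2), (25, 1), (26, 3), (27, 2), (30, 4), (31, 1), (33, 1), (34, 2), (35, 3), (37, 4), (38, 4), (39, 3), (40, 3), (41, 2), (42, 4), (43, 3), (44, 3), (45, 3), (46, 1), (47, 4), (48, 1), (49, 3), (50, 2)], [(3, 1), (4, 2), (6, 2), (7, 4), (8, 4), (9, 2), (10, 2), (11, 3), (13, 1), (15, 4), (16, 1), (17, 1), (18, 1), (20, 1), (21, 1), (23, 1), (24, 1), (25, 1), (27, 4), (28, 1), (29, 2), (30, 1), (31, 1), (32, 3), (33, 4), (34, 1), (35, 4), (38, 1), (39, 1), (40, 1), (41, 1), (42, 3), (44, 1), (47, 1), (49, 3)], [(2, 4), (4, 4), (5, 1), (6, 4), (7, 3), (9, 1), (10, 4), (12, 1), (14, 3), (16, 2), (17, 3), (18, 1), (19, 3), (20, 1), (21, 1), (23, 1), (24, 1), (25, 1), (27, 4), (28, 1), (38, 1), (39, 1), (40, 1), (42, 4), (44, 1), (47, 1), (49, 4)], [(2, 2), (3, 1), (6, 1), (7, 4), (8, 4), (9, 4), (10, 1), (11, 3), (12, 4), (13, 1), (14, 1), (15, 4), (16, 2), (17, 2),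 (19, 4), (20, 2), (21, 2), (23, 2), (24, 1), (25, 1), (29, 1), (30, 1), (31, 1), (32, 3), (33, 4), (34, 1), (35, 4), (38, 1), (39, 1), (40, 1), (42, 3), (43, 1), (44, 1), (47, 1), (49, 4)], [(2, 3), (3, 1), (4, 4), (5, 3), (7, 3), (8, 3), (9, 1), (10, 3), (11, 3), (12, 3), (16, 2), (17, 1), (18, 4), (19, 3), (20, 3), (21, 3), (23, 3), (24, 4), (25, 4), (38, 4), (39, 4), (40, 4), (42, 2), (47, 4)], [(31, 1), (50, 4)], [(3, 1), (4, 2), (5, 4), (6, 2), (7, 2), (8, 2), (9, 4), (10, 1), (12, 3), (13, 2), (14, 1), (15, 2), (16, 2), (17, 3), (18, 1), (19, 4), (21, 4), (23, 4), (25, 4), (26, 4), (27, 3), (28, 3), (29, 1), (30, 3), (31, 3), (32, 2), (33, 2), (34, 2), (35, 3), (36, 4), (37, 1), (38, 4), (40, 1), (41, 3), (43, 2), (47, 4), (48, 4), (50, 1)], [(47, 1)], [(2, 2), (4, 3), (5, 4), (6, 4), (7, 2), (8, 4), (10, 1), (11, 4), (12, 4), (13, 2), (14, 3), (15, 3), (17, 4), (18,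 1), (19, 1), (20, 2), (21, 2), (23, 3), (24, 4), (26, 4), (27, 3), (28, 3), (29, 2), (30, 3), (31, 2), (32, 2), (33, 3), (34, 3), (35, 2), (36, 1), (48, 1)], [(49, 4)], [(4, 2), (5, 2), (6, 2), (7, 3), (8, 2), (9, 2), (11, 3), (12, 1), (13, 1), (14, 1), (15, 3), (16, 3), (18, 4), (19, 1), (20, 4), (21, 4), (23, 4), (25, 4), (30, 1), (31, 3), (33, 3), (45, 4)], [(2, 1), (3, 4), (4, 4), (6, 4), (8, 4), (9, 1), (10, 1), (11, 4), (12, 3), (13, 3), (14, 1), (15, 4), (17, 2), (19, 1), (20, 2), (21, 1), (22, 1), (23, 2), (26, 2), (27, 2), (28, 1), (29, 1), (30, 1), (31, 4), (33, 4), (34, 3), (35, 1), (37, 1), (38, 2), (39, 3), (40, 4), (41, 3), (42, 4), (43, 2), (44, 3), (45, 2), (46, 4), (47, 2), (48, 4), (49, 1), (50, 3), (51, 1)]]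

/-- Columns. -/
def g33 : List ℕ := mkCols [[(0, 2), (1, 2), (2, 4), (3, 3), (4, 1), (5, 4), (7, 3), (9, 4), (11, 4), (12, 1), (14, 2), (16, 3), (17, 4), (21, 1), (22, 3), (24, 2), (25, 1), (26, 1), (27, 1), (28, 1), (30, 3), (31, 3), (32, 1), (33, 3), (34, 1), (35, 3), (36, 4), (37, 1), (38, 1), (40, 2), (41, 1), (42, 4), (43, 3), (44, 1), (45, 3), (46, 1), (48, 3), (49, 3), (50, 1), (51, 3)], [(0, 1), (1, 3), (2, 4), (3, 3), (4, 1), (5, 4), (7, 3), (9, 4), (11, 4), (12, 1), (14, 2), (16, 3), (17, 4), (21, 1), (22, 3), (24, 2), (25, 1), (26, 1), (27, 1), (28, 1), (30, 3), (31, 3), (32, 1), (33, 3), (34, 1), (35, 3), (36, 4), (37, 1), (38, 1), (40, 2), (41, 1), (42, 4), (43, 3), (44, 1), (45, 3), (46, 1), (48, 3), (49, 3), (50, 1), (51, 3)], [(2, 4)], [(2, 2), (3, 2), (5, 2), (9, 2), (10, 3), (11, 2), (12, 1), (13, 3), (14, 2), (17, 2)], [(4, 4)], [(5, 4), (6, 1), (7, 1),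 (13, 1), (17, 1)], [(2, 3), (3, 2), (5, 3), (6, 4), (9, 3), (10, 2), (11, 3), (12, 4), (13, 2), (14, 3), (17, 3)], [(2, 3), (3, 2), (5, 3), (7, 4), (9, 3), (10, 2), (11, 3), (12, 4), (13, 2), (14, 3), (17, 3)], [(2, 2), (3, 3), (5, 2), (8, 4), (9, 2), (10, 3), (11, 2), (12, 1), (13, 3), (14, 2), (17, 2)], [(2, 3), (3, 2), (5, 3), (6, 4), (7, 4), (9, 3), (10, 2), (11, 4), (12, 4), (13, 1), (14, 3), (17, 3)], [(2, 2), (3, 3), (5, 2), (9, 3), (10, 2), (11, 3), (12, 4), (13, 3), (14, 2), (17, 3)], [(9, 1), (17, 1)], [(12, 1)], [(2, 2), (3, 3), (5, 2), (6, 1), (7, 1), (9, 2), (10, 3), (11, 2), (12, 1), (13, 3), (14, 2), (17, 3)], [(2, 3), (3, 2), (5, 3), (9, 2), (10, 2), (11, 2), (12, 1), (13, 2), (14, 2), (17, 2)], [(15, 4)], [(16, 4)], [(2, 2), (3, 3), (5, 2), (6, 1), (7, 1), (9, 2), (10, 3), (11, 2), (12, 1), (13, 4), (14, 2), (17, 2)], [(18, 4)], [(2, 2), (4, 3), (6, 3), (8,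 2), (9, 2), (10, 3), (11, 2), (12, 4), (14, 2), (17, 2), (18, 2), (19, 2), (20, 3), (22, 2), (25, 3)], [(2, 4), (4, 1), (6, 2), (7, 1), (8, 4), (9, 3), (10, 1), (11, 3), (12, 3), (13, 1), (14, 4), (17, 4), (18, 4), (19, 1), (22, 4), (25, 1)], [(21, 4)], [(6, 1), (7, 1), (9, 4), (11, 4), (12, 1), (13, 1), (24, 4)], [(2, 3), (4, 2), (6, 2), (8, 3), (9, 3), (10, 2), (11, 3), (12, 1), (14, 3), (17, 3), (18, 3), (19, 2), (20, 2), (22, 3), (23, 4), (25, 2)], [(6, 1), (7, 1), (9, 4), (11, 4), (12, 1), (13, 1), (22, 4)], [(2, 2), (4, 3), (6, 3), (8, 2), (9, 2), (10, 3), (11, 2), (12, 3), (14, 2), (17, 2), (18, 2), (19, 3), (20, 3), (22, 3), (24, 4), (25, 2)], [(26, 4)], [(2, 4), (3, 2), (4, 1), (7, 3), (8, 3), (9, 3), (10, 2), (11, 4), (13, 4), (15, 3), (16, 3), (18, 4), (22, 2), (24, 2), (26, 2), (29, 4)], [(2, 4), (3, 3), (4, 2), (5, 1), (7, 1), (8, 1), (9, 1), (10, 3), (11, 3),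 (13, 2), (14, 1), (15, 1), (16, 1), (18, 3), (22, 4), (24, 4), (26, 4), (27, 2), (28, 4), (29, 3)], [(2, 1), (3, 3), (4, 4), (7, 2), (8, 2), (9, 2), (10, 3), (11, 1), (13, 1), (15, 2), (16, 2), (18, 1), (22, 3), (24, 3), (26, 3), (27, 4)], [(0, 2), (1, 4), (2, 3), (3, 4), (4, 3), (5, 4), (6, 2), (9, 2), (10, 3), (11, 2), (12, 1), (13, 4), (14, 2), (15, 1), (16, 4), (17, 1), (18, 4), (20, 1), (21, 2), (22, 3), (23, 3), (24, 4), (25, 1), (26, 1), (27, 3), (28, 3), (29, 3), (30, 1), (31, 3), (32, 1), (33, 3), (34, 2), (35, 1), (36, 3), (37, 3), (38, 1), (40, 1), (41, 3), (42, 1), (43, 3), (44, 4), (45, 2), (46, 4), (47, 2), (48, 4), (50, 2), (51, 2)], [(2, 2), (3, 1), (4, 1), (6, 4), (8, 4), (9, 4), (10, 1), (11, 2), (15, 4), (16, 4), (17, 4), (18, 2), (25, 2), (30, 3), (32, 3), (33, 4), (37, 3), (39, 2), (40, 2), (44, 2), (45, 2)], [(0, 2), (1, 4), (2, 2), (3, 4), (4, 2), (5,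 4), (7, 4), (9, 2), (10, 1), (12, 4), (13, 1), (14, 2), (16, 1), (18, 4), (19, 2), (20, 4), (22, 2), (23, 4), (24, 1), (25, 1), (26, 1), (27, 3), (28, 3), (29, 3), (30, 3), (31, 2), (33, 2), (34, 2), (35, 1), (36, 3), (37, 2), (40, 2), (41, 3), (42, 1), (43, 3), (44, 4), (45, 4), (46, 1), (47, 2), (48, 4), (50, 2), (51, 2)], [(0, 2), (1, 4), (3, 3), (5, 4), (6, 4), (8, 2), (9, 4), (10, 2), (11, 4), (12, 2), (13, 3), (14, 3), (15, 4), (16, 4), (18, 3), (20, 1), (21, 1), (22, 1), (23, 1), (25, 2), (26, 1), (27, 3), (28, 3), (29, 3), (30, 2), (31, 4), (32, 3), (34, 2), (35, 1), (36, 3), (37, 2), (38, 1), (40, 4), (41, 3), (42, 1), (43, 3), (44, 2), (47, 2), (48, 4), (50, 2), (51, 2)], [(0, 2), (1, 4), (2, 3), (3, 2), (4, 2), (5, 2), (6, 4), (8, 3), (9, 1), (10, 2), (11, 3), (12, 1), (13, 3), (14, 4), (15, 2), (16, 2), (18, 2), (19, 3), (20, 3), (21, 4), (22, 1), (24, 2), (25,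 1), (26, 2), (27, 2), (28, 2), (31, 3), (32, 1), (33, 3), (34, 3), (35, 1), (36, 3), (37, 2), (38, 1), (40, 1), (42, 2), (43, 3), (44, 2), (45, 2), (46, 4), (47, 4), (48, 4), (49, 1), (50, 2), (51, 2)], [(0, 3), (1, 1), (3, 1), (4, 4), (5, 3), (6, 1), (7, 4), (8, 4), (10, 1), (11, 4), (12, 2), (13, 4), (14, 1), (15, 4), (16, 2), (17, 4), (18, 1), (20, 4), (21, 3), (22, 3), (23, 2), (24, 2), (25, 4), (27, 3), (28, 4), (29, 2), (31, 2), (32, 4), (33, 2), (34, 3), (36, 2), (37, 3), (38, 4), (40, 4), (41, 3), (42, 3), (43, 2), (44, 1), (45, 3), (46, 1), (47, 3), (48, 1), (49, 3), (50, 3), (51, 3)], [(0, 2), (1, 4), (2, 2), (6, 1), (7, 2), (8, 1), (10, 1), (11, 1), (12, 1), (14, 4), (15, 3), (17, 1), (19, 3), (20, 1), (21, 3), (22, 1), (23, 1), (25, 2), (26, 2), (27, 2), (28, 2), (30, 2), (31, 4), (32, 3), (33, 4), (34, 2), (35, 1), (36, 4), (37, 2), (38, 3), (40, 4), (41, 2),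 (42, 2), (43, 1), (44, 2), (46, 2), (47, 1), (48, 1), (49, 1), (50, 2), (51, 2)], [(37, 4)], [(38, 4)], [(39, 4)], [(40, 4)], [(41, 4)], [(42, 4)], [(43, 4)], [(44, 4)], [(2, 2), (3, 2), (5, 3), (6, 3), (7, 4), (8, 1), (9, 3), (10, 2), (12, 3), (13, 1), (14, 4), (16, 4), (17, 3), (18, 1), (19, 4), (24, 1), (25, 1), (38, 4), (39, 1), (40, 1), (45, 1)], [(46, 4)], [(2, 3), (3, 2), (5, 3), (9, 3), (10, 2), (11, 3), (12, 4), (13, 2), (14, 3), (17, 3), (47, 4)], [(2, 2), (4, 3), (6, 4), (7, 1), (8, 2), (9, 1), (10, 3), (11, 1), (12, 4), (13, 1), (14, 2), (17, 2), (18, 2), (19, 3), (20, 3), (22, 2), (25, 3), (48, 4)], [(49, 4)], [(0, 2), (1, 4), (2, 2), (3, 3), (4, 4), (5, 3), (6, 1), (7, 4), (8, 3), (11, 1), (13, 3), (14, 2), (15, 3), (17, 4), (18, 1), (19, 4), (20, 4), (21, 3), (22, 2), (23, 4), (24, 1), (26, 4), (27, 4), (28, 4), (29, 1), (30, 4), (34, 2), (35, 1), (36, 3), (37,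 2), (38, 4), (39, 1), (40, 4), (41, 4), (42, 2), (43, 2), (44, 1), (45, 3), (46, 4), (47, 4), (48, 2), (49, 2), (50, 3), (51, 3)], [(51, 4)]]

/-- Columns. -/
def g34 : List ℕ := mkCols [[(0, 2), (1, 3), (2, 1), (3, 2), (4, 3), (6, 2), (7, 1), (8, 4), (9, 2), (11, 4), (12, 4), (13, 1), (14, 2), (15, 4), (16, 3), (17, 4), (18, 1), (19, 3), (20, 4), (21, 3), (22, 2), (23, 2), (25, 3), (27, 3), (28, 1), (29, 1), (30, 3), (31, 4), (32, 1), (33, 1), (34, 1), (36, 1), (38, 4), (39, 1), (40, 1), (42, 1), (43, 4), (45, 3), (46, 1), (47, 2), (48, 2), (49, 3), (50, 1), (51, 2)], [(0, 4), (1, 3), (2, 4), (3, 3), (4, 2), (6, 3), (7, 4), (8, 1), (9, 3), (11, 1), (12, 1), (13, 4), (14, 3), (15, 1), (16, 2), (17, 1), (18, 4), (19, 2), (20, 1), (21, 2), (22, 3), (23, 3), (25, 2), (27, 2), (28, 4), (29, 4), (30, 2), (31, 1), (32, 4), (33, 4), (34, 4), (36, 4), (38, 1), (39, 4), (40, 4), (42,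 4), (43, 1), (45, 2), (46, 4), (47, 3), (48, 3), (49, 2), (50, 4), (51, 3)], [(2, 4), (3, 2), (4, 3), (5, 3), (6, 3), (8, 2), (9, 4), (11, 4), (12, 2), (13, 3), (14, 3), (17, 3)], [(2, 2), (3, 2), (5, 2), (9, 2), (10, 3), (11, 2), (12, 1), (13, 3), (14, 2), (17, 2)], [(2, 3), (3, 2), (4, 4), (5, 3), (6, 4), (7, 4), (9, 3), (10, 2), (11, 3), (12, 4), (13, 2), (14, 3), (17, 3)], [(2, 3), (3, 2), (5, 2), (9, 3), (10, 2), (11, 3), (12, 4), (13, 2), (14, 3), (17, 3)], [(7, 1)], [(6, 1)], [(2, 4), (3, 1), (5, 4), (6, 1), (7, 1), (8, 4), (9, 4), (10, 1), (11, 4), (12, 2), (13, 1), (14, 4), (17, 4)], [(11, 1), (13, 4)], [(2, 2), (3, 3), (5, 2), (6, 1), (7, 1), (9, 2), (10, 2), (11, 2), (12, 1), (13, 3), (14, 2), (17, 2)], [(2, 3), (3, 2), (5, 3), (6, 4), (7, 4), (9, 4), (10, 2), (11, 3), (12, 4), (13, 1), (14, 3), (17, 3)], [(6, 4), (7, 4), (9, 1), (11, 1), (12, 4), (13, 4)], [(2,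 3), (3, 2), (5, 3), (6, 4), (7, 4), (9, 3), (10, 2), (11, 3), (12, 4), (13, 1), (14, 3), (17, 3)], [(3, 3), (4, 2), (5, 2), (6, 2), (8, 3), (9, 1), (11, 1), (12, 3), (13, 2), (14, 1), (17, 2)], [(2, 3), (4, 2), (6, 1), (7, 4), (8, 3), (9, 4), (10, 2), (11, 4), (12, 2), (13, 4), (15, 4)], [(3, 3), (4, 2), (5, 2), (6, 2), (8, 3), (9, 1), (11, 1), (12, 3), (13, 2), (14, 2), (16, 4), (17, 2)], [(2, 3), (3, 2), (5, 3), (6, 4), (7, 4), (9, 3), (10, 2), (11, 3), (12, 4), (13, 2), (14, 3), (17, 2)], [(2, 4), (4, 1), (6, 1), (8, 4), (9, 4), (10, 1), (11, 4), (14, 3), (17, 3), (18, 2), (19, 2), (20, 3), (22, 3), (25, 2)], [(2, 2), (4, 3), (6, 3), (8, 2), (9, 2), (10, 3), (11, 2), (12, 4), (14, 2), (17, 2), (18, 2), (19, 2), (20, 3), (22, 2), (25, 3)], [(20, 1)], [(2, 1), (4, 4), (6, 4), (8, 1), (9, 1), (10, 4), (11, 1), (14, 2), (17, 2), (18, 2), (19, 3), (20, 2), (21, 4), (22, 2),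 (25, 3)], [(2, 3), (4, 2), (6, 2), (8, 3), (9, 3), (10, 2), (11, 3), (12, 1), (14, 3), (17, 3), (18, 3), (19, 2), (20, 2), (22, 2), (25, 2)], [(2, 1), (4, 4), (7, 1), (8, 1), (10, 4), (12, 4), (13, 1), (20, 4), (23, 4)], [(2, 2), (4, 3), (6, 4), (7, 1), (8, 2), (9, 1), (10, 3), (11, 1), (12, 4), (13, 1), (14, 2), (17, 2), (18, 2), (19, 3), (20, 3), (22, 2), (24, 4), (25, 3)], [(2, 3), (4, 2), (6, 3), (7, 1), (8, 3), (9, 2), (10, 2), (11, 2), (12, 3), (13, 1), (14, 2), (17, 2), (18, 2), (19, 3), (20, 2), (22, 2), (25, 2)], [(2, 2), (3, 1), (4, 4), (5, 4), (7, 1), (8, 1), (9, 1), (10, 3), (11, 1), (12, 1), (14, 2), (17, 4), (19, 2), (20, 3), (21, 3), (23, 3), (26, 1), (41, 3), (42, 2)], [(0, 3), (1, 4), (2, 3), (3, 4), (4, 1), (5, 2), (6, 4), (7, 4), (10, 1), (11, 4), (12, 4), (13, 4), (16, 1), (17, 2), (18, 2), (20, 4), (22, 2), (23, 2), (24, 1), (26, 3), (27, 4), (28, 1),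 (29, 3), (30, 1), (31, 2), (32, 1), (33, 2), (35, 3), (36, 3), (37, 3), (38, 2), (39, 2), (40, 1), (41, 4), (42, 4), (44, 1), (45, 4), (46, 3), (48, 4), (49, 4), (51, 2)], [(0, 1), (1, 3), (2, 1), (3, 3), (5, 4), (6, 3), (7, 1), (10, 1), (12, 3), (13, 2), (14, 2), (16, 4), (17, 3), (18, 3), (19, 3), (20, 1), (21, 3), (22, 4), (23, 2), (24, 1), (25, 4), (26, 1), (27, 1), (28, 3), (29, 1), (30, 2), (31, 4), (32, 2), (33, 4), (35, 1), (36, 1), (37, 1), (38, 3), (39, 3), (40, 1), (42, 3), (44, 2), (45, 3), (46, 1), (48, 3), (49, 3), (51, 4)], [(0, 2), (1, 1), (3, 2), (4, 2), (5, 3), (7, 4), (8, 1), (9, 4), (11, 2), (12, 1), (13, 2), (14, 4), (17, 4), (18, 3), (21, 2), (25, 4), (26, 2), (27, 2), (28, 4), (29, 3), (30, 4), (31, 3), (32, 4), (33, 3), (35, 2), (36, 2), (37, 1), (39, 4), (40, 4), (41, 1), (42, 1), (43, 3), (44, 4), (45, 1), (46, 2), (48, 1), (49, 1), (51, 3)], [(2,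 2), (3, 2), (4, 1), (5, 3), (7, 4), (8, 4), (10, 3), (12, 4), (13, 4), (14, 1), (17, 1), (18, 3), (19, 2), (22, 3), (25, 2), (30, 4), (33, 2)], [(31, 4)], [(2, 4), (3, 3), (4, 3), (5, 2), (6, 4), (7, 1), (8, 2), (9, 1), (10, 1), (11, 1), (13, 1), (14, 4), (17, 4), (18, 2), (19, 3), (22, 2), (25, 3), (32, 4), (33, 2)], [(33, 1)], [(0, 4), (1, 2), (3, 1), (4, 1), (6, 2), (8, 4), (9, 4), (10, 4), (11, 2), (12, 2), (14, 2), (15, 1), (18, 4), (19, 2), (20, 4), (21, 2), (22, 1), (23, 3), (24, 4), (25, 3), (26, 1), (29, 4), (30, 3), (31, 2), (32, 3), (33, 2), (34, 4), (35, 1), (36, 4), (37, 2), (38, 4), (39, 2), (40, 2), (41, 2), (42, 4), (43, 1), (44, 3), (45, 2), (46, 4), (48, 2), (49, 2), (50, 3), (51, 1)], [(0, 4), (1, 2), (2, 1), (3, 3), (4, 2), (5, 3), (6, 1), (8, 3), (11, 3), (12, 2), (13, 2), (14, 2), (15, 1), (17, 2), (18, 2), (19, 4), (20, 4), (21, 2), (22, 3), (23, 3),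 (24, 3), (27, 2), (28, 4), (29, 4), (30, 2), (31, 1), (32, 4), (33, 4), (34, 4), (35, 1), (36, 4), (37, 2), (38, 4), (39, 2), (40, 2), (41, 2), (42, 4), (43, 1), (44, 3), (45, 2), (46, 4), (47, 4), (48, 2), (49, 2), (50, 4), (51, 1)], [(0, 4), (1, 2), (2, 4), (3, 1), (5, 1), (6, 3), (14, 3), (15, 1), (17, 1), (19, 1), (20, 2), (21, 4), (22, 3), (24, 4), (25, 1), (26, 1), (29, 4), (30, 1), (31, 2), (33, 2), (34, 3), (35, 1), (37, 1), (39, 2), (40, 1), (41, 4), (42, 4), (43, 4), (44, 3), (45, 2), (46, 4), (47, 2), (48, 4), (49, 2), (50, 3), (51, 1)], [(37, 4)], [(38, 4)], [(39, 4)], [(40, 4)], [(41, 4)], [(2, 2), (3, 3), (5, 2), (6, 1), (7, 1), (9, 2), (10, 3), (11, 2), (12, 1), (13, 3), (14, 2), (17, 2), (42, 4)], [(43, 4)], [(44, 4)], [(45, 4)], [(46, 4)], [(6, 1), (7, 1), (47, 4)], [(2, 1), (4, 4), (7, 1), (8, 1), (10, 4), (12, 4), (13, 1), (20, 1), (48, 4)], [(3, 1), (4,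 2), (5, 1), (6, 3), (7, 2), (8, 3), (9, 2), (10, 3), (12, 2), (13, 3), (15, 2), (16, 4), (18, 2), (19, 2), (20, 4), (21, 3), (23, 4), (25, 2), (30, 3), (31, 4), (32, 3), (33, 4), (37, 2), (38, 2), (39, 2), (40, 4), (41, 2), (42, 2), (45, 2), (46, 4), (47, 1), (48, 4), (49, 1), (51, 3)], [(2, 1), (3, 4), (4, 4), (5, 1), (7, 4), (8, 4), (9, 1), (11, 3), (12, 4), (13, 1), (14, 3), (16, 2), (17, 4), (18, 2), (19, 2), (20, 1), (21, 1), (22, 2), (23, 1), (24, 3), (25, 1), (26, 1), (27, 3), (28, 1), (30, 4), (31, 4), (32, 1), (33, 3), (34, 4), (35, 1), (38, 4), (39, 4), (40, 4), (42, 2), (47, 4)], [(51, 4)]]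

/-- Columns. -/
def g35 : List ℕ := mkCols [[(0, 2), (1, 3), (2, 1), (3, 3), (4, 2), (5, 2), (7, 4), (10, 1), (11, 2), (13, 3), (14, 3), (15, 1), (18, 3), (21, 1), (22, 2), (23, 1), (25, 1), (26, 2), (30, 1), (31, 3), (32, 4), (33, 3), (34, 3), (36, 1), (38, 4), (39, 1), (40, 3), (41, 2), (42, 2), (43, 4), (47, 4), (48, 2), (49, 4), (50, 1), (51, 2)], [(0, 4), (1, 3), (2, 4), (3, 2), (4, 3), (5, 3), (7, 1), (10, 4), (11, 3), (13, 2), (14, 2), (15, 4), (18, 2), (21, 4), (22, 3), (23, 4), (25, 4), (26, 3), (30, 4), (31, 2), (32, 1), (33, 2), (34, 2), (36, 4), (38, 1), (39, 4), (40, 2), (41, 3), (42, 3), (43, 1), (47, 1), (48, 3), (49, 1), (50, 4), (51, 3)], [(2, 1), (3, 3), (5, 2), (6, 1), (8, 4), (9, 2), (10, 3), (11, 2), (12, 1), (13, 3), (14, 2), (17, 2)], [(3, 4)], [(4, 4)], [(2, 2), (3, 3), (5, 1), (6, 1), (7, 1), (9, 2), (10, 3), (11, 2), (12, 1), (13, 4), (14, 2), (17,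 3)], [(2, 2), (3, 3), (5, 2), (8, 4), (9, 2), (10, 3), (11, 2), (12, 1), (13, 3), (14, 2), (17, 2)], [(2, 3), (3, 2), (5, 3), (6, 4), (7, 4), (8, 1), (9, 3), (10, 2), (11, 3), (12, 4), (13, 2), (14, 3), (17, 3)], [(2, 3), (3, 2), (5, 3), (6, 4), (9, 3), (10, 2), (11, 3), (12, 4), (13, 2), (14, 3), (17, 3)], [(7, 4), (8, 4), (9, 1), (13, 4), (17, 1)], [(10, 4)], [(11, 1)], [(9, 1), (11, 1), (12, 4), (17, 1)], [(2, 4), (3, 1), (5, 4), (6, 2), (7, 1), (8, 4), (9, 4), (10, 1), (11, 4), (12, 2), (13, 1), (14, 4)], [(14, 4)], [(15, 4)], [(2, 3), (3, 2), (5, 3), (6, 4), (8, 1), (9, 2), (10, 2), (11, 4), (12, 4), (13, 2), (14, 3), (16, 4), (17, 2)], [(7, 1), (8, 1), (13, 1)], [(2, 2), (3, 2), (4, 2), (5, 1), (6, 4), (9, 4), (10, 3), (11, 4), (12, 2), (13, 2), (14, 4), (15, 2), (16, 4), (17, 3), (19, 3), (20, 2), (21, 2), (22, 3), (23, 2), (24, 3), (26, 2), (27, 1), (28, 4), (29, 4)],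 [(0, 2), (1, 1), (3, 3), (6, 1), (7, 2), (8, 3), (9, 4), (11, 4), (12, 3), (13, 2), (14, 2), (15, 2), (16, 2), (17, 3), (19, 4), (20, 2), (21, 1), (23, 4), (24, 2), (25, 1), (27, 1), (28, 4), (29, 3), (30, 4), (31, 3), (32, 4), (33, 3), (35, 2), (36, 2), (37, 1), (38, 4), (39, 4), (40, 4), (41, 1), (42, 2), (43, 3), (44, 4), (45, 1), (46, 2), (48, 1), (49, 1), (51, 3)], [(0, 4), (1, 2), (2, 4), (3, 2), (5, 1), (6, 2), (7, 4), (10, 4), (12, 2), (13, 3), (14, 3), (16, 1), (17, 2), (18, 2), (19, 2), (21, 2), (22, 1), (23, 3), (24, 4), (25, 1), (26, 4), (27, 4), (28, 1), (29, 4), (30, 3), (31, 1), (32, 3), (33, 1), (35, 4), (36, 4), (37, 4), (38, 2), (39, 2), (40, 4), (42, 2), (44, 3), (45, 2), (46, 4), (48, 2), (49, 2), (51, 1)], [(2, 3), (3, 4), (4, 1), (5, 4), (6, 4), (8, 4), (9, 2), (10, 1), (11, 2), (12, 1), (13, 4), (14, 2), (15, 2), (16, 1), (17, 2), (18, 1), (19, 2), (20,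 3), (21, 4), (22, 2), (23, 3), (24, 2), (26, 3), (27, 4), (28, 1), (29, 1), (37, 4), (41, 1), (42, 1), (43, 3)], [(2, 4), (3, 2), (4, 1), (6, 1), (7, 4), (8, 3), (9, 2), (10, 2), (11, 3), (12, 1), (15, 3), (16, 3), (18, 4), (22, 2), (24, 1), (26, 2), (27, 1), (29, 4)], [(0, 3), (1, 4), (2, 2), (3, 3), (4, 4), (5, 4), (6, 2), (7, 4), (8, 3), (10, 1), (12, 2), (13, 2), (14, 1), (17, 3), (18, 2), (19, 1), (20, 3), (21, 4), (22, 2), (23, 2), (24, 1), (26, 3), (27, 3), (28, 2), (29, 3), (30, 1), (31, 2), (32, 1), (33, 2), (35, 3), (36, 3), (37, 3), (38, 2), (39, 2), (42, 4), (44, 1), (45, 4), (46, 3), (48, 4), (49, 4), (51, 2)], [(3, 4), (4, 4), (5, 4), (6, 1), (7, 3), (8, 2), (9, 1), (10, 4), (12, 1), (13, 3), (14, 4), (15, 2), (16, 2), (18, 1), (22, 2), (24, 3), (26, 3), (27, 4), (29, 1)], [(0, 2), (1, 1), (3, 3), (5, 4), (6, 3), (7, 3), (8, 3), (9, 3), (11, 2), (13, 4), (14,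 1), (15, 3), (16, 2), (17, 2), (18, 4), (19, 4), (20, 2), (21, 1), (23, 4), (24, 1), (25, 1), (27, 1), (29, 3), (30, 4), (31, 3), (32, 4), (33, 3), (35, 2), (36, 2), (37, 1), (39, 3), (40, 3), (41, 1), (42, 2), (43, 3), (44, 4), (45, 1), (46, 2), (48, 1), (49, 1), (51, 3)], [(26, 4)], [(27, 4)], [(28, 4)], [(2, 2), (3, 4), (4, 3), (5, 3), (6, 3), (8, 3), (9, 1), (10, 3), (11, 4), (13, 4), (15, 3), (16, 1), (17, 2), (18, 4), (19, 2), (20, 3), (21, 3), (22, 2), (23, 3), (24, 2), (26, 3), (27, 4), (28, 1)], [(2, 1), (3, 4), (4, 4), (5, 1), (6, 4), (7, 1), (8, 4), (9, 4), (10, 2), (12, 3), (13, 2), (16, 1), (17, 4), (19, 4), (20, 1), (21, 1), (22, 3), (23, 1), (24, 2), (26, 2), (27, 1), (28, 2), (29, 4), (30, 4), (34, 2)], [(2, 2), (3, 2), (5, 3), (6, 3), (7, 4), (8, 1), (9, 3), (10, 2), (12, 3), (13, 1), (14, 4), (16, 4), (17, 3), (18, 1), (19, 4), (24, 1), (25, 1), (31, 4),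 (38, 4), (39, 1), (40, 1), (45, 2)], [(2, 4), (3, 4), (4, 4), (5, 3), (6, 1), (7, 1), (8, 2), (9, 2), (10, 4), (11, 4), (12, 4), (13, 2), (14, 3), (15, 2), (16, 1), (19, 2), (20, 4), (21, 4), (22, 2), (23, 4), (24, 2), (26, 2), (27, 1), (28, 2), (29, 1), (31, 2), (32, 4), (33, 2), (34, 3), (35, 4), (38, 4), (39, 1), (40, 1), (45, 1), (50, 1)], [(0, 4), (1, 2), (3, 1), (4, 1), (6, 2), (8, 4), (9, 4), (10, 4), (11, 2), (12, 2), (14, 2), (15, 1), (18, 4), (19, 2), (20, 4), (21, 2), (22, 1), (23, 3), (24, 4), (25, 3), (26, 1), (29, 4), (30, 3), (31, 2), (32, 3), (33, 1), (35, 1), (36, 4), (37, 2), (38, 4), (39, 2), (40, 2), (41, 2), (42, 4), (43, 1), (44, 3), (45, 2), (46, 4), (48, 2), (49, 2), (50, 3), (51, 1)], [(34, 1)], [(2, 1), (3, 4), (4, 1), (5, 1), (6, 2), (7, 4), (9, 3), (10, 1), (11, 2), (12, 3), (13, 1), (14, 2), (16, 4), (17, 3), (19, 1), (20, 4), (21, 4), (22, 2),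 (23, 4), (24, 3), (26, 3), (27, 4), (28, 3), (29, 1), (34, 3), (35, 4)], [(0, 4), (1, 2), (2, 2), (4, 4), (5, 1), (6, 2), (7, 1), (8, 4), (9, 1), (10, 3), (11, 2), (12, 4), (13, 1), (14, 1), (15, 3), (16, 2), (18, 1), (19, 1), (20, 2), (21, 2), (22, 3), (23, 1), (24, 3), (25, 2), (26, 4), (27, 2), (28, 2), (29, 3), (30, 4), (31, 1), (33, 1), (34, 3), (35, 3), (37, 1), (39, 1), (40, 1), (42, 3), (43, 4), (44, 3), (45, 2), (46, 1), (47, 2), (48, 4), (50, 3), (51, 1)], [(2, 2), (3, 3), (5, 2), (6, 1), (8, 4), (9, 2), (10, 3), (11, 2), (12, 1), (13, 3), (14, 2), (17, 2), (37, 4)], [(38, 4)], [(2, 4), (3, 3), (4, 4), (5, 2), (6, 1), (7, 2), (8, 1), (9, 2), (10, 2), (11, 2), (12, 3), (13, 3), (14, 4), (16, 4), (18, 4), (19, 3), (20, 3), (21, 3), (23, 3), (24, 4), (25, 4), (38, 4), (40, 1)], [(2, 2), (3, 3), (5, 2), (6, 1), (8, 4), (9, 2), (10, 3), (11, 2), (12, 1), (13, 3), (14,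 2), (17, 2), (40, 4)], [(41, 4)], [(42, 4)], [(43, 4)], [(44, 4)], [(2, 2), (3, 2), (5, 3), (6, 3), (7, 4), (8, 1), (9, 3), (10, 2), (12, 3), (13, 1), (14, 4), (16, 4), (17, 3), (18, 1), (19, 4), (24, 1), (25, 1), (38, 4), (39, 1), (40, 1), (45, 1)], [(2, 2), (3, 3), (4, 4), (5, 4), (7, 1), (8, 1), (9, 4), (11, 3), (12, 2), (14, 4), (15, 3), (16, 4), (18, 3), (20, 1), (23, 1), (25, 3), (30, 2), (31, 1), (32, 2), (33, 1), (37, 2), (38, 3), (39, 3), (41, 2), (45, 3), (47, 2), (48, 4), (51, 3)], [(47, 4)], [(0, 2), (1, 1), (2, 4), (3, 2), (5, 1), (6, 4), (7, 2), (8, 2), (9, 1), (11, 2), (12, 2), (15, 2), (16, 2), (18, 1), (19, 3), (20, 3), (21, 1), (22, 3), (25, 3), (26, 2), (27, 2), (28, 3), (29, 2), (30, 2), (31, 2), (32, 2), (33, 2), (35, 2), (36, 2), (38, 1), (39, 1), (40, 4), (41, 3), (42, 1), (44, 4), (45, 3), (46, 1), (47, 3), (48, 1), (49, 1)], [(49, 4)], [(3, 1), (5,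 1), (7, 4), (8, 1), (10, 2), (11, 2), (12, 1), (13, 4), (14, 4), (15, 2), (16, 2), (18, 1), (19, 4), (20, 1), (21, 1), (22, 2), (23, 1), (24, 3), (25, 1), (26, 2), (27, 1), (28, 2), (29, 1), (31, 2), (33, 2), (34, 3), (35, 4), (45, 1)], [(51, 4)]]

/-- Columns. -/
def g36 : List ℕ := mkCols [[(0, 2), (1, 3), (2, 4), (3, 1), (4, 1), (6, 4), (7, 2), (8, 2), (9, 1), (10, 1), (11, 2), (12, 4), (13, 1), (14, 2), (15, 2), (16, 3), (17, 4), (19, 1), (20, 4), (22, 2), (23, 2), (24, 2), (25, 3), (26, 2), (30, 3), (31, 4), (32, 1), (33, 4), (34, 1), (36, 3), (38, 1), (39, 1), (40, 1), (41, 4), (42, 2), (43, 2), (45, 3), (46, 3), (47, 1), (48, 4), (49, 4), (50, 1), (51, 2)], [(0, 4), (1, 3), (2, 1), (3, 4), (4, 4), (6, 1), (7, 3), (8, 3), (9, 4), (10, 4), (11, 3), (12, 1), (13, 4), (14, 3), (15, 3), (16, 2), (17, 1), (19, 4), (20, 1), (22, 3), (23, 3), (24, 3), (25, 2), (26, 3), (30,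 2), (31, 1), (32, 4), (33, 1), (34, 4), (36, 2), (38, 4), (39, 4), (40, 4), (41, 1), (42, 3), (43, 3), (45, 2), (46, 2), (47, 4), (48, 1), (49, 1), (50, 4), (51, 3)], [(2, 4), (3, 3), (4, 1), (5, 1), (6, 2), (7, 1), (8, 4), (11, 3), (12, 2), (13, 1), (14, 3), (15, 2), (16, 3), (17, 3), (18, 3), (19, 3), (20, 2), (21, 4), (24, 3), (25, 3), (26, 3), (39, 1), (41, 4), (42, 1)], [(0, 3), (1, 4), (2, 1), (3, 4), (4, 2), (5, 4), (6, 4), (7, 2), (9, 2), (10, 4), (11, 3), (12, 4), (13, 4), (14, 1), (15, 2), (16, 3), (17, 4), (18, 1), (19, 1), (20, 3), (21, 4), (22, 4), (23, 1), (24, 3), (27, 4), (28, 1), (29, 2), (30, 1), (31, 2), (32, 1), (33, 2), (35, 3), (36, 3), (37, 3), (38, 1), (39, 2), (40, 1), (41, 4), (42, 4), (43, 1), (44, 1), (45, 4), (46, 3), (48, 4), (49, 4), (51, 2)], [(3, 3), (4, 4), (6, 2), (7, 2), (8, 4), (9, 1), (10, 4), (11, 2), (13, 3), (14, 1), (15, 2), (16, 4),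 (17, 2), (22, 3), (24, 3), (26, 3), (37, 1), (41, 4), (42, 1)], [(0, 4), (1, 2), (2, 4), (3, 3), (4, 3), (5, 2), (6, 3), (7, 4), (8, 4), (9, 3), (10, 4), (11, 4), (12, 2), (13, 4), (14, 3), (15, 3), (16, 1), (17, 2), (19, 2), (22, 1), (23, 1), (25, 4), (26, 2), (27, 3), (28, 3), (30, 3), (31, 1), (32, 3), (33, 1), (35, 4), (36, 4), (37, 2), (38, 3), (39, 2), (40, 3), (41, 1), (42, 3), (43, 3), (44, 3), (45, 2), (46, 4), (48, 2), (49, 2), (51, 1)], [(0, 2), (1, 1), (2, 1), (3, 3), (4, 2), (5, 2), (6, 1), (8, 2), (9, 4), (11, 2), (12, 4), (13, 2), (14, 1), (16, 4), (17, 2), (18, 2), (19, 2), (20, 4), (23, 4), (24, 4), (25, 3), (26, 2), (27, 1), (28, 4), (29, 3), (30, 4), (31, 3), (32, 4), (33, 3), (35, 2), (36, 2), (37, 1), (38, 4), (39, 4), (40, 4), (41, 1), (42, 1), (43, 4), (44, 4), (45, 1), (46, 2), (48, 1), (49, 1), (51, 3)], [(0, 2), (1, 1), (3, 3), (4, 2), (5, 1), (6,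 2), (7, 4), (8, 1), (11, 1), (12, 1), (13, 3), (14, 3), (18, 2), (21, 2), (22, 1), (23, 4), (25, 3), (26, 2), (27, 1), (28, 4), (29, 3), (30, 4), (31, 3), (32, 4), (33, 3), (35, 2), (36, 2), (37, 2), (38, 4), (39, 3), (40, 4), (41, 1), (42, 1), (43, 4), (44, 4), (45, 1), (46, 2), (48, 1), (49, 1), (51, 3)], [(0, 3), (1, 4), (2, 1), (3, 2), (4, 1), (5, 3), (6, 2), (7, 1), (9, 2), (10, 4), (12, 2), (13, 3), (14, 3), (17, 1), (18, 3), (19, 3), (20, 1), (22, 4), (23, 1), (25, 2), (26, 2), (27, 4), (28, 1), (29, 2), (30, 1), (31, 2), (32, 1), (33, 2), (35, 3), (36, 3), (37, 3), (38, 1), (39, 1), (40, 1), (42, 3), (43, 1), (44, 1), (45, 4), (46, 3), (48, 4), (49, 4), (51, 2)], [(0, 2), (1, 1), (2, 2), (3, 3), (5, 1), (8, 3), (9, 1), (10, 3), (11, 3), (13, 3), (17, 2), (18, 4), (19, 3), (20, 3), (21, 2), (22, 3), (23, 4), (25, 1), (26, 2), (27, 1), (28, 4), (29, 3), (30, 4), (31,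 3), (32, 4), (33, 3), (35, 2), (36, 2), (37, 2), (38, 4), (39, 3), (40, 4), (41, 1), (42, 1), (43, 4), (44, 4), (45, 1), (46, 2), (48, 1), (49, 1), (51, 3)], [(0, 2), (1, 1), (2, 4), (4, 4), (5, 2), (6, 2), (7, 2), (8, 4), (9, 2), (10, 2), (11, 1), (12, 3), (15, 3), (16, 2), (17, 1), (18, 4), (19, 3), (20, 2), (21, 1), (23, 4), (24, 2), (25, 1), (26, 4), (27, 2), (28, 4), (29, 2), (30, 4), (31, 3), (32, 4), (33, 3), (35, 2), (36, 2), (37, 1), (38, 4), (39, 4), (40, 4), (41, 1), (42, 1), (43, 4), (44, 4), (45, 1), (46, 2), (48, 1), (49, 1), (51, 3)], [(0, 4), (1, 2), (2, 3), (3, 3), (4, 3), (5, 4), (6, 2), (7, 3), (8, 3), (9, 3), (10, 4), (11, 3), (12, 1), (13, 4), (14, 2), (15, 3), (16, 2), (18, 2), (20, 4), (22, 3), (23, 3), (25, 2), (26, 2), (27, 3), (28, 3), (30, 3), (31, 1), (32, 3), (33, 1), (35, 4), (36, 4), (37, 3), (38, 3), (39, 3), (40, 3), (41, 1), (42, 3), (43,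 3), (44, 3), (45, 2), (46, 4), (48, 2), (49, 2), (51, 1)], [(2, 4), (4, 1), (6, 2), (7, 1), (8, 4), (9, 3), (10, 1), (11, 3), (12, 3), (13, 1), (14, 4), (17, 4), (18, 4), (19, 1), (20, 1), (24, 4), (25, 1)], [(0, 2), (1, 1), (4, 3), (5, 2), (6, 2), (7, 3), (8, 4), (9, 2), (10, 1), (12, 3), (13, 1), (14, 4), (15, 3), (16, 3), (17, 1), (18, 3), (20, 2), (22, 1), (23, 4), (24, 1), (25, 1), (27, 2), (28, 4), (29, 2), (30, 4), (31, 3), (32, 4), (33, 3), (35, 2), (36, 2), (37, 2), (38, 4), (39, 4), (40, 4), (42, 2), (43, 4), (44, 4), (45, 1), (46, 2), (48, 1), (49, 1), (51, 3)], [(0, 3), (1, 4), (2, 3), (4, 3), (5, 4), (6, 3), (7, 1), (8, 4), (9, 2), (11, 4), (12, 1), (13, 3), (14, 3), (15, 2), (16, 3), (17, 1), (18, 2), (19, 4), (21, 1), (23, 3), (24, 4), (27, 3), (28, 1), (29, 3), (30, 1), (31, 2), (32, 1), (33, 2), (35, 3), (36, 3), (37, 4), (38, 1), (39, 2), (40, 1), (42, 3),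 (43, 1), (44, 1), (45, 4), (46, 3), (48, 4), (49, 4), (51, 2)], [(15, 4)], [(2, 3), (3, 3), (4, 2), (7, 3), (8, 3), (9, 3), (10, 2), (12, 1), (13, 3), (14, 1), (15, 2), (16, 2), (17, 1), (18, 2), (19, 4), (20, 2), (21, 4), (24, 2), (25, 2), (26, 2)], [(0, 2), (1, 1), (2, 3), (4, 1), (5, 1), (6, 2), (8, 2), (9, 3), (10, 4), (11, 1), (12, 4), (13, 3), (14, 2), (15, 3), (16, 2), (17, 4), (18, 3), (20, 1), (23, 2), (25, 1), (27, 2), (28, 4), (29, 2), (30, 4), (31, 3), (32, 4), (33, 3), (35, 2), (36, 2), (37, 1), (38, 4), (39, 3), (40, 4), (42, 2), (43, 4), (44, 4), (45, 1), (46, 2), (48, 1), (49, 1), (51, 3)], [(18, 4)], [(2, 2), (4, 3), (6, 3), (8, 2), (9, 2), (10, 3), (11, 2), (12, 4), (14, 2), (17, 2), (18, 2), (19, 2), (20, 3), (22, 2), (25, 3)], [(2, 2), (4, 3), (6, 3), (8, 2), (9, 2), (10, 3), (11, 2), (12, 4), (14, 2), (17, 2), (18, 2), (19, 3), (20, 2), (22, 2), (25, 3)],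 [(21, 4)], [(22, 1)], [(2, 4), (4, 1), (6, 2), (7, 1), (8, 4), (9, 3), (10, 1), (11, 3), (12, 2), (13, 1), (14, 4), (17, 4), (19, 1), (20, 4), (21, 4), (23, 4), (24, 4), (25, 4)], [(6, 4), (7, 4), (9, 1), (11, 1), (12, 4), (13, 4), (22, 1)], [(2, 4), (4, 1), (7, 4), (8, 4), (10, 1), (12, 4), (13, 4), (14, 4), (17, 4), (18, 3), (19, 1), (20, 3), (21, 1), (22, 3), (24, 1), (25, 2)], [(2, 1), (3, 4), (4, 4), (6, 4), (8, 1), (10, 4), (11, 1), (12, 4), (15, 1), (16, 4)], [(2, 4), (3, 2), (4, 1), (7, 3), (8, 3), (9, 3), (10, 2), (11, 4), (13, 4), (15, 3), (16, 3), (18, 4), (22, 2), (24, 2), (26, 2), (29, 4)], [(2, 4), (3, 2), (4, 1), (7, 3), (8, 3), (9, 3), (10, 2), (11, 4), (13, 4), (15, 3), (16, 3), (18, 4), (22, 2), (24, 2), (26, 2), (27, 1), (28, 4), (29, 4)], [(2, 3), (3, 1), (4, 2), (6, 1), (8, 4), (9, 4), (10, 1), (12, 1), (13, 4), (15, 4), (18, 1), (27, 4)], [(2, 4), (5,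 4), (6, 1), (8, 1), (9, 4), (10, 3), (11, 2), (12, 3), (13, 2), (16, 4), (17, 3), (18, 3), (19, 1), (20, 1), (21, 2), (22, 3), (23, 1), (24, 2), (26, 2), (27, 4), (28, 4), (29, 3), (30, 2), (32, 4), (34, 1), (35, 4), (36, 2), (37, 2), (38, 4), (39, 1), (40, 1), (41, 3), (43, 2), (46, 4), (47, 4), (48, 4), (50, 1)], [(0, 4), (1, 2), (2, 4), (3, 1), (5, 1), (6, 3), (14, 3), (15, 1), (17, 1), (19, 1), (20, 2), (21, 4), (22, 3), (24, 4), (25, 1), (26, 1), (29, 4), (30, 1), (31, 1), (33, 2), (34, 3), (35, 1), (36, 4), (37, 1), (39, 2), (40, 1), (41, 4), (42, 4), (43, 4), (44, 3), (45, 2), (46, 4), (47, 2), (48, 4), (49, 2), (50, 3), (51, 1)], [(2, 2), (4, 3), (6, 2), (7, 1), (8, 4), (9, 1), (10, 1), (12, 3), (13, 4), (14, 4), (16, 3), (17, 4), (18, 4), (19, 1), (21, 2), (22, 2), (24, 4), (26, 2), (27, 3), (29, 2), (32, 4), (36, 2)], [(0, 4), (1, 2), (2, 4), (3, 1), (5, 1), (6,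 3), (14, 3), (15, 1), (17, 1), (19, 1), (20, 2), (21, 4), (22, 3), (24, 4), (25, 1), (26, 1), (29, 4), (30, 1), (31, 2), (33, 1), (34, 3), (35, 1), (36, 1), (37, 1), (39, 2), (40, 1), (41, 4), (42, 4), (43, 4), (44, 3), (45, 2), (46, 4), (47, 2), (48, 4), (49, 2), (50, 3), (51, 1)], [(0, 4), (1, 2), (2, 2), (4, 4), (5, 1), (6, 2), (7, 1), (8, 4), (9, 1), (10, 3), (11, 2), (12, 4), (13, 1), (14, 1), (15, 3), (16, 2), (18, 1), (19, 1), (20, 2), (21, 2), (22, 3), (23, 1), (24, 3), (25, 2), (26, 4), (27, 2), (28, 2), (29, 3), (30, 4), (31, 1), (33, 1), (34, 2), (35, 3), (36, 1), (37, 1), (39, 1), (40, 1), (42, 3), (43, 4), (44, 3), (45, 2), (46, 1), (47, 2), (48, 4), (50, 3), (51, 1)], [(0, 2), (1, 1), (2, 2), (5, 3), (6, 1), (7, 4), (8, 2), (9, 3), (10, 4), (11, 4), (13, 2), (14, 3), (16, 3), (17, 3), (18, 3), (19, 1), (20, 3), (21, 3), (22, 3), (23, 3), (24, 3), (25, 3), (26,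 1), (27, 4), (28, 2), (29, 4), (30, 3), (31, 3), (33, 3), (34, 4), (35, 4), (37, 1), (39, 3), (40, 3), (41, 3), (42, 1), (43, 2), (44, 4), (45, 1), (46, 3), (47, 1), (48, 2), (49, 4), (50, 4), (51, 3)], [(36, 1)], [(2, 1), (4, 3), (5, 1), (6, 1), (7, 3), (8, 1), (9, 3), (10, 3), (11, 3), (12, 4), (13, 4), (14, 1), (16, 1), (18, 3), (19, 1), (20, 4), (21, 1), (22, 3), (23, 2), (24, 1), (25, 3), (39, 1)], [(38, 4)], [(2, 1), (4, 3), (5, 1), (6, 1), (7, 3), (8, 1), (9, 3), (10, 3), (11, 3), (12, 4), (13, 4), (14, 1), (16, 1), (18, 3), (19, 1), (20, 4), (21, 1), (22, 3), (23, 2), (24, 1), (25, 3), (37, 1)], [(2, 1), (4, 4), (7, 1), (8, 1), (10, 4), (12, 1), (13, 1), (14, 1), (17, 1), (18, 2), (19, 4), (20, 2), (21, 4), (22, 2), (24, 4), (25, 2), (40, 4)], [(41, 4)], [(2, 2), (3, 3), (4, 3), (6, 1), (7, 3), (8, 2), (9, 2), (10, 3), (11, 4), (12, 1), (13, 3), (15, 2), (16, 3), (22,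 2), (24, 2), (26, 2), (42, 4)], [(43, 4)], [(3, 1), (4, 4), (5, 2), (6, 4), (7, 1), (8, 1), (9, 2), (10, 2), (11, 1), (12, 1), (13, 2), (14, 2), (15, 3), (16, 4), (17, 3), (18, 3), (25, 3), (30, 2), (31, 1), (32, 2), (33, 1), (37, 3), (38, 2), (39, 3), (41, 2), (42, 1), (44, 4), (45, 3), (47, 2), (51, 2)], [(0, 2), (1, 1), (2, 3), (3, 4), (4, 2), (5, 4), (6, 1), (7, 4), (10, 3), (11, 1), (15, 4), (16, 4), (17, 1), (18, 1), (19, 1), (20, 4), (21, 1), (25, 2), (26, 3), (29, 2), (30, 2), (32, 2), (34, 4), (35, 3), (36, 2), (37, 3), (38, 2), (39, 1), (40, 3), (41, 4), (42, 3), (43, 2), (44, 4), (45, 3), (46, 1), (47, 3), (48, 2), (49, 1), (50, 4)], [(2, 1), (4, 3), (5, 1), (6, 1), (7, 3), (8, 1), (9, 3), (10, 3), (11, 3), (12, 4), (13, 4), (14, 1), (16, 1), (18, 3), (19, 1), (20, 4), (21, 1), (22, 3), (23, 2), (24, 1), (25, 3), (37, 1), (39, 1), (46, 4)], [(0, 2), (1, 1), (2,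 2), (3, 3), (4, 2), (6, 1), (7, 3), (8, 1), (10, 1), (11, 2), (12, 3), (14, 4), (15, 1), (16, 2), (18, 2), (19, 3), (20, 2), (21, 1), (22, 3), (23, 4), (25, 3), (26, 2), (27, 1), (28, 4), (29, 3), (30, 2), (31, 2), (32, 2), (33, 2), (35, 2), (36, 2), (37, 4), (38, 2), (39, 1), (40, 4), (41, 3), (42, 1), (43, 4), (44, 4), (45, 3), (46, 2), (47, 2), (48, 1), (49, 1), (51, 1)], [(48, 4)], [(49, 4)], [(0, 2), (1, 1), (2, 4), (3, 2), (6, 2), (7, 3), (9, 1), (10, 2), (11, 3), (12, 4), (13, 3), (14, 2), (15, 2), (16, 4), (17, 3), (18, 4), (21, 4), (22, 3), (23, 4), (25, 1), (27, 4), (28, 4), (30, 2), (31, 2), (32, 2), (33, 2), (35, 2), (36, 4), (37, 4), (38, 2), (39, 1), (40, 4), (41, 3), (42, 1), (43, 4), (44, 4), (45, 3), (46, 2), (47, 3), (48, 1), (49, 1), (50, 4), (51, 1)], [(2, 1), (3, 4), (4, 2), (5, 2), (7, 1), (8, 3), (9, 3), (13, 4), (14, 3), (15, 3), (16, 3), (17, 1), (19,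 4), (24, 1), (30, 1), (31, 3), (32, 1), (33, 3), (37, 4), (38, 1), (42, 4), (45, 4), (47, 1)]]

/-- Columns. -/
def g37 : List ℕ := mkCols [[(0, 2), (1, 2), (2, 3), (3, 4), (7, 2), (8, 1), (11, 2), (12, 1), (13, 3), (14, 3), (15, 4), (16, 4), (17, 1), (18, 3), (20, 2), (21, 1), (22, 3), (24, 2), (25, 4), (26, 4), (28, 2), (30, 3), (31, 2), (32, 1), (33, 2), (34, 1), (35, 1), (36, 4), (37, 3), (38, 4), (40, 4), (41, 4), (42, 2), (43, 2), (44, 1), (45, 3), (46, 1), (48, 3), (49, 3), (50, 3), (51, 3)], [(0, 1), (1, 3), (2, 3), (3, 4), (7, 2), (8, 1), (11, 2), (12, 1), (13, 3), (14, 3), (15, 4), (16, 4), (17, 1), (18, 3), (20, 2), (21, 1), (22, 3), (24, 2), (25, 4), (26, 4), (28, 2), (30, 3), (31, 2), (32, 1), (33, 2), (34, 1), (35, 1), (36, 4), (37, 3), (38, 4), (40, 4), (41, 4), (42, 2), (43, 2), (44, 1), (45, 3), (46, 1), (48, 3), (49, 3), (50, 3), (51, 3)], [(2, 1), (4, 3),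 (6, 4), (8, 1), (9, 1), (10, 3), (11, 1), (12, 3), (13, 1)], [(3, 4)], [(4, 4)], [(5, 4)], [(7, 4)], [(6, 4)], [(2, 1), (3, 4), (5, 1), (6, 4), (7, 4), (8, 1), (9, 1), (10, 4), (11, 1), (12, 3), (13, 4), (14, 1), (17, 1)], [(2, 3), (3, 2), (5, 3), (6, 4), (7, 4), (9, 3), (10, 2), (11, 4), (12, 4), (13, 1), (14, 3), (17, 3)], [(10, 4)], [(7, 4), (8, 4), (9, 1), (13, 4)], [(2, 3), (3, 2), (5, 3), (6, 4), (7, 4), (9, 4), (10, 2), (11, 4), (12, 3), (13, 1), (14, 3), (17, 3)], [(2, 2), (3, 3), (5, 2), (6, 1), (8, 4), (9, 2), (10, 3), (11, 2), (12, 1), (13, 2), (14, 2), (17, 2)], [(3, 3), (4, 2), (5, 2), (6, 2), (8, 3), (9, 1), (11, 1), (12, 3), (13, 2), (14, 1), (17, 2)], [(3, 3), (4, 2), (5, 2), (6, 2), (8, 3), (9, 1), (11, 1), (12, 3), (13, 2), (14, 2), (15, 4), (17, 2)], [(3, 3), (4, 2), (5, 2), (6, 2), (8, 3), (9, 1), (11, 1), (12, 3), (13, 2), (14, 2), (16, 4), (17, 2)], [(2,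 3), (3, 2), (5, 3), (6, 4), (8, 1), (9, 3), (10, 2), (11, 3), (12, 4), (13, 2), (14, 3), (17, 2)], [(0, 3), (1, 1), (3, 1), (4, 3), (5, 1), (6, 4), (7, 3), (8, 3), (9, 3), (10, 3), (11, 2), (12, 2), (15, 4), (16, 2), (17, 2), (19, 4), (21, 4), (22, 3), (23, 3), (24, 2), (25, 4), (26, 4), (27, 2), (28, 2), (29, 2), (31, 2), (32, 4), (33, 2), (34, 3), (35, 4), (36, 2), (37, 3), (38, 4), (40, 4), (41, 2), (42, 4), (43, 2), (45, 3), (46, 1), (47, 3), (48, 1), (50, 3), (51, 3)], [(0, 3), (1, 1), (2, 4), (3, 3), (4, 2), (5, 4), (6, 2), (7, 3), (10, 4), (11, 4), (12, 1), (13, 4), (15, 4), (16, 2), (17, 2), (18, 3), (19, 1), (21, 4), (23, 3), (24, 2), (25, 2), (26, 4), (27, 2), (28, 2), (29, 2), (31, 2), (32, 4), (34, 3), (35, 4), (36, 2), (37, 3), (38, 4), (40, 4), (41, 2), (42, 4), (43, 2), (45, 3), (46, 1), (47, 3), (48, 1), (50, 3), (51, 3)], [(0, 2), (1, 4), (3, 3), (5, 4), (6,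 4), (8, 2), (9, 4), (10, 2), (11, 4), (12, 2), (13, 3), (14, 3), (15, 4), (16, 4), (18, 3), (20, 1), (21, 1), (22, 1), (23, 1), (25, 2), (26, 1), (27, 3), (28, 3), (29, 3), (30, 2), (31, 4), (32, 3), (34, 2), (35, 1), (36, 3), (37, 2), (38, 1), (40, 4), (41, 3), (42, 1), (43, 3), (44, 2), (47, 2), (48, 4), (50, 2), (51, 2)], [(0, 2), (1, 4), (2, 1), (6, 4), (7, 3), (8, 1), (9, 3), (10, 2), (11, 2), (12, 2), (13, 2), (14, 3), (15, 2), (16, 4), (18, 3), (19, 3), (20, 3), (22, 2), (23, 3), (24, 1), (26, 1), (27, 3), (28, 3), (29, 3), (30, 4), (34, 2), (35, 1), (36, 3), (37, 2), (39, 4), (40, 2), (41, 3), (42, 1), (43, 3), (44, 4), (45, 3), (46, 1), (47, 2), (48, 4), (50, 2), (51, 2)], [(0, 2), (1, 4), (2, 2), (5, 1), (6, 2), (7, 4), (8, 2), (9, 3), (10, 3), (11, 1), (12, 2), (13, 1), (14, 4), (15, 3), (16, 2), (20, 1), (21, 2), (22, 2), (23, 3), (24, 4), (25, 2), (26, 1), (27,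 3), (28, 3), (29, 3), (30, 1), (31, 1), (34, 2), (35, 1), (36, 3), (37, 2), (38, 2), (39, 1), (40, 2), (41, 3), (42, 1), (43, 3), (45, 2), (46, 4), (47, 2), (48, 4), (50, 2), (51, 2)], [(0, 4), (1, 3), (2, 1), (3, 1), (4, 4), (5, 4), (6, 4), (7, 1), (9, 4), (10, 3), (11, 4), (12, 2), (13, 1), (14, 2), (15, 3), (16, 3), (18, 1), (21, 2), (22, 2), (23, 3), (25, 4), (26, 2), (27, 1), (28, 1), (29, 1), (30, 4), (31, 3), (32, 1), (34, 4), (35, 2), (36, 1), (37, 4), (38, 2), (40, 2), (41, 1), (42, 2), (43, 1), (44, 4), (47, 4), (48, 3), (50, 4), (51, 4)], [(0, 3), (1, 1), (2, 1), (3, 3), (4, 3), (5, 1), (6, 1), (7, 2), (8, 4), (10, 3), (11, 2), (12, 1), (13, 3), (14, 4), (15, 2), (16, 4), (17, 3), (18, 1), (19, 4), (20, 4), (21, 3), (22, 2), (23, 2), (24, 1), (25, 4), (26, 4), (27, 2), (28, 2), (29, 2), (30, 4), (31, 4), (34, 3), (35, 4), (36, 2), (37, 3), (38, 4), (40, 4), (41,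 2), (42, 4), (43, 2), (45, 3), (46, 1), (47, 3), (48, 1), (50, 3), (51, 3)], [(0, 2), (1, 4), (2, 3), (3, 2), (4, 2), (5, 4), (6, 4), (7, 4), (9, 1), (10, 2), (11, 4), (12, 4), (13, 1), (14, 4), (15, 3), (16, 2), (18, 2), (19, 3), (20, 1), (21, 2), (23, 3), (24, 4), (25, 4), (26, 1), (27, 3), (28, 3), (29, 3), (30, 1), (31, 1), (33, 3), (34, 2), (35, 1), (36, 3), (37, 2), (38, 2), (39, 1), (40, 2), (41, 3), (42, 1), (43, 3), (45, 2), (46, 4), (47, 2), (48, 4), (50, 2), (51, 2)], [(2, 1), (3, 4), (4, 2), (5, 1), (6, 4), (7, 1), (9, 1), (11, 4), (12, 3), (14, 4), (16, 3), (17, 2), (18, 1), (19, 2), (20, 2), (21, 2), (23, 2), (24, 1), (25, 1), (26, 4), (27, 4), (28, 3), (38, 1), (39, 1), (40, 1), (41, 3)], [(2, 1), (3, 1), (7, 4), (8, 3), (9, 3), (11, 2), (12, 3), (14, 3), (15, 3), (16, 3), (17, 3), (19, 4), (22, 2), (24, 2), (26, 2), (27, 4), (29, 4), (30, 4), (31, 2), (32,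 1), (33, 3), (34, 2), (41, 3), (42, 2), (44, 4), (47, 4), (49, 2)], [(2, 2), (3, 1), (5, 1), (6, 4), (7, 3), (8, 4), (12, 2), (13, 3), (14, 3), (15, 1), (16, 2), (18, 3), (19, 2), (20, 3), (21, 3), (22, 4), (23, 3), (24, 2), (25, 3), (26, 4), (27, 1), (28, 1), (29, 3), (30, 3), (31, 4), (32, 2), (33, 1), (34, 4), (38, 3), (39, 3), (40, 3), (41, 3), (42, 4), (44, 3), (47, 3), (49, 4)], [(0, 2), (1, 4), (3, 1), (4, 3), (6, 1), (7, 2), (8, 1), (9, 3), (10, 3), (12, 2), (13, 3), (14, 3), (15, 3), (18, 4), (19, 2), (21, 1), (23, 2), (24, 1), (25, 1), (26, 4), (27, 2), (28, 1), (29, 3), (30, 1), (31, 1), (35, 1), (36, 3), (37, 2), (38, 1), (40, 1), (41, 3), (42, 1), (43, 3), (45, 2), (46, 4), (47, 2), (48, 4), (50, 2), (51, 2)], [(2, 1), (3, 1), (5, 2), (6, 3), (7, 2), (8, 3), (10, 3), (11, 2), (12, 2), (14, 3), (15, 2), (16, 3), (17, 1), (20, 1), (21, 1), (22, 1), (23, 1), (31,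 3), (32, 4), (33, 2)], [(31, 4)], [(32, 4)], [(2, 4), (4, 1), (6, 2), (7, 1), (8, 4), (9, 3), (10, 1), (11, 3), (12, 3), (13, 1), (14, 4), (17, 4), (18, 4), (19, 1), (22, 4), (25, 1)], [(2, 3), (3, 2), (4, 2), (5, 3), (6, 2), (7, 2), (8, 1), (9, 3), (10, 1), (11, 1), (12, 4), (16, 3), (17, 2), (19, 2), (20, 3), (21, 3), (22, 4), (23, 3), (24, 1), (26, 1), (27, 3), (28, 1), (29, 2)], [(2, 4), (3, 3), (4, 2), (6, 1), (7, 4), (9, 2), (10, 4), (11, 2), (12, 1), (13, 1), (14, 3), (15, 2), (16, 1), (17, 3), (19, 2), (20, 4), (21, 4), (23, 4), (24, 1), (26, 1), (27, 3), (28, 1), (29, 2), (30, 1), (31, 3), (32, 4), (33, 2), (34, 1), (35, 4)], [(0, 3), (1, 1), (2, 4), (3, 3), (4, 4), (5, 1), (7, 2), (8, 4), (12, 4), (14, 1), (15, 2), (16, 4), (17, 1), (19, 2), (20, 4), (22, 2), (23, 4), (24, 2), (25, 1), (26, 1), (27, 1), (28, 1), (29, 2), (30, 3), (32, 1), (34, 1), (35, 2), (36, 3),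 (37, 1), (38, 1), (40, 2), (41, 1), (42, 4), (43, 3), (44, 1), (45, 3), (46, 1), (48, 3), (49, 3), (50, 2), (51, 3)], [(2, 1), (4, 3), (6, 3), (7, 4), (8, 1), (9, 2), (10, 3), (11, 2), (12, 2), (14, 1), (16, 1), (17, 1), (18, 1), (19, 4), (24, 1), (25, 1), (37, 4), (38, 1), (39, 1), (40, 1)], [(2, 4), (3, 2), (4, 3), (5, 3), (6, 2), (7, 4), (8, 2), (12, 1), (13, 2), (14, 4), (16, 1), (17, 4), (18, 1), (19, 4), (24, 1), (25, 1), (39, 1), (40, 1)], [(39, 4)], [(6, 1), (7, 4), (40, 4)], [(2, 4), (3, 2), (4, 3), (5, 3), (6, 2), (7, 4), (8, 2), (12, 1), (13, 2), (14, 4), (16, 1), (17, 4), (18, 1), (19, 4), (24, 1), (25, 1), (38, 1), (39, 1), (40, 1), (41, 4)], [(2, 3), (3, 2), (5, 3), (7, 4), (8, 1), (9, 3), (10, 2), (11, 3), (12, 4), (13, 2), (14, 3), (17, 3), (42, 4)], [(3, 3), (4, 2), (5, 4), (6, 2), (7, 2), (8, 4), (9, 1), (10, 3), (12, 2), (14, 2), (15, 3), (16, 3), (17, 3),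 (18, 2), (19, 1), (20, 4), (23, 4), (24, 4), (25, 2), (30, 2), (31, 1), (32, 2), (33, 1), (37, 3), (38, 2), (39, 2), (41, 3), (43, 4), (44, 4), (45, 3), (46, 1), (47, 3), (48, 1), (51, 2)], [(44, 4)], [(45, 4)], [(2, 2), (3, 1), (4, 1), (5, 3), (6, 2), (7, 3), (10, 3), (11, 3), (12, 4), (14, 1), (15, 1), (16, 2), (17, 3), (19, 1), (24, 4), (30, 4), (31, 2), (32, 4), (33, 2), (44, 4), (45, 1), (46, 1)], [(47, 4)], [(0, 1), (1, 2), (2, 4), (3, 4), (4, 2), (5, 3), (7, 2), (10, 3), (12, 4), (13, 4), (14, 3), (15, 2), (16, 1), (17, 3), (18, 3), (19, 1), (21, 3), (22, 3), (23, 3), (24, 4), (26, 3), (27, 4), (28, 4), (29, 4), (30, 1), (31, 2), (32, 4), (34, 1), (35, 3), (36, 4), (37, 2), (38, 2), (39, 4), (40, 1), (42, 3), (43, 4), (47, 2), (48, 3), (50, 1)], [(2, 3), (3, 1), (4, 4), (5, 3), (7, 3), (8, 3), (9, 1), (10, 3), (11, 3), (12, 3), (16, 2), (17, 1), (18, 4), (19, 3), (20,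 3), (21, 3), (23, 3), (24, 4), (25, 4), (38, 4), (39, 4), (40, 4), (42, 2), (44, 4), (47, 4), (49, 1)], [(50, 4)], [(51, 4)]]

/-- Columns. -/
def g38 : List ℕ := mkCols [[(0, 2), (1, 2), (2, 3), (3, 3), (4, 3), (5, 1), (6, 4), (7, 3), (10, 3), (11, 4), (15, 4), (16, 2), (17, 2), (18, 1), (19, 4), (21, 4), (22, 3), (23, 3), (24, 2), (25, 4), (26, 4), (27, 3), (28, 4), (29, 2), (31, 2), (32, 4), (33, 2), (34, 3), (35, 1), (36, 2), (37, 3), (38, 4), (40, 4), (41, 4), (42, 2), (43, 2), (44, 1), (45, 3), (46, 1), (47, 3), (48, 1), (49, 3), (50, 3), (51, 3)], [(0, 1), (1, 3), (2, 3), (3, 3), (4, 3), (5, 1), (6, 4), (7, 3), (10, 3), (11, 4), (15, 4), (16, 2), (17, 2), (18, 1), (19, 4), (21, 4), (22, 3), (23, 3), (24, 2), (25, 4), (26, 4), (27, 3), (28, 4), (29, 2), (31, 2), (32, 4), (33, 2), (34, 3), (35, 1), (36, 2), (37, 3), (38, 4), (40, 4), (41, 4), (42, 2), (43, 2), (44, 1),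 (45, 3), (46, 1), (47, 3), (48, 1), (49, 3), (50, 3), (51, 3)], [(0, 2), (1, 4), (3, 4), (4, 3), (6, 1), (7, 1), (8, 2), (9, 2), (10, 2), (11, 3), (12, 3), (13, 4), (16, 3), (17, 3), (18, 4), (19, 1), (21, 1), (22, 2), (23, 2), (24, 3), (25, 1), (26, 1), (27, 3), (28, 3), (29, 3), (31, 3), (32, 1), (33, 3), (34, 2), (35, 1), (36, 3), (37, 2), (38, 1), (40, 1), (41, 3), (42, 1), (43, 3), (44, 4), (45, 2), (47, 2), (48, 4), (50, 2), (51, 2)], [(0, 2), (1, 4), (2, 4), (3, 1), (4, 2), (5, 2), (6, 2), (7, 3), (8, 3), (9, 1), (10, 4), (11, 2), (13, 1), (14, 3), (16, 3), (17, 1), (18, 1), (20, 4), (22, 4), (24, 2), (25, 3), (26, 1), (27, 3), (28, 3), (29, 3), (31, 3), (32, 1), (34, 2), (35, 1), (36, 3), (37, 2), (38, 1), (40, 1), (41, 3), (42, 1), (43, 3), (44, 4), (45, 2), (47, 2), (48, 4), (50, 2), (51, 2)], [(0, 2), (1, 4), (2, 3), (3, 4), (4, 4), (5, 4), (6, 3), (7, 1), (8, 4),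 (9, 1), (10, 4), (12, 3), (14, 1), (16, 4), (18, 4), (20, 1), (21, 2), (22, 3), (23, 2), (24, 3), (26, 1), (27, 3), (28, 3), (29, 3), (31, 3), (32, 1), (33, 3), (34, 2), (35, 1), (36, 3), (37, 3), (38, 1), (39, 4), (40, 1), (41, 3), (42, 1), (43, 3), (44, 4), (45, 2), (47, 2), (48, 4), (50, 2), (51, 2)], [(0, 3), (1, 1), (2, 4), (3, 1), (4, 1), (5, 3), (6, 3), (7, 4), (9, 1), (10, 4), (11, 4), (12, 1), (13, 3), (14, 4), (15, 2), (16, 4), (17, 3), (18, 2), (19, 3), (21, 4), (22, 3), (23, 4), (24, 3), (26, 4), (27, 2), (28, 2), (29, 2), (32, 4), (34, 3), (35, 4), (36, 2), (37, 2), (38, 4), (39, 1), (40, 4), (41, 2), (42, 4), (43, 2), (44, 1), (45, 3), (47, 3), (48, 1), (50, 3), (51, 3)], [(0, 1), (1, 2), (3, 4), (5, 3), (6, 3), (7, 1), (8, 1), (9, 3), (10, 1), (11, 3), (13, 3), (15, 2), (16, 2), (18, 4), (20, 1), (21, 3), (22, 3), (25, 1), (26, 3), (27, 4), (28, 4), (29, 4),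 (30, 1), (31, 2), (32, 4), (34, 1), (35, 3), (36, 4), (37, 1), (38, 3), (40, 1), (41, 4), (42, 3), (43, 4), (44, 1), (47, 1), (48, 2), (50, 1), (51, 1)], [(0, 1), (1, 2), (3, 4), (5, 1), (6, 1), (7, 4), (8, 1), (9, 1), (10, 1), (11, 1), (12, 2), (14, 3), (15, 2), (16, 2), (18, 4), (20, 4), (21, 3), (22, 3), (23, 1), (25, 1), (26, 3), (27, 4), (28, 4), (29, 4), (30, 1), (31, 2), (32, 4), (34, 1), (35, 3), (36, 4), (37, 1), (38, 3), (40, 3), (41, 4), (42, 3), (43, 4), (44, 1), (47, 1), (48, 2), (50, 1), (51, 1)], [(2, 4), (3, 3), (4, 3), (5, 2), (6, 4), (7, 1), (8, 1), (9, 1), (10, 1), (11, 1), (13, 1), (14, 4), (17, 4), (18, 2), (19, 3), (22, 2), (25, 3), (33, 2)], [(0, 1), (1, 2), (2, 1), (3, 4), (4, 3), (5, 2), (6, 2), (7, 1), (8, 2), (10, 4), (11, 4), (12, 1), (13, 4), (14, 4), (15, 2), (16, 3), (18, 1), (19, 1), (22, 1), (24, 1), (25, 4), (26, 3), (27, 4), (28, 4), (29,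 4), (30, 1), (31, 2), (32, 4), (34, 1), (35, 3), (36, 4), (37, 2), (38, 3), (39, 4), (40, 1), (41, 4), (42, 3), (43, 4), (44, 1), (47, 1), (48, 2), (50, 1), (51, 1)], [(0, 3), (1, 1), (2, 3), (3, 4), (4, 4), (5, 1), (6, 2), (8, 2), (9, 2), (10, 4), (12, 1), (13, 4), (14, 3), (15, 2), (16, 4), (17, 2), (18, 4), (19, 1), (21, 4), (23, 4), (24, 3), (25, 3), (26, 4), (27, 2), (28, 2), (29, 2), (32, 4), (33, 2), (34, 3), (35, 4), (36, 2), (37, 2), (38, 4), (39, 1), (40, 4), (41, 2), (42, 4), (43, 2), (44, 1), (45, 3), (47, 3), (48, 1), (50, 3), (51, 3)], [(0, 3), (1, 1), (2, 2), (3, 1), (4, 3), (5, 4), (6, 1), (8, 3), (9, 3), (10, 1), (12, 1), (13, 4), (14, 2), (15, 2), (16, 4), (17, 1), (18, 1), (21, 3), (22, 2), (23, 4), (24, 2), (26, 4), (27, 2), (28, 2), (29, 2), (32, 4), (34, 3), (35, 4), (36, 2), (37, 2), (38, 4), (39, 1), (40, 4), (41, 2), (42, 4), (43, 2), (44, 1), (45,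 3), (47, 3), (48, 1), (50, 3), (51, 3)], [(2, 2), (4, 3), (6, 3), (8, 2), (9, 2), (10, 3), (11, 2), (12, 3), (14, 2), (17, 2), (18, 2), (19, 3), (20, 3), (22, 2), (25, 3)], [(0, 2), (1, 4), (2, 4), (3, 2), (5, 2), (6, 2), (8, 4), (9, 1), (10, 2), (11, 2), (12, 2), (13, 4), (14, 4), (16, 3), (17, 2), (20, 4), (21, 2), (22, 3), (23, 3), (24, 3), (25, 1), (26, 1), (27, 3), (28, 3), (29, 3), (30, 4), (31, 3), (34, 2), (35, 1), (36, 3), (37, 2), (38, 1), (40, 1), (41, 3), (42, 1), (43, 3), (45, 3), (47, 2), (48, 4), (50, 2), (51, 2)], [(0, 3), (1, 1), (2, 4), (3, 3), (4, 1), (5, 4), (6, 3), (7, 2), (8, 4), (10, 4), (11, 2), (14, 3), (16, 3), (19, 4), (20, 3), (21, 4), (22, 3), (23, 4), (24, 2), (25, 3), (26, 4), (27, 2), (28, 2), (29, 2), (30, 1), (31, 2), (34, 3), (35, 4), (36, 2), (37, 4), (38, 4), (39, 4), (40, 2), (41, 2), (42, 4), (43, 2), (45, 2), (47, 3), (48, 1), (50, 3),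 (51, 3)], [(2, 2), (4, 3), (6, 2), (7, 4), (8, 2), (9, 3), (10, 3), (11, 3), (12, 2), (13, 4), (14, 3), (15, 4), (17, 3), (18, 3), (19, 2), (20, 3), (22, 3), (25, 2)], [(0, 3), (1, 1), (3, 1), (4, 1), (5, 3), (7, 1), (10, 4), (11, 1), (13, 4), (14, 4), (15, 2), (16, 4), (17, 4), (18, 3), (19, 2), (20, 2), (21, 3), (23, 3), (24, 2), (25, 1), (26, 4), (27, 2), (28, 2), (29, 2), (30, 1), (34, 3), (35, 4), (36, 2), (37, 3), (38, 4), (40, 4), (41, 2), (42, 4), (43, 2), (45, 2), (47, 3), (48, 1), (50, 3), (51, 3)], [(0, 2), (1, 4), (3, 2), (5, 1), (6, 4), (7, 4), (9, 3), (10, 2), (11, 1), (12, 2), (13, 1), (16, 2), (17, 3), (19, 2), (20, 1), (22, 2), (23, 4), (24, 2), (25, 1), (26, 1), (27, 3), (28, 3), (29, 3), (30, 4), (31, 3), (34, 2), (35, 1), (36, 3), (37, 1), (38, 1), (39, 1), (40, 3), (41, 3), (42, 1), (43, 3), (45, 3), (47, 2), (48, 4), (50, 2), (51, 2)], [(18, 4)], [(2,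 4), (4, 1), (6, 3), (7, 2), (8, 4), (9, 2), (10, 1), (11, 2), (12, 4), (13, 2), (14, 3), (17, 3), (18, 4), (19, 1), (20, 4), (21, 4), (22, 4), (23, 3), (24, 4)], [(2, 4), (4, 1), (7, 4), (8, 4), (10, 1), (12, 1), (13, 4)], [(21, 4)], [(2, 2), (4, 3), (6, 2), (7, 4), (8, 2), (9, 3), (10, 3), (11, 3), (13, 4), (14, 2), (17, 2), (18, 1), (19, 3), (21, 1), (24, 1)], [(23, 1)], [(2, 4), (4, 1), (7, 4), (8, 4), (10, 1), (12, 4), (13, 4), (14, 4), (17, 4), (18, 3), (19, 1), (20, 3), (21, 1), (22, 3), (25, 3)], [(2, 2), (4, 3), (6, 3), (8, 2), (9, 2), (10, 3), (11, 2), (12, 2), (14, 1), (17, 1), (19, 4), (21, 1), (24, 1)], [(0, 4), (1, 3), (2, 2), (3, 1), (4, 2), (5, 2), (6, 4), (7, 3), (8, 3), (10, 2), (13, 4), (15, 2), (17, 2), (18, 3), (19, 2), (20, 2), (22, 2), (23, 2), (25, 3), (26, 1), (27, 2), (28, 2), (29, 4), (31, 1), (32, 2), (33, 1), (34, 4), (35, 2), (36, 1), (39, 4),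 (40, 2), (41, 2), (42, 1), (43, 3), (44, 3), (45, 4), (46, 3), (48, 1), (49, 4), (50, 4), (51, 4)], [(0, 2), (1, 4), (2, 4), (3, 2), (6, 3), (7, 4), (8, 4), (9, 2), (10, 3), (11, 2), (12, 2), (13, 3), (15, 1), (16, 1), (17, 2), (18, 3), (19, 2), (21, 3), (22, 4), (23, 1), (24, 2), (25, 1), (26, 3), (27, 4), (28, 1), (31, 3), (32, 1), (33, 3), (34, 2), (35, 1), (37, 2), (38, 1), (40, 1), (41, 1), (42, 3), (43, 3), (44, 4), (45, 2), (46, 4), (48, 3), (49, 2), (50, 2), (51, 2)], [(0, 2), (1, 4), (2, 3), (3, 1), (4, 4), (5, 3), (6, 1), (8, 2), (9, 4), (10, 2), (11, 1), (13, 4), (14, 4), (15, 4), (16, 1), (17, 3), (18, 3), (19, 1), (20, 1), (21, 1), (22, 2), (23, 2), (24, 2), (25, 1), (27, 3), (29, 2), (32, 1), (33, 1), (34, 2), (35, 1), (36, 2), (37, 2), (38, 1), (40, 1), (41, 1), (42, 3), (43, 3), (44, 4), (45, 2), (46, 4), (48, 3), (49, 2), (50, 2), (51, 2)], [(0, 1), (1, 2),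 (2, 1), (3, 2), (4, 4), (5, 2), (6, 1), (7, 3), (8, 1), (10, 4), (11, 1), (13, 1), (14, 3), (15, 1), (16, 1), (17, 2), (18, 4), (20, 2), (21, 3), (22, 3), (23, 1), (24, 1), (25, 4), (26, 1), (27, 4), (28, 1), (29, 3), (30, 1), (31, 2), (32, 4), (33, 2), (34, 1), (35, 3), (36, 2), (37, 1), (40, 1), (41, 1), (42, 1), (43, 2), (44, 1), (46, 1), (47, 3), (48, 3), (49, 3), (50, 1), (51, 1)], [(30, 4)], [(3, 1), (9, 1), (12, 4), (13, 1), (15, 4), (16, 1), (17, 1)], [(2, 3), (3, 1), (4, 4), (5, 2), (6, 4), (8, 1), (9, 4), (10, 2), (11, 1), (13, 3), (15, 2), (16, 3), (17, 3), (18, 4), (19, 2), (20, 4), (21, 4), (22, 4), (23, 4), (24, 4), (31, 3), (32, 4), (33, 2)], [(2, 2), (3, 4), (4, 4), (5, 1), (6, 3), (7, 4), (8, 1), (9, 2), (10, 3), (11, 2), (12, 2), (13, 4), (14, 1), (17, 1)], [(0, 3), (1, 1), (2, 1), (3, 3), (4, 3), (6, 3), (7, 3), (8, 4), (9, 1), (10, 4), (11, 3), (12, 4),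 (15, 2), (17, 3), (18, 3), (19, 3), (20, 4), (21, 4), (22, 3), (23, 3), (24, 2), (26, 1), (27, 2), (29, 1), (30, 4), (34, 1), (35, 2), (36, 3), (37, 2), (40, 3), (41, 4), (42, 4), (44, 1), (45, 3), (46, 1), (47, 4), (48, 2), (49, 3), (50, 2), (51, 3)], [(0, 1), (1, 2), (2, 2), (3, 2), (4, 4), (6, 1), (7, 3), (9, 1), (10, 3), (11, 4), (14, 3), (15, 1), (16, 3), (17, 1), (18, 4), (19, 2), (22, 3), (23, 4), (25, 3), (27, 2), (28, 4), (30, 4), (31, 2), (32, 4), (33, 4), (37, 4), (38, 1), (39, 1), (40, 2), (41, 3), (42, 1), (44, 2), (45, 1), (46, 2), (47, 4), (48, 4), (49, 1), (51, 1)], [(2, 4), (4, 1), (6, 4), (7, 4), (11, 2), (12, 4), (13, 3), (16, 4), (18, 1), (24, 1), (26, 1), (27, 4), (29, 1)], [(37, 4)], [(2, 2), (4, 3), (7, 2), (8, 2), (10, 3), (13, 2), (14, 1), (17, 1), (18, 2), (19, 4), (20, 1), (21, 4), (22, 2), (23, 3), (24, 4), (25, 2), (38, 4)], [(39, 4)], [(2, 4),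 (4, 1), (7, 4), (8, 4), (10, 1), (12, 1), (13, 4), (20, 1), (23, 2), (40, 4)], [(2, 1), (4, 2), (5, 4), (6, 2), (7, 1), (8, 4), (9, 2), (10, 3), (11, 3), (12, 1), (13, 3), (14, 4), (15, 1), (16, 1), (17, 3), (18, 4), (19, 4), (20, 1), (21, 4), (22, 2), (23, 3), (24, 4), (25, 4), (30, 3), (31, 4), (32, 3), (33, 4), (37, 3), (38, 2), (39, 2), (41, 2), (44, 4), (45, 2), (47, 2), (51, 2)], [(0, 3), (1, 1), (2, 2), (3, 1), (4, 1), (5, 4), (6, 1), (7, 1), (8, 4), (10, 3), (12, 2), (13, 2), (14, 2), (15, 1), (16, 4), (17, 3), (18, 1), (19, 1), (20, 3), (21, 4), (24, 3), (26, 4), (27, 2), (28, 2), (29, 2), (30, 3), (31, 1), (32, 2), (33, 1), (34, 3), (35, 4), (36, 2), (38, 2), (39, 3), (40, 4), (41, 4), (42, 3), (43, 2), (44, 1), (47, 1), (48, 1), (50, 3), (51, 1)], [(2, 2), (4, 3), (7, 2), (8, 2), (10, 3), (13, 2), (14, 1), (17, 1), (18, 2), (19, 4), (20, 1), (21, 4), (22, 2), (23,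 3), (24, 4), (25, 2), (43, 4)], [(44, 4)], [(2, 4), (3, 3), (4, 1), (7, 4), (8, 4), (9, 3), (10, 1), (13, 2), (14, 1), (15, 2), (16, 3), (17, 4), (18, 2), (19, 4), (20, 4), (21, 4), (22, 2), (23, 4), (24, 4), (25, 2), (31, 3), (45, 4)], [(46, 4)], [(0, 1), (1, 2), (2, 1), (3, 4), (4, 3), (5, 1), (6, 3), (7, 2), (8, 2), (9, 4), (10, 4), (11, 4), (12, 3), (13, 4), (15, 2), (16, 3), (17, 2), (19, 4), (21, 3), (22, 3), (23, 3), (24, 1), (25, 2), (26, 3), (27, 4), (28, 4), (29, 4), (30, 1), (31, 2), (32, 4), (34, 1), (35, 3), (36, 4), (38, 4), (39, 1), (40, 3), (41, 3), (42, 3), (43, 4), (44, 2), (47, 1), (48, 2), (50, 1), (51, 2)], [(48, 4)], [(49, 4)], [(2, 1), (3, 3), (4, 4), (7, 1), (8, 1), (9, 3), (10, 4), (12, 4), (13, 4), (14, 4), (15, 2), (16, 3), (17, 2), (18, 3), (19, 1), (20, 1), (21, 1), (22, 3), (23, 1), (24, 1), (25, 3), (31, 3), (50, 4)], [(2, 1), (4, 1), (5, 4),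 (6, 4), (7, 2), (8, 4), (10, 2), (11, 1), (12, 1), (13, 1), (15, 1), (16, 2), (17, 4), (18, 3), (19, 4), (24, 1), (25, 3), (30, 3), (31, 4), (32, 3), (33, 4), (37, 2), (38, 3), (39, 3), (41, 2), (45, 2), (47, 3), (51, 2)]]

/-- Columns. -/
def g39 : List ℕ := mkCols [[(0, 2), (1, 2), (3, 1), (5, 2), (8, 4), (9, 1), (10, 1), (11, 1), (12, 3), (13, 3), (14, 3), (16, 3), (17, 4), (18, 1), (19, 4), (20, 2), (21, 4), (22, 3), (23, 2), (24, 4), (25, 1), (26, 4), (27, 2), (28, 2), (29, 2), (30, 2), (31, 3), (32, 4), (33, 3), (34, 3), (35, 4), (36, 2), (37, 3), (38, 4), (39, 2), (40, 4), (41, 2), (42, 4), (43, 2), (44, 1), (45, 3), (46, 4), (47, 3), (48, 1), (50, 3), (51, 3)], [(0, 1), (1, 3), (3, 1), (5, 2), (8, 4), (9, 1), (10, 1), (11, 1), (12, 3), (13, 3), (14, 3), (16, 3), (17, 4), (18, 1), (19, 4), (20, 2), (21, 4), (22, 3), (23, 2), (24, 4), (25, 1), (26, 4), (27, 2), (28,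 2), (29, 2), (30, 2), (31, 3), (32, 4), (33, 3), (34, 3), (35, 4), (36, 2), (37, 3), (38, 4), (39, 2), (40, 4), (41, 2), (42, 4), (43, 2), (44, 1), (45, 3), (46, 4), (47, 3), (48, 1), (50, 3), (51, 3)], [(0, 3), (1, 1), (2, 4), (3, 1), (4, 3), (5, 1), (6, 4), (7, 3), (8, 3), (9, 3), (10, 3), (11, 2), (12, 2), (15, 4), (16, 2), (17, 2), (18, 1), (19, 4), (21, 4), (22, 3), (23, 3), (24, 2), (25, 4), (26, 4), (27, 2), (28, 2), (29, 2), (31, 2), (32, 4), (33, 2), (34, 3), (35, 4), (36, 2), (37, 3), (38, 4), (40, 4), (41, 2), (42, 4), (43, 2), (44, 1), (45, 3), (46, 1), (47, 3), (48, 1), (49, 4), (50, 3), (51, 3)], [(2, 3), (3, 1), (5, 2), (7, 3), (8, 1), (9, 4), (11, 3), (12, 2), (13, 4), (14, 4), (16, 4), (17, 4), (22, 2), (24, 3), (26, 2), (27, 1), (28, 2), (29, 1), (30, 1), (34, 3), (35, 4)], [(2, 4), (3, 3), (4, 1), (5, 2), (6, 4), (7, 3), (9, 4), (11, 4), (12, 4), (13, 2),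 (14, 4), (16, 3), (17, 2), (18, 3), (19, 4), (20, 3), (21, 3), (22, 1), (23, 3), (24, 4), (25, 3), (26, 1), (27, 3), (28, 1), (37, 2), (38, 3), (39, 3), (40, 3), (42, 2)], [(0, 3), (1, 1), (2, 3), (3, 1), (6, 3), (8, 2), (10, 1), (11, 4), (12, 2), (13, 2), (14, 3), (16, 1), (20, 4), (21, 3), (22, 3), (23, 2), (25, 4), (26, 4), (27, 1), (28, 3), (29, 1), (30, 4), (31, 2), (32, 4), (33, 2), (34, 3), (36, 2), (37, 2), (38, 4), (40, 4), (41, 3), (42, 3), (43, 2), (44, 1), (45, 3), (46, 1), (47, 3), (48, 1), (49, 4), (50, 3), (51, 3)], [(0, 3), (1, 1), (2, 4), (3, 4), (4, 1), (5, 4), (6, 2), (7, 1), (10, 2), (11, 1), (12, 1), (13, 1), (15, 4), (16, 2), (17, 1), (18, 1), (19, 4), (21, 4), (23, 3), (24, 3), (25, 4), (26, 1), (27, 1), (29, 1), (30, 4), (31, 2), (32, 4), (33, 2), (36, 2), (37, 2), (38, 4), (40, 4), (41, 3), (42, 3), (43, 2), (44, 1), (45, 3), (46, 1), (47, 3), (48,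 1), (49, 4), (50, 3), (51, 3)], [(0, 2), (1, 4), (2, 4), (3, 4), (4, 2), (5, 4), (6, 4), (7, 3), (9, 2), (10, 2), (12, 2), (13, 4), (14, 3), (15, 1), (16, 4), (17, 4), (21, 1), (22, 4), (23, 2), (25, 2), (26, 3), (27, 1), (28, 4), (29, 2), (30, 4), (31, 3), (32, 1), (33, 3), (34, 4), (35, 2), (36, 3), (37, 1), (38, 2), (39, 1), (40, 2), (41, 2), (42, 2), (43, 3), (45, 2), (46, 4), (47, 1), (48, 4), (49, 1), (50, 2), (51, 2)], [(0, 2), (1, 4), (2, 3), (3, 1), (4, 2), (5, 1), (6, 1), (8, 2), (9, 1), (10, 2), (11, 1), (13, 4), (14, 4), (15, 1), (16, 2), (17, 2), (18, 4), (19, 1), (21, 1), (22, 4), (23, 2), (24, 1), (25, 1), (26, 3), (27, 4), (29, 4), (30, 1), (31, 3), (32, 1), (33, 3), (36, 3), (37, 2), (38, 1), (40, 1), (41, 3), (42, 1), (43, 3), (44, 4), (45, 2), (46, 4), (47, 2), (48, 4), (49, 1), (50, 2), (51, 2)], [(2, 4), (4, 3), (5, 3), (6, 4), (7, 3), (8, 1), (9, 3),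 (10, 3), (11, 3), (12, 3), (13, 1), (14, 2), (15, 2), (16, 3), (17, 2), (18, 1), (19, 4), (20, 1), (21, 1), (23, 1), (24, 1), (28, 2), (34, 3)], [(2, 1), (3, 1), (4, 2), (5, 4), (6, 1), (7, 2), (8, 2), (9, 3), (10, 2), (11, 1), (12, 2), (13, 4), (14, 2), (18, 1), (19, 4), (22, 2), (24, 2), (25, 1), (26, 2), (27, 1), (28, 2), (29, 4), (30, 4), (34, 2), (35, 1), (37, 3), (38, 1), (39, 1), (40, 1), (44, 1), (47, 4)], [(0, 2), (1, 4), (2, 3), (3, 2), (4, 2), (5, 2), (6, 4), (8, 3), (9, 1), (10, 2), (11, 3), (12, 1), (13, 3), (14, 4), (15, 2), (16, 2), (18, 2), (19, 3), (20, 3), (21, 4), (22, 1), (24, 2), (25, 1), (26, 2), (27, 2), (28, 2), (31, 3), (32, 1), (33, 3), (34, 3), (35, 1), (36, 3), (37, 2), (38, 1), (40, 1), (42, 2), (43, 3), (44, 2), (45, 2), (46, 4), (47, 4), (48, 4), (49, 1), (50, 2), (51, 2)], [(0, 1), (1, 2), (2, 4), (3, 1), (6, 1), (7, 4), (8, 1), (9, 1), (11,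 3), (12, 1), (13, 3), (14, 2), (15, 1), (16, 1), (17, 4), (18, 1), (19, 3), (21, 3), (22, 3), (23, 1), (24, 3), (25, 3), (26, 1), (27, 1), (28, 1), (29, 2), (30, 2), (31, 4), (32, 3), (33, 4), (34, 3), (35, 1), (36, 4), (37, 2), (38, 3), (40, 3), (43, 4), (45, 1), (46, 2), (47, 3), (48, 2), (49, 3), (50, 1), (51, 1)], [(0, 1), (1, 2), (2, 4), (4, 3), (5, 2), (6, 1), (7, 3), (8, 1), (9, 4), (10, 3), (11, 1), (14, 1), (15, 1), (16, 1), (17, 3), (20, 4), (21, 2), (22, 2), (24, 3), (25, 2), (26, 4), (28, 4), (29, 4), (31, 4), (32, 3), (33, 4), (34, 4), (35, 3), (36, 4), (37, 2), (38, 2), (39, 4), (40, 2), (42, 2), (43, 4), (44, 1), (45, 1), (46, 2), (47, 2), (48, 2), (49, 3), (50, 1), (51, 1)], [(3, 1), (4, 2), (5, 1), (8, 4), (9, 3), (10, 2), (11, 4), (13, 2), (14, 3), (15, 2), (16, 2), (24, 1), (27, 4), (28, 3), (29, 1), (30, 1), (34, 3), (35, 4)], [(2, 4), (4, 2), (5, 2), (6,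 2), (7, 1), (8, 1), (9, 3), (10, 1), (11, 2), (12, 4), (13, 4), (14, 3), (15, 2), (16, 4), (18, 3), (19, 4), (20, 3), (21, 3), (22, 3), (23, 3), (24, 1), (25, 3), (26, 3), (27, 3), (28, 1), (37, 1), (38, 3), (39, 3), (40, 3), (41, 1), (42, 1)], [(0, 3), (1, 1), (2, 1), (3, 1), (4, 2), (5, 4), (6, 3), (7, 4), (8, 3), (9, 3), (10, 1), (11, 1), (12, 2), (14, 4), (15, 2), (16, 2), (17, 3), (18, 4), (19, 2), (20, 3), (21, 2), (23, 1), (24, 3), (25, 3), (26, 2), (27, 4), (28, 4), (29, 3), (31, 2), (32, 4), (33, 2), (34, 3), (35, 4), (36, 2), (37, 4), (38, 3), (39, 4), (40, 3), (41, 3), (42, 3), (43, 2), (45, 3), (46, 1), (47, 4), (48, 1), (49, 4), (50, 3), (51, 3)], [(2, 1), (4, 2), (5, 2), (6, 1), (7, 2), (8, 4), (9, 2), (10, 2), (11, 2), (12, 2), (13, 4), (14, 3), (15, 3), (16, 2), (17, 3), (18, 4), (19, 1), (20, 4), (21, 4), (23, 4), (24, 4), (28, 3), (34, 3)], [(3, 3), (5, 2),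 (6, 4), (7, 3), (8, 2), (10, 1), (11, 3), (12, 4), (13, 4), (14, 4), (16, 1), (17, 2), (19, 3), (20, 2), (21, 2), (23, 2), (26, 4), (27, 3), (28, 3), (29, 4)], [(0, 3), (1, 1), (2, 2), (3, 1), (4, 2), (5, 4), (7, 4), (8, 2), (9, 4), (10, 2), (11, 3), (12, 1), (13, 1), (15, 2), (16, 1), (17, 3), (19, 1), (20, 2), (21, 2), (22, 2), (23, 4), (24, 3), (25, 2), (26, 2), (27, 3), (28, 3), (29, 1), (30, 1), (34, 3), (35, 4), (37, 2), (40, 3), (41, 4), (42, 4), (44, 1), (45, 2), (47, 4), (48, 2), (49, 4), (50, 3), (51, 3)], [(0, 3), (1, 1), (2, 1), (4, 3), (5, 1), (6, 3), (8, 1), (9, 1), (10, 1), (12, 4), (13, 3), (14, 4), (15, 2), (16, 2), (17, 1), (18, 2), (19, 1), (20, 2), (21, 1), (22, 3), (23, 2), (24, 3), (26, 4), (27, 1), (28, 2), (29, 1), (34, 2), (36, 3), (37, 3), (40, 3), (41, 3), (42, 3), (43, 2), (44, 1), (45, 2), (47, 4), (48, 2), (49, 4), (50, 3), (51, 3)], [(2, 2),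 (3, 4), (4, 3), (5, 1), (6, 1), (7, 1), (10, 2), (11, 4), (13, 3), (17, 2), (18, 4), (19, 1), (20, 1), (21, 2), (23, 1), (24, 3), (25, 3), (26, 1), (27, 2), (28, 2), (29, 1), (38, 3), (39, 3), (40, 3), (41, 2), (42, 2), (43, 3)], [(2, 2), (3, 4), (4, 3), (7, 1), (8, 1), (10, 4), (11, 4), (13, 2), (15, 1), (18, 4), (24, 4), (27, 1), (29, 4)], [(6, 4), (7, 1), (8, 2), (9, 4), (10, 3), (11, 3), (12, 4), (13, 4), (14, 2), (16, 3), (17, 2), (18, 2), (19, 3), (20, 2), (21, 2), (23, 4), (24, 4), (25, 2), (26, 2), (27, 3), (29, 2), (36, 2)], [(2, 3), (3, 2), (4, 2), (6, 4), (7, 2), (8, 3), (9, 3), (10, 2), (11, 1), (12, 4), (13, 2), (15, 3), (16, 2), (22, 3), (24, 2), (26, 3)], [(0, 2), (1, 4), (2, 2), (3, 1), (4, 1), (5, 2), (8, 2), (9, 3), (10, 4), (11, 3), (12, 2), (13, 1), (14, 3), (15, 1), (16, 2), (17, 3), (18, 3), (19, 1), (20, 4), (22, 2), (23, 3), (24, 3), (25, 4), (26, 3),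 (27, 4), (28, 1), (29, 4), (30, 4), (31, 3), (32, 1), (33, 3), (34, 1), (35, 2), (36, 1), (37, 1), (38, 2), (39, 1), (40, 2), (41, 2), (42, 2), (43, 3), (45, 2), (46, 4), (47, 1), (48, 4), (49, 1), (50, 2), (51, 2)], [(2, 3), (3, 2), (4, 2), (6, 4), (7, 2), (8, 3), (9, 3), (10, 2), (11, 1), (12, 4), (13, 2), (15, 3), (16, 2), (22, 3), (24, 3), (26, 2)], [(2, 3), (3, 1), (4, 3), (5, 1), (7, 3), (8, 2), (9, 1), (10, 3), (11, 4), (12, 2), (13, 2), (15, 3), (16, 2), (17, 4), (22, 2), (24, 2), (26, 2), (27, 1), (28, 4)], [(28, 4)], [(2, 2), (3, 3), (4, 3), (6, 1), (7, 3), (8, 2), (9, 2), (10, 3), (11, 4), (12, 1), (13, 3), (15, 2), (16, 3), (22, 2), (24, 2), (26, 2), (29, 4)], [(0, 3), (1, 1), (3, 1), (4, 3), (5, 1), (6, 4), (7, 3), (8, 3), (9, 3), (10, 3), (11, 2), (12, 2), (15, 4), (16, 2), (17, 2), (18, 1), (19, 4), (21, 4), (22, 3), (23, 3), (24, 2), (25, 4), (26, 4), (27,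 2), (28, 2), (29, 2), (30, 4), (31, 2), (32, 4), (33, 2), (34, 3), (35, 4), (36, 2), (37, 3), (38, 4), (40, 4), (41, 2), (42, 4), (43, 2), (44, 1), (45, 3), (46, 1), (47, 3), (48, 1), (49, 4), (50, 3), (51, 3)], [(0, 3), (1, 1), (2, 2), (3, 2), (4, 3), (5, 2), (6, 1), (8, 2), (10, 3), (11, 4), (12, 2), (14, 4), (16, 3), (17, 4), (18, 3), (19, 2), (22, 3), (24, 3), (27, 4), (28, 4), (29, 1), (31, 2), (33, 3), (34, 2), (35, 1), (36, 2), (37, 2), (40, 3), (41, 4), (42, 4), (44, 1), (45, 3), (47, 4), (48, 2), (49, 4), (50, 2), (51, 3)], [(0, 3), (1, 1), (2, 2), (3, 1), (4, 2), (5, 4), (6, 4), (8, 4), (9, 3), (11, 1), (14, 2), (15, 2), (16, 4), (18, 2), (20, 4), (21, 4), (22, 2), (23, 4), (24, 2), (25, 4), (26, 4), (27, 1), (28, 3), (29, 3), (30, 1), (32, 4), (34, 3), (35, 4), (36, 2), (37, 2), (40, 3), (41, 4), (42, 4), (44, 1), (45, 2), (47, 4), (48, 2), (49, 4), (50, 3), (51,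 3)], [(0, 3), (1, 1), (2, 3), (3, 2), (4, 2), (5, 2), (8, 3), (9, 1), (10, 2), (12, 1), (16, 3), (18, 3), (19, 1), (20, 1), (21, 1), (22, 3), (24, 3), (25, 1), (27, 4), (28, 4), (29, 1), (31, 3), (33, 2), (34, 2), (35, 1), (36, 3), (37, 2), (40, 3), (41, 4), (42, 4), (44, 1), (45, 3), (47, 4), (48, 2), (49, 4), (50, 2), (51, 3)], [(9, 1), (17, 1)], [(2, 2), (3, 2), (4, 1), (5, 4), (6, 1), (7, 3), (8, 3), (9, 4), (10, 1), (12, 1), (13, 1), (14, 1), (16, 1), (22, 2), (24, 1), (26, 2), (27, 1), (28, 2), (29, 4), (30, 4), (34, 2)], [(2, 1), (4, 4), (6, 4), (8, 1), (9, 1), (10, 4), (11, 1), (12, 4), (14, 1), (17, 1), (19, 4), (20, 1), (21, 1), (25, 1)], [(0, 3), (1, 1), (3, 1), (4, 3), (5, 1), (6, 4), (7, 3), (8, 3), (9, 3), (10, 3), (11, 2), (12, 2), (15, 4), (16, 2), (17, 2), (18, 1), (19, 4), (21, 4), (22, 3), (23, 3), (24, 2), (25, 4), (26, 4), (27, 2), (28, 2), (29, 2), (31,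 2), (32, 4), (33, 2), (34, 3), (35, 4), (36, 2), (37, 2), (38, 4), (40, 4), (41, 2), (42, 4), (43, 2), (44, 1), (45, 3), (46, 1), (47, 3), (48, 1), (49, 4), (50, 3), (51, 3)], [(2, 4), (4, 3), (5, 4), (6, 4), (7, 1), (8, 1), (9, 1), (12, 3), (13, 4), (15, 4), (16, 4), (17, 3), (18, 3), (19, 4), (22, 2), (24, 3), (25, 3), (26, 2), (27, 2), (28, 4), (30, 3), (31, 4), (32, 3), (33, 4), (37, 1), (38, 3), (39, 3), (40, 1), (41, 2), (44, 1), (45, 2), (47, 2), (51, 3)], [(0, 3), (1, 1), (2, 1), (3, 4), (5, 2), (6, 3), (7, 2), (8, 2), (9, 2), (10, 4), (11, 3), (12, 2), (14, 4), (15, 4), (16, 1), (18, 2), (19, 1), (20, 4), (21, 4), (22, 3), (23, 4), (24, 2), (25, 4), (27, 4), (28, 4), (29, 3), (31, 2), (32, 4), (33, 2), (34, 3), (35, 4), (36, 2), (37, 4), (38, 3), (39, 4), (40, 2), (41, 4), (45, 3), (47, 4), (48, 2), (49, 4), (50, 3), (51, 2)], [(0, 3), (1, 1), (2, 4), (3, 2), (4,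 4), (5, 3), (6, 1), (7, 2), (8, 2), (9, 2), (10, 1), (11, 1), (13, 4), (14, 3), (16, 4), (18, 3), (19, 4), (21, 4), (22, 3), (23, 3), (24, 2), (25, 1), (26, 4), (28, 3), (29, 2), (30, 3), (31, 1), (32, 2), (33, 1), (34, 3), (35, 4), (36, 2), (38, 2), (39, 2), (40, 3), (42, 3), (43, 2), (44, 1), (46, 1), (47, 1), (48, 1), (49, 4), (50, 3), (51, 1)], [(2, 3), (3, 1), (4, 3), (5, 1), (7, 3), (8, 2), (9, 1), (10, 3), (11, 4), (12, 2), (13, 2), (15, 3), (16, 2), (17, 4), (22, 2), (24, 2), (26, 2), (27, 2), (28, 4), (41, 4)], [(2, 2), (3, 3), (4, 3), (6, 1), (7, 3), (8, 2), (9, 2), (10, 3), (11, 4), (12, 1), (13, 3), (15, 2), (16, 3), (22, 2), (24, 2), (26, 2), (42, 4)], [(2, 3), (3, 1), (4, 3), (5, 1), (7, 3), (8, 2), (9, 1), (10, 3), (11, 4), (12, 2), (13, 2), (15, 3), (16, 2), (17, 4), (22, 2), (24, 2), (26, 2), (27, 2), (28, 4), (43, 4)], [(2, 3), (3, 1), (4, 4), (5, 3), (7,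 3), (8, 3), (9, 1), (10, 3), (11, 3), (12, 3), (16, 2), (17, 1), (18, 4), (19, 3), (20, 3), (21, 3), (23, 3), (24, 4), (25, 4), (38, 4), (39, 4), (40, 4), (42, 2), (47, 4)], [(0, 3), (1, 1), (3, 4), (4, 3), (5, 4), (6, 1), (7, 3), (8, 3), (9, 4), (10, 3), (11, 2), (12, 4), (13, 4), (14, 3), (16, 2), (17, 3), (18, 3), (19, 2), (24, 1), (26, 2), (28, 1), (29, 2), (30, 1), (31, 3), (33, 3), (36, 2), (37, 2), (40, 3), (41, 4), (42, 4), (44, 1), (45, 2), (47, 4), (48, 2), (49, 4), (50, 2), (51, 3)], [(0, 3), (1, 1), (3, 1), (4, 3), (5, 1), (6, 4), (7, 3), (8, 3), (9, 3), (10, 3), (11, 2), (12, 2), (15, 4), (16, 2), (17, 2), (18, 1), (19, 4), (21, 4), (22, 3), (23, 3), (24, 2), (25, 4), (26, 4), (27, 2), (28, 2), (29, 2), (31, 2), (32, 4), (33, 2), (34, 3), (35, 4), (36, 2), (37, 3), (38, 4), (40, 4), (41, 2), (42, 4), (43, 2), (44, 1), (45, 3), (47, 3), (48, 1), (49, 4), (50, 3),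 (51, 3)], [(2, 2), (3, 2), (4, 1), (5, 4), (6, 1), (7, 3), (8, 3), (9, 4), (10, 1), (12, 1), (13, 1), (14, 1), (16, 1), (22, 2), (24, 1), (26, 2), (27, 1), (28, 2), (29, 4), (30, 4), (34, 2), (35, 1), (47, 4)], [(2, 3), (3, 2), (4, 4), (5, 1), (7, 2), (9, 3), (11, 3), (12, 4), (14, 3), (15, 3), (16, 3), (17, 2), (18, 4), (19, 4), (21, 4), (23, 4), (24, 1), (25, 4), (26, 2), (27, 4), (28, 4), (29, 1), (31, 3), (32, 1), (33, 3), (34, 4), (35, 1), (36, 3), (37, 4), (38, 2), (39, 1), (44, 1), (45, 4), (46, 4)], [(49, 4)], [(2, 2), (3, 3), (5, 3), (7, 2), (8, 4), (9, 1), (11, 2), (12, 3), (13, 1), (14, 1), (16, 1), (17, 1), (22, 3), (24, 2), (26, 3), (27, 4), (28, 3), (29, 4), (30, 4), (34, 2), (35, 1), (50, 4)], [(3, 4), (4, 1), (5, 3), (6, 1), (7, 4), (8, 4), (9, 3), (10, 3), (11, 4), (12, 4), (13, 3), (14, 3), (15, 2), (16, 1), (17, 2), (18, 2), (25, 2), (30, 3), (31, 4), (32,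 3), (33, 4), (37, 2), (38, 3), (39, 2), (41, 3), (42, 4), (45, 2), (47, 3), (51, 2)]]

/-- Columns. -/
def g40 : List ℕ := mkCols [[(0, 2), (1, 3), (2, 2), (3, 1), (5, 4), (6, 4), (7, 1), (8, 1), (9, 2), (10, 2), (11, 1), (12, 3), (13, 3), (14, 2), (16, 1), (18, 2), (20, 2), (22, 2), (24, 1), (26, 3), (28, 1), (29, 3), (30, 1), (31, 2), (32, 1), (33, 2), (35, 3), (36, 3), (37, 3), (38, 2), (39, 2), (40, 2), (41, 4), (42, 4), (44, 1), (45, 4), (46, 3), (48, 4), (49, 4), (51, 2)], [(0, 4), (1, 3), (2, 3), (3, 4), (5, 1), (6, 1), (7, 4), (8, 4), (9, 3), (10, 3), (11, 4), (12, 2), (13, 2), (14, 3), (16, 4), (18, 3), (20, 3), (22, 3), (24, 4), (26, 2), (28, 4), (29, 2), (30, 4), (31, 3), (32, 4), (33, 3), (35, 2), (36, 2), (37, 2), (38, 3), (39, 3), (40, 3), (41, 1), (42, 1), (44, 4), (45, 1), (46, 2), (48, 1), (49, 1), (51, 3)], [(2, 3), (3, 4), (4, 1), (5, 1), (6, 2), (7, 2),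 (8, 2), (9, 3), (10, 4), (11, 4), (12, 1), (13, 1), (14, 2), (16, 1), (17, 1), (18, 2), (19, 2), (20, 1), (21, 1), (23, 1), (24, 2), (25, 3), (26, 2), (27, 1), (28, 2), (29, 4), (33, 3), (34, 2)], [(2, 1), (3, 4), (4, 3), (5, 4), (6, 2), (7, 2), (8, 3), (9, 1), (11, 2), (12, 2), (13, 2), (14, 4), (15, 2), (16, 2), (17, 3), (19, 2), (20, 4), (21, 4), (22, 2), (23, 4), (24, 2), (26, 3), (27, 4), (28, 3), (29, 1), (31, 3), (32, 4), (33, 2), (34, 3), (35, 4)], [(2, 4), (3, 4), (4, 2), (5, 1), (6, 4), (7, 3), (8, 3), (9, 2), (10, 2), (11, 4), (12, 3), (13, 1), (14, 3), (18, 4), (19, 1), (22, 3), (24, 3), (25, 4), (26, 3), (27, 4), (28, 3), (29, 1), (30, 1), (34, 3), (35, 4), (37, 2), (38, 4), (39, 4), (40, 4), (44, 4), (47, 1)], [(2, 2), (3, 4), (4, 1), (5, 4), (6, 2), (8, 4), (9, 4), (10, 1), (12, 2), (13, 4), (15, 3), (16, 2), (18, 3), (19, 2), (24, 2), (25, 3), (26, 2), (27,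 1), (28, 2), (29, 4), (30, 4), (31, 2), (34, 2), (35, 1), (38, 4), (39, 1), (40, 1), (45, 1), (47, 4)], [(0, 4), (1, 2), (2, 2), (5, 3), (8, 3), (9, 3), (10, 1), (11, 1), (12, 1), (13, 1), (14, 4), (15, 4), (16, 4), (17, 4), (18, 2), (19, 2), (21, 3), (22, 3), (23, 4), (24, 2), (26, 4), (27, 4), (28, 3), (29, 2), (30, 1), (31, 3), (33, 2), (34, 3), (35, 2), (36, 4), (37, 2), (38, 4), (39, 2), (40, 2), (41, 2), (42, 4), (43, 1), (44, 3), (45, 2), (46, 4), (47, 4), (48, 2), (49, 2), (50, 4), (51, 1)], [(0, 1), (1, 3), (2, 2), (3, 4), (4, 4), (5, 4), (7, 1), (8, 4), (10, 4), (11, 2), (12, 3), (13, 2), (14, 2), (15, 2), (16, 4), (18, 3), (19, 4), (20, 2), (21, 4), (22, 2), (23, 3), (24, 1), (26, 4), (29, 4), (30, 2), (31, 1), (32, 2), (33, 4), (35, 2), (36, 1), (37, 3), (38, 1), (39, 3), (40, 3), (41, 3), (42, 1), (43, 4), (44, 2), (45, 3), (46, 1), (47, 4), (48, 3), (49, 3),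 (50, 1), (51, 4)], [(2, 1), (3, 1), (4, 1), (5, 1), (6, 2), (7, 2), (11, 3), (12, 2), (13, 4), (14, 3), (15, 3), (16, 2), (18, 3), (19, 2), (20, 4), (21, 4), (22, 2), (23, 4), (25, 2), (30, 4), (31, 2), (32, 1)], [(0, 2), (1, 1), (2, 3), (3, 2), (4, 4), (5, 2), (6, 4), (7, 2), (8, 3), (9, 3), (12, 1), (13, 2), (14, 4), (15, 2), (16, 2), (18, 4), (20, 3), (21, 2), (22, 3), (24, 2), (25, 1), (27, 1), (28, 2), (29, 2), (30, 4), (31, 4), (34, 2), (35, 1), (36, 2), (37, 2), (38, 2), (41, 1), (42, 2), (43, 3), (44, 1), (45, 3), (46, 2), (47, 2), (48, 1), (49, 1), (50, 2), (51, 3)], [(2, 1), (3, 1), (4, 2), (5, 4), (6, 1), (7, 2), (8, 2), (9, 3), (10, 2), (11, 1), (12, 2), (13, 4), (14, 2), (18, 1), (19, 4), (22, 2), (24, 2), (25, 1), (26, 2), (27, 1), (28, 2), (29, 4), (30, 4), (34, 2), (35, 1), (37, 3), (38, 1), (39, 1), (40, 1), (44, 1), (47, 4)], [(0, 4), (1, 2), (2, 4), (5,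 3), (6, 3), (7, 1), (8, 1), (9, 1), (10, 3), (11, 1), (12, 1), (13, 2), (15, 3), (16, 1), (18, 4), (19, 4), (20, 3), (21, 1), (22, 3), (23, 2), (24, 1), (25, 3), (26, 3), (27, 1), (28, 2), (30, 3), (31, 4), (32, 3), (33, 4), (34, 2), (36, 4), (37, 2), (38, 3), (39, 3), (40, 3), (41, 2), (42, 4), (43, 1), (44, 3), (45, 3), (46, 4), (48, 2), (49, 2), (50, 4), (51, 1)], [(0, 2), (1, 1), (2, 4), (4, 4), (5, 1), (6, 3), (7, 2), (8, 1), (9, 2), (10, 2), (12, 1), (13, 3), (15, 4), (16, 2), (17, 2), (18, 4), (19, 3), (20, 1), (22, 3), (23, 3), (24, 3), (25, 1), (26, 1), (27, 4), (28, 3), (29, 4), (31, 2), (32, 4), (33, 2), (34, 3), (35, 4), (36, 2), (37, 2), (38, 1), (39, 1), (40, 1), (41, 1), (42, 2), (43, 3), (44, 1), (45, 4), (46, 2), (47, 3), (48, 1), (49, 1), (50, 2), (51, 3)], [(0, 2), (1, 1), (2, 2), (3, 2), (4, 3), (5, 4), (6, 3), (7, 4), (9, 2), (10, 2), (11, 1), (12, 1),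 (13, 3), (14, 2), (15, 4), (16, 3), (17, 3), (18, 4), (19, 2), (20, 2), (21, 1), (22, 1), (23, 4), (25, 1), (26, 3), (29, 3), (31, 2), (32, 4), (33, 2), (35, 4), (36, 2), (37, 2), (38, 1), (39, 1), (40, 1), (41, 1), (42, 2), (43, 3), (44, 1), (45, 4), (46, 2), (47, 3), (48, 1), (49, 1), (50, 2), (51, 3)], [(0, 2), (1, 1), (2, 4), (3, 1), (4, 2), (6, 1), (7, 3), (8, 1), (10, 1), (11, 2), (12, 3), (13, 3), (14, 3), (15, 4), (16, 4), (17, 4), (18, 4), (19, 1), (20, 2), (21, 1), (22, 1), (23, 4), (26, 3), (29, 3), (31, 2), (33, 2), (36, 2), (37, 2), (38, 2), (41, 1), (42, 2), (43, 3), (44, 1), (45, 3), (46, 2), (47, 2), (48, 1), (49, 1), (50, 2), (51, 3)], [(0, 2), (1, 1), (2, 2), (3, 2), (5, 1), (6, 4), (7, 3), (9, 1), (10, 3), (11, 4), (12, 3), (13, 4), (14, 4), (15, 3), (16, 2), (17, 1), (19, 3), (20, 1), (22, 3), (23, 3), (24, 2), (25, 1), (26, 1), (27, 4), (28, 3), (29, 4),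 (30, 4), (31, 2), (32, 3), (33, 1), (34, 3), (35, 4), (36, 2), (37, 2), (38, 1), (39, 1), (40, 1), (41, 1), (42, 2), (43, 3), (44, 1), (45, 4), (46, 2), (47, 3), (48, 1), (49, 1), (50, 2), (51, 3)], [(0, 2), (1, 1), (4, 3), (5, 2), (6, 2), (8, 1), (9, 3), (10, 4), (11, 2), (12, 1), (13, 4), (14, 1), (15, 4), (16, 2), (17, 2), (18, 2), (20, 1), (22, 3), (23, 3), (24, 4), (25, 3), (26, 3), (29, 3), (30, 4), (31, 2), (32, 4), (33, 4), (36, 2), (37, 2), (38, 1), (39, 1), (40, 1), (41, 1), (42, 2), (43, 3), (44, 1), (45, 4), (46, 2), (47, 3), (48, 1), (49, 1), (50, 2), (51, 3)], [(0, 3), (1, 4), (2, 4), (3, 1), (4, 2), (6, 1), (7, 1), (8, 3), (9, 1), (11, 4), (13, 2), (14, 4), (15, 3), (16, 2), (17, 3), (18, 1), (19, 1), (20, 1), (21, 2), (22, 4), (23, 4), (24, 1), (25, 4), (26, 3), (27, 3), (28, 1), (29, 4), (30, 1), (31, 1), (34, 1), (35, 4), (36, 3), (37, 3), (38, 3), (41, 4),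 (42, 3), (43, 2), (44, 4), (45, 2), (46, 3), (47, 3), (48, 4), (49, 4), (50, 3), (51, 2)], [(3, 4), (5, 2), (6, 2), (7, 4), (10, 3), (11, 3), (12, 1), (13, 3), (14, 1), (16, 4), (17, 4), (18, 2), (19, 1), (20, 4), (21, 4), (23, 1), (24, 4), (25, 3), (26, 2), (27, 4), (28, 4), (29, 1), (30, 4), (34, 4), (35, 1), (36, 3)], [(2, 4), (3, 3), (4, 1), (6, 1), (7, 3), (8, 2), (9, 4), (10, 3), (11, 2), (12, 1), (13, 3), (14, 4), (15, 2), (17, 2), (20, 2), (21, 2), (22, 2), (23, 4), (26, 3), (27, 2), (29, 3), (31, 3), (36, 3)], [(0, 4), (1, 2), (2, 4), (3, 4), (4, 1), (5, 2), (6, 3), (7, 3), (8, 2), (10, 4), (11, 1), (13, 3), (15, 1), (16, 2), (17, 1), (18, 4), (21, 4), (22, 3), (24, 3), (27, 4), (28, 2), (29, 2), (31, 1), (32, 1), (33, 4), (34, 2), (35, 2), (36, 1), (37, 2), (38, 4), (39, 2), (40, 2), (41, 2), (42, 4), (43, 1), (44, 3), (45, 2), (46, 4), (47, 1), (48, 4), (49, 2),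 (50, 4), (51, 1)], [(2, 2), (3, 3), (4, 1), (5, 4), (7, 3), (9, 2), (11, 2), (12, 1), (14, 2), (15, 2), (16, 2), (17, 3), (18, 1), (19, 1), (23, 1), (24, 4), (25, 1), (26, 3), (27, 1), (28, 1), (29, 4), (31, 2), (32, 4), (33, 2), (34, 1), (35, 4), (36, 2), (37, 1), (38, 3), (39, 4), (44, 4), (45, 1), (46, 1), (48, 4)], [(0, 1), (1, 3), (3, 4), (4, 2), (5, 1), (6, 1), (7, 4), (8, 3), (11, 1), (12, 1), (14, 1), (16, 4), (17, 4), (18, 3), (19, 4), (20, 1), (21, 2), (24, 4), (25, 1), (26, 2), (27, 1), (28, 1), (29, 3), (31, 4), (32, 1), (33, 4), (34, 1), (36, 3), (37, 4), (38, 1), (39, 4), (40, 3), (41, 3), (42, 1), (43, 4), (44, 2), (45, 3), (47, 4), (48, 2), (49, 3), (50, 1), (51, 4)], [(2, 2), (3, 4), (4, 1), (5, 3), (7, 3), (8, 3), (9, 3), (10, 4), (11, 4), (13, 1), (14, 3), (15, 3), (16, 3), (18, 4), (24, 4), (26, 4), (27, 1), (29, 4), (31, 2), (33, 3), (36, 4)], [(0, 3),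 (1, 4), (2, 3), (3, 4), (4, 2), (5, 2), (6, 1), (7, 4), (8, 2), (9, 3), (10, 3), (11, 4), (12, 1), (13, 2), (14, 2), (15, 4), (16, 2), (17, 2), (18, 3), (19, 4), (20, 2), (21, 3), (22, 3), (23, 2), (24, 3), (25, 1), (26, 2), (27, 3), (28, 2), (29, 4), (30, 1), (32, 2), (33, 1), (34, 2), (35, 1), (36, 1), (38, 2), (39, 4), (40, 4), (41, 4), (42, 3), (43, 2), (44, 3), (45, 2), (46, 3), (47, 2), (48, 4), (49, 4), (50, 3), (51, 2)], [(0, 1), (1, 3), (2, 4), (3, 2), (4, 3), (5, 1), (7, 2), (8, 1), (9, 4), (10, 1), (11, 2), (12, 1), (13, 1), (14, 2), (15, 2), (16, 2), (17, 3), (18, 1), (19, 2), (20, 1), (21, 2), (22, 2), (24, 3), (25, 4), (26, 2), (27, 1), (28, 1), (29, 3), (30, 4), (31, 2), (33, 4), (34, 1), (36, 3), (37, 2), (38, 3), (39, 4), (40, 3), (41, 3), (42, 1), (43, 4), (44, 3), (45, 2), (47, 4), (48, 2), (49, 3), (50, 1), (51, 4)], [(0, 3), (1, 4), (2, 2), (4, 3), (6,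 2), (7, 1), (8, 2), (10, 2), (11, 2), (15, 4), (16, 4), (17, 2), (19, 4), (20, 4), (21, 4), (22, 2), (23, 2), (24, 4), (25, 4), (26, 4), (27, 3), (28, 1), (29, 3), (30, 2), (31, 1), (32, 1), (33, 1), (34, 3), (35, 4), (36, 3), (37, 4), (38, 3), (39, 4), (40, 3), (41, 2), (43, 2), (44, 3), (45, 1), (46, 2), (47, 1), (48, 3), (49, 1), (50, 3), (51, 2)], [(0, 3), (1, 4), (2, 4), (3, 2), (4, 4), (5, 4), (6, 3), (7, 4), (9, 4), (10, 3), (11, 2), (12, 1), (13, 1), (14, 1), (15, 4), (17, 2), (19, 4), (20, 4), (21, 4), (22, 4), (23, 2), (25, 4), (26, 2), (27, 3), (28, 3), (29, 2), (30, 1), (31, 1), (32, 1), (33, 1), (36, 3), (37, 4), (38, 3), (39, 4), (40, 3), (41, 2), (43, 2), (44, 3), (45, 1), (46, 2), (47, 1), (48, 3), (49, 1), (50, 3), (51, 2)], [(2, 2), (3, 4), (4, 2), (5, 2), (6, 3), (8, 1), (9, 3), (11, 2), (12, 2), (13, 3), (14, 4), (15, 3), (16, 2), (17, 4), (18, 4), (22,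 2), (24, 1), (25, 4), (26, 2), (28, 4), (29, 4), (30, 4), (31, 2), (32, 1), (33, 3), (34, 2), (38, 4), (39, 4), (40, 4), (41, 3), (42, 2), (44, 4), (47, 4), (49, 2)], [(0, 2), (1, 1), (2, 3), (3, 2), (4, 4), (5, 2), (6, 3), (7, 3), (9, 3), (10, 3), (11, 3), (13, 1), (14, 1), (15, 2), (17, 2), (18, 1), (19, 3), (21, 4), (22, 3), (24, 1), (25, 3), (26, 2), (27, 4), (28, 2), (29, 3), (30, 4), (31, 4), (34, 2), (35, 1), (36, 4), (37, 2), (38, 2), (41, 1), (42, 2), (43, 3), (44, 1), (45, 3), (46, 2), (47, 2), (48, 1), (49, 1), (50, 2), (51, 3)], [(2, 4), (3, 4), (4, 4), (5, 4), (6, 3), (7, 3), (8, 4), (11, 2), (12, 3), (13, 1), (14, 2), (15, 2), (16, 3), (18, 2), (19, 3), (20, 1), (21, 1), (22, 3), (23, 1), (25, 3), (31, 3), (32, 4)], [(2, 4), (3, 3), (4, 1), (7, 4), (8, 4), (9, 3), (10, 1), (13, 2), (14, 1), (15, 2), (16, 3), (17, 4), (18, 2), (19, 4), (20, 4), (21, 4), (22, 2),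 (23, 4), (24, 4), (25, 2), (31, 2)], [(2, 4), (3, 3), (4, 1), (7, 4), (8, 4), (9, 3), (10, 1), (13, 2), (14, 1), (15, 2), (16, 3), (17, 4), (18, 2), (19, 4), (20, 4), (21, 4), (22, 2), (23, 4), (24, 4), (25, 2), (31, 3), (32, 4)], [(2, 1), (3, 2), (4, 2), (5, 3), (6, 2), (8, 3), (9, 3), (10, 4), (11, 3), (12, 2), (18, 2), (19, 3), (22, 2), (25, 3), (33, 2)], [(2, 2), (3, 3), (4, 1), (5, 2), (7, 3), (8, 1), (11, 4), (12, 1), (13, 4), (14, 3), (16, 4), (17, 4), (19, 1), (20, 4), (21, 4), (22, 2), (23, 4), (24, 3), (26, 3), (27, 4), (28, 3), (29, 1), (34, 2)], [(2, 1), (3, 2), (4, 3), (6, 4), (7, 1), (9, 3), (10, 1), (11, 3), (12, 4), (13, 4), (14, 2), (15, 3), (16, 4), (17, 2), (19, 3), (20, 1), (21, 1), (23, 1), (24, 4), (26, 4), (27, 2), (28, 4), (29, 3), (30, 4), (31, 2), (32, 1), (33, 3), (34, 4), (35, 1)], [(6, 1), (7, 4), (8, 3), (9, 1), (10, 2), (11, 2), (12, 1), (13,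 1), (14, 3), (16, 2), (17, 3), (18, 3), (19, 2), (20, 3), (21, 3), (24, 1), (25, 3), (26, 3), (27, 2), (29, 3), (36, 2)], [(2, 3), (3, 3), (5, 3), (6, 3), (8, 2), (9, 4), (10, 2), (11, 2), (12, 2), (13, 3), (14, 4), (15, 4), (16, 1), (17, 1), (18, 1), (19, 1), (20, 2), (21, 1), (22, 3), (23, 2), (24, 2), (25, 2), (30, 4), (31, 2), (32, 2), (33, 4), (37, 1), (38, 4), (39, 4), (40, 1), (41, 2), (44, 1), (45, 2), (46, 4), (47, 2), (48, 4), (51, 3)], [(0, 3), (1, 4), (2, 3), (3, 2), (4, 2), (6, 4), (7, 2), (8, 3), (9, 1), (11, 1), (14, 2), (15, 2), (17, 2), (18, 4), (19, 3), (20, 4), (21, 4), (22, 2), (23, 2), (25, 3), (27, 4), (28, 3), (29, 3), (31, 3), (32, 3), (33, 2), (34, 3), (36, 3), (38, 2), (39, 3), (41, 1), (42, 3), (43, 2), (45, 3), (46, 2), (47, 4), (48, 3), (49, 4), (50, 3)], [(3, 2), (4, 2), (5, 4), (6, 3), (7, 1), (8, 4), (9, 3), (10, 3), (11, 2), (12, 1), (13, 2),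 (14, 1), (15, 4), (16, 3), (17, 2), (18, 4), (19, 3), (22, 3), (25, 4), (30, 3), (31, 1), (32, 3), (33, 4), (37, 4), (38, 1), (39, 1), (40, 4), (41, 3), (44, 4), (45, 3), (47, 3), (51, 2)], [(0, 4), (1, 2), (2, 1), (3, 3), (4, 1), (5, 1), (6, 1), (7, 4), (8, 3), (9, 1), (10, 4), (11, 4), (12, 1), (13, 2), (14, 2), (15, 1), (16, 1), (17, 4), (18, 3), (19, 3), (20, 4), (21, 2), (22, 3), (23, 3), (24, 4), (25, 1), (27, 2), (28, 4), (29, 4), (30, 2), (31, 1), (32, 4), (33, 4), (34, 4), (36, 4), (37, 1), (39, 3), (40, 3), (41, 1), (42, 4), (43, 1), (44, 4), (45, 2), (46, 4), (48, 2), (49, 2), (50, 4), (51, 2)], [(0, 3), (1, 4), (2, 2), (3, 3), (4, 2), (5, 2), (7, 4), (8, 4), (9, 1), (10, 3), (12, 4), (13, 3), (14, 2), (15, 1), (16, 3), (17, 3), (18, 1), (19, 4), (20, 4), (21, 4), (22, 2), (23, 2), (24, 4), (27, 4), (28, 3), (29, 3), (30, 2), (31, 4), (33, 3), (34, 3), (36, 3),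 (37, 4), (38, 4), (40, 4), (41, 3), (42, 3), (43, 2), (44, 4), (45, 1), (46, 2), (47, 2), (48, 3), (49, 4), (50, 3), (51, 2)], [(0, 2), (1, 1), (2, 4), (3, 3), (5, 1), (6, 1), (7, 1), (8, 2), (9, 2), (12, 1), (14, 1), (15, 1), (16, 1), (17, 3), (18, 3), (19, 4), (20, 2), (21, 1), (23, 4), (24, 4), (25, 4), (26, 2), (27, 2), (28, 4), (29, 1), (32, 3), (33, 1), (34, 4), (35, 1), (36, 2), (37, 3), (39, 4), (40, 2), (41, 3), (42, 1), (43, 3), (44, 2), (45, 1), (46, 2), (48, 1), (49, 1), (50, 2), (51, 1)], [(0, 3), (1, 4), (2, 3), (3, 4), (4, 1), (5, 3), (7, 2), (8, 1), (9, 2), (10, 1), (13, 1), (15, 4), (17, 2), (18, 2), (19, 1), (20, 3), (21, 4), (22, 2), (23, 1), (24, 2), (25, 1), (27, 4), (28, 3), (29, 3), (30, 4), (32, 2), (33, 4), (34, 3), (36, 3), (37, 2), (39, 1), (40, 3), (41, 2), (42, 3), (43, 1), (44, 3), (45, 4), (46, 3), (48, 4), (49, 4), (50, 3), (51, 4)], [(44, 4)],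 [(2, 4), (3, 3), (4, 1), (7, 4), (8, 4), (9, 3), (10, 1), (13, 2), (14, 1), (15, 2), (16, 3), (17, 4), (18, 2), (19, 4), (20, 4), (21, 4), (22, 2), (23, 4), (24, 4), (25, 2), (31, 3), (45, 4)], [(2, 4), (3, 4), (4, 4), (5, 4), (6, 3), (7, 3), (8, 4), (11, 2), (12, 3), (13, 1), (14, 2), (15, 2), (16, 3), (18, 2), (19, 3), (20, 1), (21, 1), (22, 3), (23, 1), (25, 3), (30, 1), (31, 3), (32, 4), (46, 4)], [(2, 1), (3, 2), (4, 3), (6, 4), (7, 1), (9, 3), (10, 1), (11, 3), (12, 4), (13, 4), (14, 2), (15, 3), (16, 4), (17, 2), (19, 3), (20, 1), (21, 1), (23, 1), (24, 4), (26, 4), (27, 2), (28, 4), (29, 3), (30, 4), (31, 2), (32, 1), (33, 3), (34, 4), (35, 2), (47, 4)], [(2, 2), (4, 3), (5, 4), (6, 4), (7, 2), (8, 4), (10, 1), (11, 4), (12, 4), (13, 2), (14, 3), (15, 3), (17, 4), (18, 1), (19, 1), (20, 2), (21, 2), (23, 3), (24, 4), (26, 4), (27, 3), (28, 3), (29, 2), (30, 3), (31,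 2), (32, 2), (33, 3), (34, 3), (35, 2), (36, 1), (48, 1)], [(49, 4)], [(50, 4)], [(2, 1), (3, 1), (4, 2), (5, 2), (6, 3), (7, 2), (8, 3), (9, 3), (11, 2), (12, 4), (13, 3), (14, 2), (15, 4), (16, 4), (17, 3), (18, 3), (25, 3), (30, 2), (31, 1), (32, 2), (33, 1), (37, 3), (38, 2), (39, 3), (40, 1), (41, 2), (45, 3), (47, 2), (51, 2)]]

/-- Columns. -/
def g41 : List ℕ := mkCols [[(0, 1)], [(1, 1)], [(2, 1), (4, 3), (6, 4), (8, 1), (9, 1), (10, 3), (11, 1), (12, 3), (13, 1)], [(2, 4), (5, 4), (6, 1), (8, 4), (9, 4), (10, 1), (11, 4), (12, 2), (14, 4)], [(2, 1), (3, 4), (4, 4), (5, 1), (6, 3), (7, 4), (8, 1), (9, 1), (10, 4), (11, 1), (12, 3), (14, 1)], [(5, 4), (6, 1), (7, 1), (13, 1), (17, 1)], [(6, 1)], [(7, 1)], [(8, 1)], [(9, 1)], [(2, 4), (3, 1), (5, 4), (6, 1), (7, 1), (13, 1), (14, 4)], [(11, 1)], [(12, 1)], [(13, 1)], [(2, 3), (4, 2), (6, 2), (8, 3), (9, 3), (10, 2),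 (11, 3), (12, 4), (13, 4), (14, 4), (17, 4)], [(2, 3), (4, 2), (6, 1), (7, 4), (8, 3), (9, 4), (10, 2), (11, 4), (12, 2), (13, 4), (15, 4)], [(2, 3), (4, 2), (6, 1), (8, 4), (9, 3), (10, 2), (12, 2), (13, 4), (16, 4), (17, 4)], [(17, 1)], [(2, 2), (4, 2), (5, 1), (7, 3), (8, 2), (9, 4), (10, 2), (11, 4), (12, 4), (13, 4), (14, 3), (15, 4), (16, 1), (17, 2), (18, 2), (19, 3), (20, 1), (21, 1), (23, 1), (24, 1), (25, 1), (37, 4), (38, 1), (39, 1), (40, 1)], [(2, 1), (4, 3), (5, 1), (6, 1), (7, 3), (8, 1), (9, 3), (10, 3), (11, 3), (12, 1), (13, 3), (14, 2), (15, 4), (16, 1), (17, 2), (18, 1), (19, 4), (20, 1), (21, 1), (23, 1), (24, 1), (25, 1), (39, 1), (40, 1)], [(20, 1)], [(2, 4), (4, 1), (6, 1), (8, 4), (9, 4), (10, 1), (11, 4), (12, 1), (15, 4), (19, 1), (20, 4), (23, 4), (38, 4), (40, 1)], [(2, 3), (4, 1), (6, 1), (8, 3), (9, 4), (10, 1), (11, 3), (12, 4), (13, 1), (14,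 2), (16, 1), (17, 2), (19, 4), (20, 1), (21, 1), (22, 1), (23, 1), (37, 1)], [(2, 1), (4, 4), (5, 1), (6, 4), (7, 4), (8, 1), (9, 1), (10, 4), (11, 1), (12, 3), (14, 1), (23, 1), (40, 4)], [(2, 3), (4, 1), (6, 1), (8, 3), (9, 4), (10, 1), (11, 3), (12, 4), (13, 1), (14, 2), (16, 1), (17, 2), (19, 4), (20, 1), (21, 1), (23, 1), (24, 1), (37, 1)], [(2, 2), (4, 2), (6, 2), (8, 2), (9, 3), (10, 2), (11, 2), (12, 1), (13, 1), (14, 1), (16, 1), (17, 1), (19, 4), (20, 1), (21, 1), (23, 1), (25, 1), (38, 1)], [(2, 2), (3, 1), (4, 4), (5, 4), (7, 1), (8, 1), (9, 1), (10, 3), (11, 1), (12, 1), (14, 2), (17, 4), (19, 2), (20, 3), (21, 3), (23, 3), (26, 1), (41, 3), (42, 2)], [(2, 4), (3, 4), (5, 1), (6, 4), (7, 3), (8, 3), (10, 1), (11, 4), (12, 3), (13, 4), (14, 3), (16, 2), (17, 3), (18, 1), (19, 3), (20, 1), (21, 1), (23, 1), (24, 1), (25, 1), (27, 1), (38, 1), (39, 1), (40, 1), (41,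 4)], [(28, 1)], [(2, 3), (4, 2), (6, 2), (8, 4), (9, 3), (10, 2), (11, 4), (12, 3), (13, 4), (14, 4), (16, 4), (17, 4), (29, 1), (42, 4)], [(30, 1), (44, 4)], [(2, 2), (3, 1), (4, 1), (6, 4), (8, 4), (9, 4), (10, 1), (11, 2), (15, 4), (16, 4), (17, 4), (18, 2), (25, 2), (30, 3), (32, 3), (33, 4), (37, 3), (39, 2), (40, 2), (44, 2), (45, 2)], [(2, 4), (4, 3), (5, 3), (6, 4), (7, 2), (8, 2), (9, 2), (10, 1), (11, 1), (13, 4), (14, 3), (15, 2), (16, 2), (18, 1), (25, 1), (30, 4), (31, 2), (33, 2), (38, 4), (39, 1), (40, 1), (45, 1)], [(33, 1)], [(34, 1)], [(2, 1), (4, 4), (5, 1), (6, 4), (8, 1), (9, 1), (10, 4), (11, 1), (12, 3), (14, 1), (35, 1), (47, 4)], [(2, 4), (3, 4), (4, 3), (5, 2), (6, 1), (7, 1), (8, 1), (9, 2), (10, 1), (11, 3), (12, 4), (15, 3), (16, 4), (17, 3), (19, 3), (20, 1), (21, 1), (23, 1), (24, 1), (30, 1), (31, 3), (32, 1), (33, 3), (36, 1), (38, 1), (42,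 4), (45, 4), (47, 1), (51, 1)], [(2, 1), (4, 3), (6, 3), (7, 4), (8, 1), (9, 2), (10, 3), (11, 2), (12, 2), (14, 1), (16, 1), (17, 1), (18, 1), (19, 4), (24, 1), (25, 1), (37, 4), (38, 1), (39, 1), (40, 1)], [(2, 1), (4, 3), (6, 3), (7, 4), (8, 1), (9, 2), (10, 3), (11, 2), (12, 2), (13, 4), (14, 1), (16, 1), (17, 2), (18, 1), (19, 4), (24, 1), (25, 1), (39, 1), (40, 1)], [(2, 2), (4, 4), (7, 2), (8, 2), (10, 4), (12, 2), (13, 1), (14, 2), (16, 4), (17, 2), (18, 4), (19, 3), (20, 3), (21, 3), (23, 3), (24, 4), (25, 4), (38, 4), (40, 1)], [(6, 1), (7, 4), (40, 4)], [(2, 1), (4, 3), (6, 3), (7, 4), (8, 1), (9, 2), (10, 3), (11, 2), (12, 2), (13, 4), (14, 1), (16, 1), (17, 2), (18, 1), (19, 4), (24, 1), (25, 1), (38, 1), (39, 1), (40, 1), (41, 4)], [(6, 1), (8, 1), (42, 4)], [(6, 4), (7, 4), (9, 1), (11, 1), (12, 4), (13, 3), (14, 1), (15, 4), (16, 1), (17, 2), (18, 1), (19,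 4), (24, 1), (25, 1), (39, 1), (40, 2), (41, 4), (42, 4), (43, 1)], [(44, 4)], [(2, 4), (6, 4), (7, 4), (11, 2), (12, 4), (13, 3), (14, 1), (16, 4), (17, 1), (18, 1), (19, 4), (24, 1), (25, 1), (38, 4), (39, 1), (40, 1), (45, 1)], [(2, 2), (3, 1), (4, 1), (5, 3), (6, 2), (7, 3), (10, 3), (11, 3), (12, 4), (14, 1), (15, 1), (16, 2), (17, 3), (19, 1), (24, 4), (30, 4), (31, 2), (32, 4), (33, 2), (44, 4), (45, 1), (46, 1)], [(6, 1), (7, 1), (47, 4)], [(2, 4), (4, 2), (5, 1), (6, 1), (8, 4), (9, 3), (10, 2), (11, 3), (12, 3), (14, 4), (16, 4), (17, 3), (18, 4), (19, 1), (24, 4), (25, 4), (37, 1), (38, 4), (39, 4), (40, 4), (41, 1), (44, 4), (47, 1), (48, 1), (51, 4)], [(2, 3), (3, 1), (4, 4), (5, 3), (7, 3), (8, 3), (9, 1), (10, 3), (11, 3), (12, 3), (16, 2), (17, 1), (18, 4), (19, 3), (20, 3), (21, 3), (23, 3), (24, 4), (25, 4), (38, 4), (39, 4), (40, 4), (42, 2), (44, 4), (47,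 4), (49, 1)], [(2, 3), (3, 1), (5, 1), (6, 4), (7, 1), (8, 1), (9, 4), (10, 2), (11, 3), (12, 2), (13, 2), (14, 2), (15, 2), (18, 4), (19, 4), (20, 3), (21, 3), (23, 3), (24, 3), (25, 4), (30, 4), (31, 2), (32, 4), (33, 2), (38, 4), (39, 4), (40, 4), (42, 2), (44, 1), (45, 1), (47, 4), (50, 1)], [(51, 4)]]

/-- Columns. -/
def g42 : List ℕ := mkCols [[(0, 1)], [(1, 1)], [(2, 2), (4, 3), (5, 2), (7, 2), (8, 2), (9, 4), (10, 2), (11, 4), (12, 4), (13, 3), (14, 3), (15, 4), (16, 1), (17, 2), (18, 1), (19, 4), (20, 1), (23, 2), (24, 1), (25, 1), (39, 1)], [(5, 1), (6, 4), (7, 4), (14, 1), (15, 4), (16, 1), (18, 1), (19, 4), (22, 4), (25, 1), (37, 4), (38, 1), (39, 1)], [(4, 4), (5, 1), (6, 2), (7, 2), (8, 4), (9, 3), (10, 4), (11, 1), (12, 4), (13, 4), (14, 4), (15, 4), (16, 2), (17, 4), (19, 3), (20, 2), (21, 2), (22, 1), (23, 2), (24, 1), (37, 1)], [(2, 2), (4, 4), (5, 4), (7,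 1), (8, 2), (9, 1), (10, 4), (11, 2), (12, 1), (14, 3), (16, 4), (17, 4), (19, 1), (20, 4), (21, 4), (23, 4), (37, 4)], [(5, 1), (6, 4), (7, 4), (9, 1), (11, 1), (12, 4), (13, 4), (14, 1), (20, 1), (23, 2), (40, 4)], [(5, 4), (6, 2), (7, 2), (9, 4), (11, 4), (12, 1), (13, 1), (14, 4), (20, 4), (23, 3), (40, 1)], [(2, 3), (3, 1), (4, 2), (5, 3), (7, 3), (8, 3), (9, 1), (10, 3), (11, 1), (12, 1), (13, 2), (14, 2), (16, 4), (17, 3), (18, 4), (19, 1), (20, 4), (23, 3), (24, 4), (25, 4), (38, 4), (39, 4)], [(2, 4), (6, 4), (7, 3), (8, 4), (9, 2), (11, 1), (12, 1), (13, 4), (14, 3), (16, 1), (17, 3), (19, 3), (20, 2), (21, 2), (22, 1), (23, 2), (24, 1), (37, 1), (39, 4), (40, 4)], [(2, 2), (3, 1), (4, 3), (5, 4), (6, 4), (7, 1), (8, 3), (9, 2), (10, 3), (11, 3), (12, 4), (14, 3), (16, 4), (17, 4), (19, 1), (20, 4), (21, 4), (23, 4), (38, 4)], [(2, 4), (4, 1), (5, 1), (7, 4), (8,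 4), (10, 1), (12, 1), (13, 4), (19, 1), (21, 4), (23, 1), (39, 1)], [(12, 1)], [(2, 3), (4, 1), (5, 1), (6, 4), (7, 2), (8, 3), (9, 1), (10, 1), (12, 2), (13, 4), (14, 3), (16, 1), (17, 3), (19, 4), (20, 2), (21, 1), (22, 1), (23, 3), (24, 1), (37, 1), (40, 4)], [(2, 2), (4, 2), (5, 1), (6, 2), (7, 4), (8, 2), (9, 3), (10, 2), (11, 2), (12, 1), (14, 2), (16, 1), (17, 1), (19, 4), (20, 1), (21, 1), (23, 1), (37, 1), (40, 4)], [(2, 3), (4, 2), (6, 1), (7, 4), (8, 3), (9, 4), (10, 2), (11, 4), (12, 2), (13, 4), (15, 4)], [(2, 4), (3, 1), (4, 2), (5, 4), (6, 3), (7, 2), (8, 4), (9, 3), (10, 2), (11, 3), (12, 1), (14, 1), (15, 4), (16, 4), (17, 2), (18, 4), (19, 3), (20, 3), (21, 3), (23, 3), (24, 4), (25, 4), (38, 4), (40, 1)], [(2, 2), (4, 4), (5, 4), (6, 1), (7, 3), (8, 2), (9, 4), (10, 4), (12, 3), (13, 2), (14, 2), (16, 4), (17, 3), (19, 1), (20, 3), (21, 4), (22, 4), (23,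 2), (24, 4), (37, 4), (40, 1)], [(21, 4)], [(2, 4), (4, 1), (6, 3), (7, 2), (8, 4), (9, 2), (10, 1), (11, 2), (12, 4), (13, 2), (14, 3), (17, 3), (18, 4), (19, 1), (20, 4), (21, 4), (22, 4), (23, 3), (24, 4)], [(20, 1)], [(18, 4)], [(22, 1)], [(23, 1)], [(24, 1)], [(25, 1)], [(26, 1)], [(2, 4), (3, 4), (5, 2), (6, 4), (7, 4), (8, 3), (9, 4), (10, 1), (11, 3), (12, 4), (13, 1), (14, 3), (16, 2), (17, 1), (18, 1), (19, 3), (20, 1), (21, 1), (22, 4), (23, 1), (25, 1), (27, 1), (37, 4), (38, 2), (39, 1), (43, 4)], [(2, 3), (4, 2), (6, 3), (7, 2), (8, 3), (9, 1), (10, 2), (11, 2), (13, 2), (14, 3), (15, 1), (16, 4), (17, 2), (19, 1), (20, 4), (21, 4), (22, 4), (23, 4), (24, 4), (28, 1), (37, 4), (38, 1), (40, 4), (41, 1), (42, 1), (43, 3)], [(2, 2), (4, 2), (5, 2), (6, 3), (7, 2), (8, 3), (10, 1), (11, 1), (12, 2), (13, 3), (14, 4), (15, 4), (16, 1), (17, 2), (18, 2), (19, 3),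 (20, 2), (21, 2), (23, 3), (24, 1), (25, 1), (29, 1), (38, 1), (40, 4), (43, 4)], [(4, 3), (5, 1), (6, 1), (7, 1), (9, 4), (10, 3), (11, 3), (12, 2), (13, 3), (16, 2), (18, 1), (19, 3), (20, 2), (21, 1), (22, 1), (23, 3), (24, 2), (25, 1), (30, 1), (37, 1), (39, 1), (46, 4)], [(31, 1)], [(2, 3), (4, 1), (5, 3), (6, 4), (8, 1), (9, 3), (10, 3), (11, 1), (12, 1), (13, 2), (15, 2), (16, 2), (17, 2), (18, 4), (19, 1), (20, 4), (21, 4), (22, 4), (23, 3), (24, 3), (30, 4), (31, 2), (33, 2), (44, 4), (45, 1), (46, 1)], [(33, 1)], [(3, 1), (5, 4), (6, 4), (7, 4), (8, 3), (9, 3), (10, 2), (12, 4), (13, 3), (15, 2), (16, 1), (17, 2), (18, 2), (19, 3), (20, 3), (21, 2), (24, 3), (25, 4), (30, 4), (31, 2), (32, 4), (33, 2), (34, 1), (38, 4), (40, 2), (41, 3), (42, 4), (43, 2), (45, 1), (46, 2), (47, 4), (48, 3), (51, 1)], [(2, 2), (4, 2), (6, 2), (8, 2), (9, 3), (10, 2), (11, 3), (14,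 2), (16, 1), (17, 2), (18, 1), (19, 4), (20, 1), (23, 1), (24, 1), (25, 1), (35, 1), (37, 4), (38, 1), (39, 1), (40, 1), (41, 4), (44, 1), (47, 4), (48, 4), (51, 1)], [(36, 1)], [(2, 2), (4, 2), (5, 1), (7, 3), (8, 2), (9, 4), (10, 2), (11, 4), (12, 4), (13, 4), (14, 3), (16, 1), (17, 2), (18, 1), (19, 4), (20, 1), (23, 2), (24, 1), (25, 1), (39, 1)], [(2, 1), (4, 3), (5, 1), (6, 3), (8, 1), (9, 1), (10, 3), (11, 1), (12, 3), (13, 1), (14, 1), (16, 1), (18, 1), (19, 4), (22, 4), (25, 1), (37, 4), (38, 1), (39, 1)], [(4, 4), (5, 1), (6, 2), (7, 3), (9, 2), (10, 4), (11, 2), (12, 4), (13, 4), (14, 4), (16, 1), (17, 3), (19, 3), (20, 2), (21, 2), (22, 1), (23, 2), (24, 1), (37, 1)], [(2, 4), (4, 1), (7, 4), (8, 4), (10, 1), (12, 1), (13, 4), (20, 1), (23, 2), (40, 4)], [(5, 1), (6, 4), (14, 1), (15, 4), (16, 1), (18, 1), (19, 4), (22, 4), (25, 1), (37, 4), (38, 1), (39, 1), (40,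 1), (42, 4)], [(2, 4), (3, 1), (4, 1), (5, 4), (6, 2), (7, 1), (8, 4), (9, 4), (10, 1), (11, 4), (12, 2), (14, 4), (41, 4)], [(2, 1), (4, 3), (5, 1), (6, 3), (8, 1), (9, 1), (10, 3), (11, 1), (12, 3), (13, 1), (14, 1), (16, 1), (18, 1), (19, 4), (22, 4), (25, 1), (37, 4), (38, 2), (39, 1), (43, 4)], [(3, 1), (4, 2), (5, 3), (6, 3), (7, 2), (8, 3), (9, 4), (10, 4), (11, 2), (12, 2), (14, 4), (15, 1), (16, 3), (17, 1), (18, 1), (25, 1), (30, 4), (31, 2), (32, 4), (33, 2), (38, 4), (39, 1), (40, 1), (45, 1)], [(2, 3), (4, 2), (5, 1), (6, 1), (8, 4), (9, 3), (10, 1), (11, 4), (12, 2), (15, 4), (17, 4), (18, 1), (20, 4), (21, 4), (22, 4), (23, 4), (25, 1), (37, 4), (39, 1), (40, 1), (45, 1)], [(2, 2), (4, 2), (5, 1), (7, 3), (8, 2), (9, 4), (10, 2), (11, 4), (12, 4), (13, 4), (14, 3), (16, 1), (17, 2), (18, 1), (19, 4), (20, 1), (23, 2), (24, 1), (25, 1), (37, 1), (39, 1), (46,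 4)], [(2, 1), (4, 3), (5, 4), (6, 4), (8, 1), (9, 2), (10, 3), (11, 2), (12, 2), (14, 1), (16, 1), (17, 2), (18, 1), (19, 4), (24, 1), (25, 1), (37, 4), (38, 1), (39, 1), (40, 1), (41, 4), (44, 1), (51, 1)], [(2, 1), (4, 4), (7, 1), (8, 1), (10, 4), (12, 4), (13, 1), (20, 1), (48, 4)], [(3, 1), (5, 2), (6, 2), (7, 3), (9, 4), (11, 1), (12, 3), (13, 1), (14, 2), (16, 3), (17, 3), (19, 2), (20, 4), (21, 3), (23, 4), (37, 4), (38, 4), (42, 1), (44, 1), (46, 4), (47, 4), (48, 4), (49, 1), (51, 1)], [(2, 4), (4, 3), (5, 2), (6, 2), (7, 4), (8, 4), (9, 1), (10, 3), (11, 1), (12, 4), (13, 1), (14, 4), (16, 3), (17, 2), (18, 3), (19, 3), (20, 3), (21, 2), (23, 2), (24, 4), (25, 4), (38, 4), (40, 1), (41, 4), (43, 2), (44, 1), (47, 4), (48, 4), (50, 1), (51, 1)], [(2, 1), (3, 4), (4, 2), (5, 2), (7, 1), (8, 3), (9, 3), (13, 4), (14, 3), (15, 3), (16, 3), (17, 1), (19, 4), (24, 1),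 (30, 1), (31, 3), (32, 1), (33, 3), (37, 4), (38, 1), (42, 4), (45, 4), (47, 1)]]

/-- Columns. -/
def g43 : List ℕ := mkCols [[(0, 1)], [(1, 1)], [(2, 1), (3, 4), (5, 1), (6, 4), (7, 4), (8, 4), (13, 4), (14, 1), (27, 2), (28, 4), (41, 4), (42, 1)], [(2, 4), (4, 3), (5, 4), (6, 3), (7, 2), (8, 4), (9, 1), (10, 3), (11, 3), (12, 3), (14, 1), (16, 3), (17, 1), (19, 2), (20, 3), (21, 3), (22, 4), (23, 3), (24, 4), (37, 4), (42, 1)], [(2, 4), (3, 3), (4, 1), (5, 2), (6, 4), (7, 3), (9, 4), (11, 4), (12, 4), (13, 2), (14, 4), (16, 3), (17, 2), (18, 3), (19, 4), (20, 3), (21, 3), (22, 1), (23, 3), (24, 4), (25, 3), (26, 1), (27, 3), (28, 1), (37, 2), (38, 3), (39, 3), (40, 3), (42, 2)], [(2, 2), (4, 4), (5, 4), (7, 1), (8, 2), (9, 1), (10, 4), (11, 2), (12, 1), (14, 3), (16, 4), (17, 4), (19, 1), (20, 4), (21, 4), (23, 4), (37, 4)], [(3, 3), (5, 2), (6, 4), (7, 3), (8, 3), (10,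 1), (11, 4), (12, 3), (13, 4), (14, 4), (16, 1), (17, 2), (19, 3), (20, 2), (21, 2), (23, 2), (26, 4), (27, 2), (28, 4), (42, 4)], [(2, 2), (3, 2), (4, 3), (5, 3), (7, 2), (8, 1), (9, 3), (10, 3), (11, 2), (12, 3), (13, 3), (14, 1), (16, 2), (17, 4), (18, 1), (19, 2), (20, 2), (21, 2), (23, 2), (24, 1), (25, 1), (26, 4), (27, 2), (28, 4), (38, 1), (39, 1), (40, 1), (42, 4)], [(3, 3), (5, 2), (6, 3), (7, 3), (8, 4), (10, 1), (11, 4), (12, 3), (13, 4), (14, 4), (16, 1), (17, 2), (19, 3), (20, 2), (21, 2), (23, 2), (26, 4), (27, 2), (28, 4), (42, 4)], [(2, 3), (3, 3), (4, 1), (5, 2), (6, 4), (7, 1), (8, 1), (9, 1), (10, 2), (11, 3), (12, 1), (13, 3), (14, 1), (16, 2), (19, 2), (20, 3), (21, 3), (22, 1), (23, 3), (24, 1), (26, 4), (27, 2), (28, 4), (37, 1), (42, 4)], [(3, 3), (5, 2), (6, 2), (7, 2), (8, 4), (9, 1), (10, 1), (11, 1), (12, 1), (13, 3), (16, 1), (17, 3), (18, 1),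 (19, 2), (20, 2), (21, 2), (23, 2), (24, 1), (25, 1), (26, 4), (27, 2), (28, 4), (37, 4), (38, 1), (39, 1), (40, 1), (42, 4)], [(11, 1)], [(12, 1)], [(2, 1), (3, 3), (4, 3), (5, 2), (6, 1), (7, 2), (8, 2), (9, 2), (10, 3), (11, 2), (13, 2), (14, 1), (16, 4), (17, 4), (18, 4), (19, 2), (20, 4), (21, 4), (22, 1), (23, 4), (25, 4), (26, 1), (27, 3), (28, 1), (37, 1), (38, 4), (39, 4), (40, 4), (42, 1)], [(2, 3), (3, 1), (4, 2), (5, 4), (6, 2), (7, 1), (8, 4), (9, 3), (10, 2), (11, 4), (12, 3), (14, 4), (16, 4), (17, 4), (27, 3), (28, 1), (41, 1)], [(2, 1), (3, 4), (6, 4), (7, 1), (8, 4), (9, 4), (10, 4), (11, 2), (12, 3), (13, 3), (14, 4), (17, 2), (18, 3), (19, 1), (20, 1), (21, 1), (23, 1), (24, 3), (25, 3), (26, 1), (27, 1), (28, 2), (38, 3), (39, 3), (40, 3), (41, 2), (42, 2)], [(2, 4), (3, 2), (4, 1), (5, 3), (6, 3), (7, 3), (8, 1), (9, 3), (12, 4), (13, 2), (16, 3), (17,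 1), (18, 4), (19, 3), (20, 3), (21, 3), (23, 3), (24, 4), (25, 4), (27, 3), (28, 1), (38, 4), (39, 4), (40, 4), (41, 1), (42, 1)], [(2, 2), (3, 2), (4, 4), (5, 3), (6, 1), (7, 4), (8, 4), (10, 3), (11, 2), (12, 4), (13, 2), (14, 4), (16, 3), (17, 1), (19, 3), (20, 2), (21, 2), (22, 4), (23, 2), (24, 4), (26, 1), (27, 3), (28, 1), (37, 4), (42, 1)], [(3, 3), (5, 2), (6, 4), (7, 3), (8, 2), (10, 1), (11, 3), (12, 4), (13, 4), (14, 4), (16, 1), (17, 2), (19, 3), (20, 2), (21, 2), (23, 2), (26, 4), (27, 3), (28, 3), (29, 4)], [(4, 1), (7, 2), (9, 3), (10, 1), (14, 2), (16, 3), (17, 1), (19, 2), (20, 4), (21, 4), (22, 4), (23, 4), (24, 4), (37, 4), (41, 1), (42, 1), (43, 4)], [(2, 1), (3, 3), (5, 1), (6, 2), (7, 4), (8, 3), (10, 1), (11, 1), (14, 3), (16, 2), (17, 3), (18, 3), (19, 4), (20, 2), (21, 1), (23, 1), (26, 4), (27, 2), (28, 3), (29, 3), (37, 1), (38, 4), (40, 1), (41,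 4), (42, 4), (43, 2)], [(2, 2), (3, 4), (4, 3), (5, 1), (6, 1), (7, 1), (10, 2), (11, 4), (13, 3), (17, 2), (18, 4), (19, 1), (20, 1), (21, 2), (23, 1), (24, 3), (25, 3), (26, 1), (27, 2), (28, 2), (29, 1), (38, 3), (39, 3), (40, 3), (41, 2), (42, 2), (43, 3)], [(22, 1)], [(2, 3), (3, 4), (4, 1), (5, 2), (6, 4), (7, 3), (8, 3), (9, 4), (10, 1), (11, 4), (12, 3), (14, 3), (16, 1), (17, 1), (18, 1), (19, 4), (20, 1), (21, 1), (23, 2), (27, 1), (29, 1), (38, 1), (40, 4), (43, 4)], [(24, 1)], [(2, 3), (3, 4), (4, 1), (5, 2), (6, 2), (7, 2), (8, 3), (10, 1), (11, 1), (12, 2), (13, 3), (14, 4), (16, 1), (17, 2), (18, 2), (19, 2), (20, 2), (21, 2), (23, 2), (24, 1), (25, 2), (27, 1), (29, 1), (37, 4), (38, 2), (39, 1), (43, 4)], [(2, 1), (3, 4), (4, 4), (6, 4), (8, 1), (10, 4), (11, 1), (12, 4), (15, 1), (16, 4)], [(2, 2), (3, 3), (4, 4), (5, 1), (7, 1), (9, 4), (11, 3), (12, 2),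 (13, 1), (15, 1), (17, 4), (18, 4), (22, 4), (24, 4), (26, 4), (27, 2), (28, 4), (29, 4)], [(2, 4), (3, 3), (4, 2), (5, 1), (7, 1), (8, 1), (9, 1), (10, 3), (11, 3), (13, 2), (14, 1), (15, 1), (16, 1), (18, 3), (22, 4), (24, 4), (26, 4), (27, 2), (28, 4), (29, 3)], [(29, 1)], [(2, 3), (4, 1), (6, 1), (7, 3), (8, 3), (10, 1), (11, 4), (12, 3), (13, 4), (14, 2), (16, 1), (17, 3), (19, 4), (20, 1), (21, 1), (22, 1), (23, 1), (24, 1), (30, 1), (37, 1), (49, 4)], [(2, 1), (4, 4), (5, 2), (7, 1), (9, 1), (10, 2), (12, 4), (15, 2), (16, 3), (17, 2), (18, 2), (19, 3), (20, 1), (21, 1), (23, 1), (24, 1), (25, 2), (30, 4), (31, 3), (32, 4), (33, 2), (37, 3), (38, 1), (39, 2), (40, 2), (42, 4), (44, 2), (45, 1), (47, 1), (51, 1)], [(2, 4), (4, 4), (5, 3), (6, 4), (7, 4), (8, 4), (10, 1), (11, 1), (12, 4), (13, 1), (14, 4), (15, 2), (18, 1), (19, 2), (20, 3), (21, 4), (22, 4), (23, 3),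 (24, 3), (27, 4), (28, 1), (29, 1), (30, 4), (31, 2), (33, 2), (37, 4), (41, 2), (43, 3), (45, 1), (46, 1), (47, 1), (48, 1), (49, 4)], [(2, 2), (3, 2), (4, 3), (5, 1), (6, 4), (7, 4), (8, 2), (9, 1), (10, 2), (11, 1), (13, 3), (14, 4), (15, 4), (16, 3), (17, 2), (18, 3), (20, 1), (21, 4), (23, 1), (24, 1), (26, 4), (27, 1), (28, 1), (29, 3), (30, 1), (31, 3), (32, 1), (33, 4), (38, 4), (41, 1), (42, 3), (43, 2), (45, 4), (46, 3), (47, 2), (48, 3), (49, 4), (51, 1)], [(34, 1)], [(4, 4), (5, 2), (6, 4), (7, 4), (9, 1), (10, 4), (11, 4), (12, 1), (13, 1), (14, 3), (16, 2), (17, 2), (19, 4), (20, 1), (21, 1), (23, 1), (35, 1), (37, 1), (42, 4), (49, 4)], [(36, 1)], [(2, 3), (3, 1), (4, 2), (5, 4), (6, 2), (7, 1), (8, 3), (9, 3), (10, 2), (11, 4), (12, 3), (14, 4), (16, 4), (17, 4)], [(2, 4), (4, 3), (5, 4), (6, 3), (7, 3), (8, 4), (9, 1), (10, 3), (11, 3), (12, 3), (14, 1), (16,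 3), (17, 1), (19, 2), (20, 3), (21, 3), (22, 4), (23, 3), (24, 4), (37, 4), (40, 1)], [(2, 1), (3, 1), (4, 3), (6, 4), (8, 1), (9, 2), (10, 3), (11, 1), (12, 2), (17, 1), (18, 4), (19, 1), (22, 1), (25, 4), (37, 2), (38, 3)], [(5, 4), (6, 2), (7, 1), (8, 4), (9, 4), (10, 1), (11, 3), (12, 2), (13, 2), (14, 4), (17, 4), (18, 4), (19, 1), (24, 4), (25, 4), (39, 4), (40, 4)], [(4, 1), (5, 4), (6, 2), (7, 3), (9, 2), (10, 1), (11, 4), (12, 1), (13, 1), (14, 1), (15, 1), (16, 3), (17, 1), (19, 2), (20, 3), (21, 3), (22, 4), (23, 3), (24, 4), (37, 4), (42, 1)], [(2, 2), (3, 3), (4, 3), (5, 2), (6, 2), (7, 3), (9, 2), (10, 4), (16, 2), (17, 3), (19, 3), (20, 2), (21, 2), (23, 2), (26, 4), (27, 2), (28, 4), (42, 4)], [(4, 1), (5, 4), (6, 2), (7, 3), (9, 2), (10, 1), (11, 4), (12, 1), (13, 1), (14, 1), (15, 1), (16, 3), (17, 1), (19, 2), (20, 3), (21, 3), (22, 4), (23, 3), (24, 4),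 (37, 4), (41, 1), (42, 1), (43, 4)], [(2, 3), (3, 1), (4, 4), (5, 3), (7, 3), (8, 3), (9, 1), (10, 3), (11, 3), (12, 3), (16, 2), (17, 1), (18, 4), (19, 3), (20, 3), (21, 3), (23, 3), (24, 4), (25, 4), (38, 4), (39, 4), (40, 4), (42, 2), (47, 4)], [(2, 2), (5, 4), (7, 3), (8, 3), (9, 4), (10, 4), (11, 2), (16, 2), (19, 3), (20, 2), (21, 2), (22, 4), (23, 2), (24, 4), (37, 4), (38, 4), (40, 1), (42, 1), (45, 1)], [(4, 4), (5, 4), (6, 4), (9, 1), (10, 4), (11, 2), (12, 3), (14, 1), (17, 1), (18, 1), (19, 4), (20, 1), (23, 1), (24, 1), (25, 1), (37, 4), (38, 1), (39, 1), (42, 1), (44, 1), (47, 4), (48, 4), (51, 1)], [(2, 2), (3, 3), (4, 4), (5, 3), (6, 2), (7, 3), (9, 2), (10, 4), (13, 4), (16, 2), (17, 3), (19, 3), (20, 2), (21, 2), (23, 2), (26, 4), (27, 2), (28, 4), (37, 1), (42, 4), (44, 4)], [(3, 1), (4, 2), (6, 4), (7, 3), (8, 4), (9, 3), (10, 1), (11, 2), (12, 1), (13,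 3), (15, 3), (16, 1), (17, 1), (19, 1), (20, 3), (21, 2), (23, 3), (24, 2), (25, 1), (26, 4), (27, 3), (28, 3), (29, 4), (30, 1), (31, 3), (32, 1), (33, 3), (38, 1), (39, 1), (40, 1), (41, 4), (42, 4), (43, 1), (44, 1), (45, 4), (46, 4)], [(49, 4)], [(2, 1), (3, 2), (4, 4), (5, 1), (6, 4), (7, 3), (8, 3), (9, 1), (11, 4), (12, 2), (13, 4), (16, 2), (17, 4), (19, 3), (20, 2), (21, 1), (23, 2), (24, 1), (25, 1), (26, 4), (27, 3), (28, 3), (29, 4), (39, 1), (40, 1), (41, 3), (43, 2), (44, 1), (46, 4), (47, 4), (48, 4), (49, 1), (50, 1), (51, 1)], [(2, 1), (3, 4), (4, 2), (5, 2), (7, 1), (8, 3), (9, 3), (13, 4), (14, 3), (15, 3), (16, 3), (17, 1), (19, 4), (24, 1), (30, 1), (31, 3), (32, 1), (33, 3), (37, 4), (38, 1), (42, 4), (45, 4), (47, 1)]]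

/-- Columns. -/
def g44 : List ℕ := mkCols [[(0, 1)], [(1, 4), (2, 1), (4, 2), (6, 3), (7, 2), (8, 3), (9, 2), (10, 3), (11, 4), (12, 1), (14, 4), (16, 4), (17, 4), (18, 4), (19, 2), (20, 2), (21, 2), (22, 2), (23, 1), (26, 4), (28, 3), (29, 3), (30, 1), (32, 3), (34, 4), (35, 4), (36, 3), (37, 3), (38, 3), (39, 1), (40, 2), (41, 2), (43, 1), (44, 3), (45, 3), (46, 1), (48, 3), (49, 3), (50, 4)], [(3, 3), (4, 4), (5, 3), (6, 1), (7, 1), (8, 4), (9, 2), (10, 4), (11, 1), (13, 3), (16, 2), (17, 3), (18, 1), (19, 3), (20, 2), (21, 1), (23, 3), (24, 1), (25, 1), (27, 2), (28, 4), (38, 1), (39, 1), (41, 4)], [(2, 1), (5, 1), (6, 3), (7, 3), (8, 1), (9, 3), (10, 3), (11, 3), (15, 2), (16, 2), (17, 4), (18, 1), (22, 4), (24, 1), (25, 1), (29, 2), (30, 1), (31, 3), (32, 4), (33, 2), (34, 1), (35, 3), (37, 4), (38, 1), (39, 1), (40, 1), (42, 4), (47, 1)], [(2, 2), (3, 2), (4, 2),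 (5, 3), (6, 4), (7, 1), (8, 3), (9, 3), (10, 2), (11, 3), (12, 3), (13, 1), (14, 2), (16, 4), (17, 4), (18, 4), (19, 2), (20, 4), (21, 4), (22, 1), (23, 4), (25, 4), (26, 1), (27, 3), (28, 1), (37, 1), (38, 4), (39, 4), (40, 4), (42, 1)], [(2, 1), (3, 4), (4, 3), (5, 3), (7, 3), (8, 2), (9, 3), (14, 4), (15, 3), (16, 2), (20, 4), (21, 4), (23, 4), (24, 4), (29, 3), (30, 4), (31, 2), (32, 1), (33, 3), (34, 4), (35, 2), (38, 4), (42, 1), (45, 1), (47, 4)], [(2, 2), (3, 2), (4, 2), (5, 2), (6, 1), (7, 4), (8, 1), (12, 1), (13, 3), (14, 4), (15, 3), (16, 4), (17, 2), (19, 3), (20, 2), (21, 1), (23, 3), (24, 4), (26, 4), (27, 2), (28, 4), (29, 3), (30, 4), (31, 2), (32, 1), (33, 3), (34, 4), (35, 2), (40, 4), (47, 4)], [(2, 2), (3, 2), (4, 2), (6, 4), (7, 2), (8, 1), (9, 3), (11, 3), (12, 3), (14, 2), (15, 3), (16, 4), (17, 2), (19, 3), (21, 1), (23, 4), (24, 4), (26, 4), (27,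 2), (28, 4), (29, 3), (30, 4), (31, 2), (32, 1), (33, 3), (34, 4), (35, 2), (40, 1), (47, 4)], [(2, 3), (3, 4), (4, 3), (5, 2), (6, 1), (7, 2), (8, 1), (10, 2), (11, 3), (14, 4), (15, 2), (16, 3), (17, 2), (19, 3), (20, 2), (21, 3), (23, 1), (24, 1), (26, 4), (27, 2), (28, 4), (29, 2), (30, 1), (31, 3), (32, 4), (33, 2), (34, 1), (35, 3), (40, 1), (42, 3), (47, 1)], [(1, 1), (2, 4), (3, 3), (4, 4), (5, 4), (6, 2), (7, 4), (8, 3), (9, 4), (10, 3), (11, 1), (13, 2), (14, 4), (15, 3), (16, 1), (19, 4), (20, 1), (21, 2), (23, 3), (25, 4), (26, 4), (27, 4), (28, 1), (29, 2), (31, 2), (32, 1), (33, 2), (34, 2), (35, 4), (37, 4), (38, 2), (39, 3), (40, 2), (41, 3), (42, 4), (43, 4), (44, 1), (45, 2), (46, 4), (48, 2), (49, 2), (50, 1), (51, 4)], [(2, 4), (3, 4), (4, 2), (5, 4), (6, 3), (7, 1), (8, 1), (9, 3), (12, 2), (14, 1), (15, 2), (16, 4), (17, 2), (18, 1), (19, 3), (20, 2),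 (21, 2), (23, 2), (25, 1), (26, 4), (27, 2), (28, 4), (30, 4), (31, 3), (32, 4), (33, 2), (37, 4), (38, 1), (39, 1), (40, 1), (42, 4), (44, 1)], [(1, 1), (2, 3), (4, 1), (5, 3), (7, 2), (8, 4), (9, 1), (10, 4), (11, 1), (12, 3), (13, 2), (14, 2), (15, 3), (16, 3), (17, 4), (19, 4), (20, 2), (21, 2), (22, 4), (24, 4), (25, 4), (27, 2), (28, 2), (29, 2), (31, 2), (32, 1), (33, 2), (34, 2), (35, 4), (37, 3), (38, 1), (40, 3), (41, 3), (43, 4), (44, 1), (45, 3), (46, 4), (48, 2), (49, 2), (50, 1), (51, 4)], [(1, 1), (2, 4), (4, 4), (5, 1), (6, 4), (7, 2), (8, 2), (9, 2), (10, 2), (11, 3), (13, 2), (14, 2), (15, 3), (16, 3), (17, 1), (19, 2), (20, 3), (21, 4), (22, 4), (24, 1), (25, 4), (27, 2), (28, 2), (29, 4), (30, 2), (31, 2), (32, 1), (33, 2), (34, 3), (35, 2), (37, 4), (38, 1), (39, 4), (40, 3), (41, 3), (42, 4), (43, 4), (45, 3), (46, 4), (47, 1), (48, 2), (49, 2), (50,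 1), (51, 4)], [(2, 2), (3, 2), (4, 2), (5, 4), (6, 1), (7, 4), (8, 4), (10, 1), (11, 1), (13, 4), (14, 4), (16, 4), (19, 1), (21, 4), (22, 1), (23, 1), (24, 1), (26, 1), (27, 3), (28, 1), (37, 1), (38, 4), (40, 4), (42, 1), (45, 1)], [(2, 1), (3, 1), (4, 2), (5, 1), (6, 1), (7, 4), (9, 3), (10, 4), (11, 1), (12, 2), (14, 4), (15, 3), (16, 1), (17, 3), (18, 4), (19, 1), (20, 4), (21, 4), (23, 4), (25, 4), (27, 3), (28, 1), (30, 1), (31, 2), (32, 1), (33, 3), (37, 1), (38, 4), (39, 4), (40, 4), (41, 1), (44, 4)], [(2, 4), (3, 4), (4, 1), (5, 1), (6, 4), (7, 4), (8, 2), (9, 4), (11, 1), (12, 1), (13, 2), (14, 2), (15, 4), (16, 2), (18, 4), (19, 4), (20, 2), (21, 2), (23, 2), (24, 4), (25, 4), (26, 1), (27, 1), (28, 2), (38, 4), (39, 4), (40, 4), (41, 1), (42, 1)], [(2, 3), (3, 2), (4, 2), (5, 3), (6, 4), (7, 3), (9, 2), (10, 2), (11, 4), (12, 1), (13, 1), (16, 2), (17, 1), (18,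 4), (19, 3), (20, 3), (21, 3), (23, 3), (24, 4), (25, 4), (27, 3), (28, 1), (38, 4), (41, 1)], [(2, 1), (3, 2), (5, 2), (6, 3), (8, 3), (9, 3), (10, 4), (11, 1), (12, 1), (13, 2), (14, 3), (16, 2), (19, 3), (20, 1), (21, 2), (22, 4), (24, 4), (26, 1), (27, 3), (28, 1), (37, 4), (38, 4), (40, 1), (42, 1), (45, 1)], [(2, 4), (3, 2), (4, 1), (5, 3), (6, 4), (7, 1), (8, 1), (10, 2), (11, 2), (12, 2), (13, 3), (14, 2), (16, 3), (19, 1), (20, 3), (21, 2), (23, 3), (24, 1), (25, 1), (26, 4), (27, 3), (28, 3), (29, 4), (38, 1), (39, 1), (40, 1), (41, 4), (42, 4), (43, 1)], [(1, 1), (2, 4), (3, 4), (4, 1), (5, 3), (6, 4), (7, 3), (8, 4), (10, 4), (11, 1), (12, 4), (13, 3), (14, 2), (15, 3), (16, 3), (17, 3), (18, 1), (19, 2), (20, 1), (21, 3), (22, 3), (23, 3), (24, 3), (25, 4), (27, 2), (28, 2), (29, 2), (30, 4), (31, 2), (32, 2), (33, 2), (34, 1), (35, 4), (36, 1), (37, 2), (38,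 2), (39, 4), (40, 3), (41, 4), (43, 3), (44, 1), (45, 2), (46, 4), (47, 1), (48, 3), (49, 2), (50, 1), (51, 4)], [(1, 1), (2, 1), (4, 4), (6, 1), (8, 3), (9, 1), (11, 4), (12, 3), (13, 1), (14, 4), (15, 1), (16, 3), (17, 3), (18, 1), (19, 4), (20, 3), (22, 4), (23, 1), (24, 2), (25, 3), (26, 4), (27, 4), (29, 3), (30, 2), (31, 4), (32, 4), (34, 4), (35, 1), (36, 2), (37, 3), (38, 1), (39, 3), (40, 2), (41, 4), (43, 4), (44, 1), (45, 2), (46, 4), (47, 1), (48, 4), (49, 2), (50, 1), (51, 4)], [(2, 1), (3, 3), (4, 4), (5, 2), (6, 1), (7, 4), (8, 4), (10, 3), (11, 3), (12, 3), (13, 2), (14, 3), (16, 2), (18, 4), (19, 4), (20, 2), (21, 2), (23, 2), (24, 4), (25, 4), (26, 1), (27, 2), (28, 2), (29, 1), (38, 4), (39, 4), (40, 4), (41, 1), (42, 1), (43, 4)], [(1, 4), (2, 4), (3, 1), (4, 1), (5, 4), (6, 1), (7, 4), (8, 2), (9, 2), (10, 1), (11, 3), (12, 4), (13, 2), (14, 3), (16, 1),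 (18, 4), (19, 1), (21, 3), (22, 2), (23, 3), (24, 4), (25, 2), (27, 3), (28, 3), (29, 3), (30, 3), (31, 1), (32, 3), (33, 1), (34, 4), (35, 1), (36, 4), (37, 4), (38, 3), (39, 2), (40, 3), (41, 1), (43, 2), (44, 4), (45, 3), (47, 4), (48, 2), (49, 3), (50, 4), (51, 1)], [(1, 4), (2, 1), (4, 4), (5, 4), (6, 4), (7, 1), (8, 1), (9, 4), (10, 1), (12, 1), (13, 1), (14, 4), (15, 2), (16, 2), (17, 1), (19, 2), (20, 4), (21, 2), (22, 1), (23, 2), (24, 2), (25, 2), (27, 4), (28, 3), (29, 4), (30, 1), (31, 3), (32, 3), (33, 3), (34, 4), (35, 1), (36, 4), (37, 2), (38, 4), (39, 2), (40, 2), (41, 1), (43, 1), (44, 4), (45, 3), (46, 1), (47, 4), (48, 2), (49, 3), (50, 4), (51, 1)], [(3, 2), (4, 1), (5, 1), (6, 3), (7, 1), (9, 2), (10, 2), (11, 4), (12, 4), (13, 4), (14, 2), (15, 3), (16, 2), (18, 1), (19, 3), (20, 4), (23, 4), (24, 3), (25, 4), (29, 3), (30, 2), (31, 1), (32, 3), (33,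 3), (34, 3), (35, 2), (36, 1), (37, 1), (38, 4), (39, 4), (40, 4), (41, 1), (42, 1), (43, 4), (44, 4), (45, 1), (46, 1), (48, 1)], [(4, 1), (5, 1), (6, 4), (7, 2), (9, 4), (10, 2), (11, 3), (12, 2), (16, 3), (17, 4), (18, 2), (19, 2), (20, 3), (21, 3), (23, 4), (24, 2), (25, 2), (27, 1), (29, 1), (30, 1), (31, 1), (32, 4), (37, 4), (38, 3), (39, 1), (43, 4), (44, 1), (45, 4), (46, 4)], [(4, 1), (6, 1), (8, 4), (9, 4), (11, 4), (12, 1), (14, 4), (19, 1), (20, 4), (21, 4), (23, 4), (41, 4), (42, 1)], [(2, 4), (3, 2), (4, 2), (5, 2), (7, 4), (8, 1), (9, 2), (10, 3), (11, 2), (12, 2), (13, 4), (14, 3), (16, 1), (17, 1), (18, 1), (19, 3), (20, 1), (21, 1), (22, 4), (23, 1), (25, 1), (26, 4), (27, 3), (28, 3), (30, 4), (35, 4), (37, 4), (38, 1), (39, 1), (40, 1), (41, 4), (49, 1)], [(2, 2), (3, 1), (4, 3), (5, 2), (6, 2), (7, 1), (8, 1), (9, 2), (10, 3), (11, 1), (12, 1), (13, 4),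 (14, 1), (15, 1), (16, 4), (17, 3), (18, 4), (20, 4), (21, 4), (22, 4), (23, 4), (24, 3), (25, 4), (26, 4), (27, 4), (28, 2), (29, 3), (30, 3), (31, 4), (32, 2), (33, 1), (34, 4), (38, 4), (39, 4), (40, 4), (41, 4), (42, 2), (44, 4), (47, 4), (49, 2)], [(2, 3), (5, 2), (6, 3), (7, 2), (9, 1), (11, 1), (12, 1), (13, 4), (14, 4), (16, 1), (17, 2), (18, 1), (19, 3), (20, 2), (21, 2), (23, 3), (24, 1), (25, 1), (27, 4), (28, 1), (30, 1), (35, 1), (38, 1), (40, 4), (41, 1), (42, 4), (43, 4), (49, 4)], [(2, 1), (5, 3), (6, 4), (7, 2), (8, 2), (9, 4), (11, 3), (12, 3), (13, 4), (14, 3), (15, 1), (16, 4), (17, 2), (18, 4), (19, 2), (20, 3), (21, 1), (22, 1), (23, 3), (25, 1), (26, 2), (27, 2), (28, 1), (29, 1), (30, 2), (31, 2), (32, 3), (33, 1), (34, 4), (35, 1), (36, 4), (37, 1), (38, 3), (39, 4), (40, 4), (41, 3), (42, 4), (43, 2), (44, 3), (45, 2), (46, 4), (47, 2), (48, 4), (50,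 3)], [(2, 3), (3, 1), (4, 3), (5, 2), (7, 3), (8, 2), (9, 2), (10, 1), (11, 1), (13, 1), (14, 2), (15, 2), (16, 2), (18, 1), (25, 1), (30, 4), (31, 2), (32, 4), (33, 2), (37, 4), (39, 1), (40, 1), (44, 1), (45, 1)], [(2, 4), (4, 1), (5, 1), (6, 4), (7, 2), (9, 2), (10, 3), (11, 4), (12, 4), (14, 2), (15, 3), (16, 3), (17, 1), (18, 1), (19, 3), (22, 4), (24, 3), (25, 1), (26, 2), (27, 1), (28, 2), (29, 2), (31, 4), (32, 3), (33, 3), (34, 3), (35, 1), (37, 4), (38, 3), (39, 4), (40, 4), (42, 4), (44, 3), (45, 3), (47, 3), (50, 3)], [(1, 1), (2, 2), (3, 4), (5, 4), (6, 1), (7, 1), (8, 2), (11, 1), (12, 3), (13, 3), (14, 3), (15, 2), (16, 2), (17, 1), (18, 3), (19, 4), (20, 2), (22, 4), (23, 1), (24, 2), (26, 1), (28, 4), (29, 3), (30, 2), (32, 4), (34, 4), (35, 3), (36, 2), (37, 1), (38, 3), (39, 3), (41, 1), (42, 2), (44, 1), (45, 2), (46, 4), (47, 1), (48, 4), (49, 2), (50,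 4), (51, 4)], [(1, 1), (2, 2), (3, 2), (4, 2), (9, 4), (10, 3), (12, 1), (13, 4), (14, 1), (15, 3), (16, 3), (17, 4), (18, 4), (21, 4), (22, 4), (23, 3), (24, 2), (25, 4), (26, 2), (27, 1), (28, 1), (30, 1), (31, 2), (32, 3), (33, 2), (34, 4), (35, 3), (36, 2), (37, 1), (38, 3), (39, 3), (40, 1), (41, 2), (44, 1), (45, 3), (46, 1), (47, 2), (48, 4), (50, 4), (51, 4)], [(3, 4), (4, 3), (5, 4), (6, 3), (7, 4), (8, 2), (10, 1), (11, 1), (12, 3), (13, 4), (14, 4), (15, 1), (16, 3), (18, 3), (19, 4), (20, 1), (21, 2), (23, 2), (24, 2), (25, 1), (26, 3), (27, 3), (28, 4), (29, 4), (30, 3), (31, 1), (32, 1), (33, 1), (34, 1), (36, 1), (37, 4), (38, 4), (39, 3), (40, 2), (41, 2), (42, 4), (43, 3), (44, 3), (45, 3), (46, 1), (47, 3), (48, 1), (49, 3), (50, 2)], [(1, 1), (2, 1), (3, 1), (4, 4), (5, 4), (6, 2), (7, 4), (8, 1), (9, 2), (10, 3), (12, 3), (13, 3), (14, 3), (15, 1), (16,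 2), (17, 1), (19, 3), (20, 2), (21, 1), (22, 4), (23, 1), (24, 3), (26, 2), (27, 1), (28, 1), (30, 2), (32, 4), (34, 4), (35, 3), (36, 2), (37, 1), (38, 4), (39, 3), (41, 3), (43, 4), (44, 1), (45, 2), (47, 3), (50, 4), (51, 4)], [(2, 1), (4, 3), (5, 1), (6, 1), (7, 3), (8, 1), (9, 3), (10, 3), (11, 3), (12, 1), (13, 4), (14, 2), (16, 1), (17, 1), (18, 1), (19, 4), (20, 1), (23, 2), (24, 1), (25, 1), (37, 4), (38, 1), (39, 1)], [(2, 3), (4, 2), (6, 2), (7, 1), (8, 3), (9, 2), (10, 2), (11, 3), (12, 4), (14, 4), (17, 4), (18, 1), (20, 4), (21, 4), (22, 4), (23, 4), (25, 1), (37, 4), (39, 1), (40, 1)], [(2, 1), (4, 4), (6, 4), (8, 1), (9, 1), (10, 4), (11, 1), (12, 3), (18, 4), (19, 1), (22, 1), (25, 4), (37, 1), (38, 4), (39, 4)], [(5, 1), (6, 4), (7, 3), (9, 1), (11, 1), (12, 4), (13, 4), (14, 1), (20, 1), (23, 2), (40, 3)], [(2, 3), (4, 2), (6, 2), (7, 1), (8, 3), (9, 2),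 (10, 2), (11, 3), (12, 4), (14, 4), (17, 4), (18, 1), (20, 4), (21, 4), (22, 4), (23, 4), (25, 1), (37, 4), (38, 1), (39, 1), (40, 1), (41, 4)], [(3, 3), (5, 2), (6, 4), (7, 3), (8, 4), (10, 1), (11, 4), (12, 3), (13, 4), (14, 4), (16, 1), (17, 2), (19, 3), (20, 2), (21, 2), (23, 2), (26, 4), (27, 2), (28, 4), (42, 3)], [(2, 3), (4, 2), (6, 2), (7, 1), (8, 3), (9, 2), (10, 2), (11, 3), (12, 4), (14, 4), (17, 4), (18, 1), (20, 4), (21, 4), (22, 4), (23, 4), (25, 1), (37, 4), (38, 1), (39, 1), (40, 1), (43, 4)], [(44, 4)], [(2, 2), (4, 3), (6, 3), (7, 1), (8, 3), (9, 1), (10, 3), (11, 3), (14, 4), (16, 4), (17, 4), (18, 1), (20, 4), (21, 4), (22, 4), (23, 4), (25, 1), (37, 4), (39, 1), (40, 1)], [(2, 1), (4, 3), (5, 1), (6, 1), (7, 3), (8, 1), (9, 3), (10, 3), (11, 3), (12, 1), (13, 4), (14, 2), (16, 1), (17, 1), (18, 1), (19, 4), (20, 1), (23, 2), (24, 1), (25, 1), (38, 1),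 (39, 1), (46, 4)], [(2, 2), (3, 2), (4, 2), (5, 1), (6, 3), (7, 1), (8, 1), (9, 4), (11, 4), (12, 2), (13, 4), (14, 3), (15, 3), (16, 4), (17, 2), (19, 3), (20, 1), (21, 1), (23, 1), (24, 4), (26, 4), (27, 2), (28, 4), (29, 3), (30, 4), (31, 2), (32, 1), (33, 3), (34, 4), (35, 2), (47, 3)], [(2, 2), (4, 3), (5, 3), (6, 1), (7, 3), (8, 4), (9, 4), (10, 1), (11, 3), (13, 3), (14, 2), (15, 3), (17, 4), (18, 1), (19, 1), (20, 2), (21, 2), (23, 2), (24, 4), (26, 4), (27, 3), (28, 3), (29, 2), (30, 3), (31, 2), (32, 2), (33, 3), (34, 3), (35, 2), (36, 1)], [(49, 4)], [(2, 4), (3, 1), (5, 3), (6, 1), (8, 1), (9, 1), (10, 3), (11, 3), (12, 4), (13, 1), (14, 4), (15, 1), (17, 1), (19, 4), (20, 4), (21, 4), (23, 4), (24, 2), (26, 3), (27, 4), (28, 3), (30, 4), (31, 1), (33, 1), (34, 2), (35, 3), (38, 2), (39, 2), (40, 2), (42, 1), (44, 3), (45, 3), (47, 2), (50, 2)], [(51, 4)]]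

/-- Columns. -/
def g45 : List ℕ := mkCols [[(0, 1)], [(1, 1)], [(2, 1), (44, 4)], [(2, 4), (4, 2), (5, 1), (6, 2), (7, 1), (8, 4), (9, 2), (10, 2), (11, 2), (12, 4), (13, 1), (14, 4), (17, 3), (19, 1), (20, 4), (21, 4), (22, 4), (23, 4), (24, 4), (44, 4)], [(2, 3), (4, 2), (6, 2), (7, 4), (8, 2), (9, 4), (10, 2), (11, 2), (14, 1), (16, 1), (17, 2), (18, 4), (20, 1), (21, 1), (22, 1), (23, 1), (25, 4), (37, 2), (38, 4), (39, 4), (40, 4), (44, 4)], [(5, 1), (6, 3), (7, 4), (8, 1), (9, 1), (10, 4), (11, 3), (12, 2), (13, 3), (14, 2), (16, 4), (17, 1), (18, 1), (19, 4), (24, 1), (25, 1), (38, 4), (39, 1), (40, 1), (45, 1)], [(6, 1)], [(7, 1)], [(8, 1)], [(2, 4), (6, 4), (7, 3), (8, 4), (9, 2), (11, 1), (12, 1), (13, 4), (14, 3), (16, 1), (17, 3), (19, 3), (20, 2), (21, 2), (22, 1), (23, 2), (24, 1), (37, 1), (39, 4), (40, 4)], [(2, 3), (3, 1), (4, 4), (5, 2), (6, 1), (7, 3),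 (8, 1), (9, 1), (10, 2), (12, 2), (14, 2), (15, 2), (16, 2), (17, 4), (18, 1), (25, 1), (30, 4), (31, 3), (32, 4), (33, 2), (37, 3), (38, 1), (39, 1), (40, 1), (44, 1)], [(2, 3), (4, 2), (6, 2), (8, 3), (9, 3), (10, 2), (11, 4), (12, 3), (13, 4), (14, 4), (16, 4), (17, 4), (19, 1), (20, 4), (21, 4), (23, 4), (38, 4), (39, 1), (40, 1), (45, 1)], [(2, 1), (3, 4), (4, 2), (5, 3), (6, 3), (7, 1), (8, 4), (9, 4), (10, 4), (11, 2), (12, 3), (13, 3), (14, 4), (15, 3), (16, 2), (17, 1), (19, 4), (24, 1), (30, 1), (31, 2), (32, 1), (33, 3), (37, 1), (38, 4), (44, 4), (45, 1)], [(2, 2), (4, 2), (6, 1), (7, 3), (8, 2), (9, 4), (10, 2), (11, 4), (12, 4), (13, 4), (14, 2), (17, 2), (19, 4), (20, 1), (21, 1), (22, 1), (23, 1), (24, 1), (37, 1), (38, 4), (45, 1)], [(2, 1), (3, 4), (4, 2), (5, 3), (7, 2), (8, 3), (9, 3), (11, 4), (14, 3), (15, 3), (16, 3), (18, 4), (25, 4), (30, 1), (31,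 2), (32, 1), (33, 3), (37, 1), (39, 4), (40, 4), (44, 4)], [(2, 3), (3, 1), (5, 3), (6, 1), (7, 3), (8, 1), (9, 1), (10, 2), (11, 4), (12, 2), (14, 2), (15, 2), (16, 2), (17, 4), (19, 1), (24, 4), (30, 4), (31, 2), (32, 4), (33, 2), (37, 1), (38, 4), (44, 4), (45, 1)], [(2, 1), (3, 1), (5, 4), (6, 1), (7, 2), (8, 1), (12, 3), (14, 2), (16, 4), (17, 3), (18, 4), (19, 2), (20, 4), (21, 4), (23, 4), (24, 4), (25, 4), (37, 1), (38, 4), (44, 4)], [(2, 3), (3, 4), (4, 3), (5, 1), (6, 1), (8, 4), (9, 2), (10, 2), (11, 4), (12, 3), (13, 4), (16, 4), (17, 4), (18, 1), (20, 4), (21, 4), (22, 4), (23, 4), (25, 1), (37, 4), (39, 1), (40, 1), (45, 1)], [(2, 4), (3, 1), (4, 4), (5, 2), (6, 2), (7, 4), (8, 2), (9, 1), (10, 1), (11, 4), (12, 2), (13, 1), (14, 1), (15, 2), (16, 2), (17, 4), (23, 4), (24, 4), (30, 4), (31, 2), (32, 4), (33, 2), (44, 4), (45, 1), (46, 1)], [(2, 3), (4, 1), (5,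 3), (6, 4), (8, 1), (9, 3), (10, 3), (11, 1), (12, 1), (13, 2), (15, 2), (16, 2), (17, 2), (18, 4), (19, 2), (20, 4), (21, 4), (22, 4), (23, 3), (24, 3), (30, 4), (31, 2), (32, 4), (33, 2), (44, 4), (45, 1), (46, 1)], [(20, 1)], [(2, 1), (3, 1), (4, 3), (5, 1), (6, 3), (7, 1), (8, 4), (9, 1), (11, 4), (12, 4), (13, 2), (14, 3), (15, 2), (16, 1), (17, 2), (18, 3), (19, 3), (20, 3), (21, 4), (23, 2), (24, 3), (25, 4), (30, 4), (31, 2), (32, 4), (33, 2), (37, 1), (38, 3), (39, 4), (44, 4), (45, 1), (46, 1)], [(5, 3), (6, 1), (7, 4), (8, 3), (9, 1), (10, 3), (11, 3), (12, 2), (13, 3), (14, 3), (15, 3), (16, 4), (18, 1), (19, 2), (20, 2), (21, 2), (22, 1), (23, 3), (24, 3), (25, 1), (30, 2), (31, 3), (33, 3), (37, 1), (39, 1), (46, 4)], [(23, 1)], [(2, 1), (3, 4), (4, 1), (5, 1), (6, 4), (8, 1), (11, 1), (12, 4), (13, 4), (14, 1), (16, 4), (19, 4), (23, 4), (30, 4), (31, 4), (32,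 1), (37, 1), (38, 4), (44, 4), (45, 1), (46, 1)], [(2, 3), (3, 1), (4, 4), (6, 4), (7, 3), (8, 3), (9, 1), (12, 2), (14, 3), (16, 2), (17, 3), (18, 1), (19, 3), (20, 2), (21, 2), (23, 3), (24, 2), (25, 2), (30, 1), (31, 1), (32, 4), (37, 4), (38, 2), (39, 1), (44, 1), (45, 4), (46, 4)], [(2, 1), (3, 1), (4, 1), (6, 2), (7, 2), (9, 4), (11, 4), (12, 4), (14, 1), (16, 4), (17, 2), (18, 4), (19, 3), (20, 3), (21, 3), (23, 3), (24, 4), (25, 4), (26, 1), (37, 1), (38, 4), (39, 4), (40, 4), (41, 4), (42, 2), (44, 4), (47, 4), (51, 4)], [(2, 2), (4, 3), (5, 2), (6, 1), (7, 4), (8, 3), (9, 2), (10, 1), (11, 4), (12, 2), (13, 1), (14, 1), (15, 1), (16, 1), (17, 4), (18, 1), (19, 3), (20, 4), (22, 4), (23, 4), (26, 3), (28, 3), (30, 3), (31, 1), (33, 1), (34, 2), (35, 3), (38, 3), (39, 2), (40, 1), (41, 1), (42, 1), (43, 3), (44, 1), (45, 3), (46, 1), (47, 3), (48, 1), (50, 2), (51,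 4)], [(2, 3), (3, 1), (5, 2), (7, 2), (8, 4), (9, 1), (10, 3), (12, 2), (13, 1), (14, 1), (16, 1), (17, 2), (18, 1), (19, 2), (20, 2), (21, 4), (22, 4), (23, 2), (24, 1), (25, 4), (26, 1), (27, 3), (28, 2), (30, 2), (31, 4), (32, 1), (34, 4), (35, 1), (37, 4), (39, 3), (40, 2), (41, 3), (42, 2), (43, 1), (44, 3), (45, 1), (46, 2), (47, 1), (48, 2), (50, 4), (51, 4)], [(2, 1), (3, 4), (4, 4), (5, 2), (6, 2), (7, 4), (9, 1), (10, 1), (11, 4), (12, 3), (13, 4), (14, 2), (15, 4), (19, 1), (20, 2), (21, 2), (23, 3), (24, 4), (26, 2), (27, 1), (28, 2), (29, 1), (30, 2), (31, 4), (33, 4), (34, 3), (35, 2), (37, 1), (38, 3), (39, 2), (40, 2), (42, 4), (44, 2), (45, 2), (46, 4), (47, 3), (50, 3)], [(2, 1), (3, 1), (5, 2), (6, 3), (7, 2), (8, 3), (10, 3), (11, 2), (12, 2), (14, 3), (15, 2), (16, 3), (17, 1), (20, 1), (21, 1), (22, 1), (23, 1), (31, 3), (32, 4), (33, 2)], [(3, 1), (9,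 1), (12, 4), (13, 1), (15, 4), (16, 1), (17, 1)], [(2, 3), (3, 1), (4, 4), (5, 2), (6, 4), (8, 1), (9, 4), (10, 2), (11, 1), (13, 3), (15, 2), (16, 3), (17, 3), (18, 4), (19, 2), (20, 4), (21, 4), (22, 4), (23, 4), (24, 4), (31, 3), (32, 4), (33, 2)], [(33, 1)], [(2, 3), (3, 2), (4, 4), (5, 1), (6, 2), (7, 3), (8, 2), (9, 2), (10, 1), (12, 1), (14, 1), (15, 3), (16, 2), (20, 4), (21, 4), (23, 4), (24, 1), (26, 1), (27, 3), (28, 1), (31, 3), (33, 3), (35, 1), (50, 4)], [(35, 1)], [(2, 2), (4, 4), (5, 4), (6, 1), (7, 4), (8, 1), (9, 3), (10, 1), (11, 3), (12, 1), (13, 3), (14, 2), (15, 3), (16, 2), (17, 1), (18, 3), (19, 2), (20, 1), (21, 2), (23, 2), (24, 1), (25, 1), (26, 1), (27, 3), (28, 1), (30, 4), (31, 3), (32, 1), (33, 3), (34, 4), (35, 1), (36, 1), (37, 4), (38, 1), (40, 4), (41, 2), (43, 3), (47, 1), (48, 1), (50, 4)], [(2, 1), (4, 3), (6, 3), (7, 4), (8, 1), (9, 2),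 (10, 3), (11, 2), (12, 2), (14, 1), (16, 1), (17, 1), (18, 1), (19, 4), (24, 1), (25, 1), (37, 4), (38, 1), (39, 1), (40, 1)], [(2, 1), (3, 4), (4, 4), (5, 1), (6, 4), (8, 1), (10, 4), (12, 4), (13, 1), (14, 1), (16, 1), (18, 1), (20, 4), (21, 4), (22, 4), (23, 4), (25, 1), (37, 4), (38, 1), (39, 1), (40, 1)], [(5, 4), (6, 1), (14, 4), (18, 4), (19, 1), (22, 1), (25, 4), (37, 1), (38, 4), (39, 4), (40, 4)], [(40, 1)], [(2, 4), (4, 3), (5, 2), (6, 2), (7, 1), (8, 4), (9, 2), (10, 2), (11, 2), (12, 4), (14, 4), (17, 3), (19, 1), (20, 4), (21, 4), (22, 4), (23, 4), (24, 4), (37, 1), (44, 3), (51, 4)], [(8, 1), (40, 1), (42, 4), (47, 1)], [(2, 1), (3, 1), (4, 3), (5, 4), (8, 4), (9, 1), (11, 4), (12, 4), (13, 2), (14, 4), (15, 2), (16, 1), (18, 4), (19, 3), (20, 3), (21, 4), (22, 4), (23, 3), (24, 2), (25, 4), (30, 4), (31, 2), (32, 4), (33, 2), (37, 1), (38, 4), (39, 4), (40,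 4), (41, 1), (43, 4), (44, 3), (45, 1), (46, 1), (47, 1), (48, 1), (51, 4)], [(44, 4)], [(2, 4), (4, 2), (6, 3), (7, 2), (8, 4), (9, 2), (10, 2), (11, 2), (12, 4), (13, 2), (14, 4), (17, 4), (19, 1), (20, 4), (21, 4), (22, 4), (23, 4), (24, 4), (44, 4)], [(2, 2), (3, 1), (4, 1), (5, 3), (6, 2), (7, 3), (10, 3), (11, 3), (12, 4), (14, 1), (15, 1), (16, 2), (17, 3), (19, 1), (24, 4), (30, 4), (31, 2), (32, 4), (33, 2), (44, 4), (45, 1), (46, 1)], [(47, 1)], [(48, 1)], [(2, 3), (3, 1), (4, 4), (5, 3), (7, 3), (8, 3), (9, 1), (10, 3), (11, 3), (12, 3), (16, 2), (17, 1), (18, 4), (19, 3), (20, 3), (21, 3), (23, 3), (24, 4), (25, 4), (38, 4), (39, 4), (40, 4), (42, 2), (44, 4), (47, 4), (49, 1)], [(2, 2), (3, 2), (4, 3), (5, 1), (9, 4), (10, 4), (11, 3), (12, 3), (14, 2), (15, 2), (17, 1), (19, 3), (20, 2), (21, 2), (23, 2), (24, 4), (25, 4), (26, 1), (27, 3), (28, 1), (30, 4),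 (31, 2), (32, 1), (33, 3), (34, 4), (35, 1), (38, 4), (39, 4), (40, 4), (42, 2), (47, 4)], [(2, 2), (3, 1), (4, 3), (5, 1), (6, 2), (7, 4), (8, 2), (9, 3), (10, 2), (11, 3), (13, 4), (14, 2), (16, 1), (17, 2), (18, 1), (19, 4), (24, 1), (25, 1), (39, 1), (40, 1), (41, 4)]]

/-- Columns. -/
def g46 : List ℕ := mkCols [[(0, 1)], [(1, 1)], [(2, 1), (4, 3), (6, 4), (8, 1), (9, 1), (10, 3), (11, 1), (12, 3), (13, 1), (44, 1)], [(2, 4), (3, 1), (4, 3), (5, 1), (6, 2), (8, 4), (12, 4), (13, 1), (14, 3), (15, 2), (16, 1), (17, 2), (19, 2), (20, 4), (21, 4), (22, 4), (23, 4), (29, 2), (30, 1), (31, 3), (32, 4), (33, 2), (34, 1), (35, 3)], [(2, 4), (3, 3), (4, 1), (5, 2), (6, 4), (7, 3), (9, 4), (11, 4), (12, 4), (13, 2), (14, 4), (16, 3), (17, 2), (18, 3), (19, 4), (20, 3), (21, 3), (22, 1), (23, 3), (24, 4), (25, 3), (26, 1), (27, 3), (28, 1), (37, 2), (38, 3), (39, 3), (40, 3), (42,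 2)], [(2, 4), (3, 4), (4, 4), (5, 4), (6, 2), (7, 3), (9, 1), (10, 2), (11, 2), (12, 1), (13, 1), (15, 4), (16, 3), (17, 1), (19, 4), (24, 4), (29, 3), (30, 4), (31, 2), (32, 1), (33, 3), (34, 4), (35, 2), (47, 4)], [(2, 2), (3, 2), (4, 2), (5, 1), (6, 3), (8, 1), (9, 4), (11, 4), (12, 2), (13, 4), (14, 3), (15, 3), (16, 4), (17, 2), (19, 3), (20, 1), (21, 1), (23, 1), (24, 4), (26, 4), (27, 2), (28, 4), (29, 3), (30, 4), (31, 2), (32, 1), (33, 3), (34, 4), (35, 2), (47, 4)], [(2, 2), (3, 2), (4, 2), (5, 1), (6, 2), (7, 1), (8, 1), (9, 4), (11, 4), (12, 2), (13, 4), (14, 3), (15, 3), (16, 4), (17, 2), (19, 3), (20, 1), (21, 1), (23, 1), (24, 4), (26, 4), (27, 2), (28, 4), (29, 3), (30, 4), (31, 2), (32, 1), (33, 3), (34, 4), (35, 2), (47, 4)], [(3, 3), (4, 1), (5, 4), (6, 1), (7, 4), (8, 4), (9, 4), (10, 4), (11, 2), (12, 4), (13, 3), (14, 2), (15, 2), (16, 4), (17, 4), (18,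 1), (19, 2), (20, 3), (21, 3), (23, 3), (24, 2), (25, 1), (26, 4), (27, 2), (28, 4), (29, 2), (30, 1), (31, 3), (32, 4), (33, 2), (34, 1), (35, 3), (38, 1), (39, 1), (40, 1), (42, 3), (47, 1)], [(2, 3), (3, 3), (4, 1), (5, 2), (6, 4), (7, 1), (8, 1), (9, 1), (10, 2), (11, 3), (12, 1), (13, 3), (14, 1), (16, 2), (19, 2), (20, 3), (21, 3), (22, 1), (23, 3), (24, 1), (26, 4), (27, 2), (28, 4), (37, 1), (42, 4)], [(2, 2), (3, 3), (4, 3), (6, 3), (7, 4), (8, 4), (9, 2), (10, 2), (11, 4), (12, 1), (13, 4), (14, 4), (15, 2), (17, 4), (18, 2), (19, 1), (20, 3), (21, 3), (23, 3), (24, 1), (25, 2), (26, 4), (27, 2), (28, 4), (30, 4), (31, 3), (32, 4), (33, 2), (37, 3), (38, 2), (39, 2), (40, 2), (42, 3), (44, 2)], [(11, 1)], [(4, 4), (5, 4), (6, 4), (7, 4), (8, 2), (9, 1), (10, 4), (11, 2), (12, 3), (13, 4), (17, 2), (19, 4), (20, 1), (21, 1), (23, 1), (24, 2), (29, 2), (30, 2), (34,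 1), (35, 3), (37, 1), (42, 4), (44, 4), (47, 1)], [(2, 1), (3, 3), (4, 3), (5, 2), (6, 1), (7, 2), (8, 2), (9, 2), (10, 3), (11, 2), (13, 2), (14, 1), (16, 4), (17, 4), (18, 4), (19, 2), (20, 4), (21, 4), (22, 1), (23, 4), (25, 4), (26, 1), (27, 3), (28, 1), (37, 1), (38, 4), (39, 4), (40, 4), (42, 1)], [(2, 2), (4, 2), (5, 2), (7, 3), (8, 4), (9, 4), (10, 4), (11, 1), (12, 1), (13, 4), (14, 1), (15, 2), (16, 2), (17, 4), (18, 4), (19, 1), (20, 4), (21, 4), (23, 4), (25, 4), (30, 1), (31, 2), (32, 1), (33, 3), (37, 1), (38, 4), (39, 4), (40, 4), (42, 1), (44, 4), (47, 4)], [(2, 2), (3, 3), (4, 3), (5, 3), (7, 3), (8, 4), (9, 2), (10, 2), (11, 3), (12, 2), (13, 1), (14, 4), (16, 3), (17, 1), (18, 4), (19, 3), (20, 3), (21, 3), (23, 3), (24, 4), (25, 4), (26, 1), (27, 3), (28, 1), (37, 1), (38, 4), (39, 4), (40, 4), (42, 1)], [(2, 2), (4, 2), (5, 1), (6, 1), (7, 4), (8, 3),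 (9, 3), (10, 2), (11, 3), (14, 2), (16, 1), (17, 1), (19, 4), (20, 1), (21, 1), (23, 1), (37, 1), (42, 4), (47, 1)], [(2, 2), (3, 2), (4, 4), (5, 3), (6, 1), (7, 4), (8, 4), (10, 3), (11, 2), (12, 4), (13, 2), (14, 4), (16, 3), (17, 1), (19, 3), (20, 2), (21, 2), (22, 4), (23, 2), (24, 4), (26, 1), (27, 3), (28, 1), (37, 4), (42, 1)], [(3, 3), (5, 2), (6, 4), (7, 3), (8, 2), (10, 1), (11, 3), (12, 4), (13, 4), (14, 4), (16, 1), (17, 2), (19, 3), (20, 2), (21, 2), (23, 2), (26, 4), (27, 3), (28, 3), (29, 4), (49, 1)], [(2, 2), (3, 4), (4, 1), (5, 1), (7, 3), (9, 3), (10, 2), (11, 3), (12, 2), (13, 4), (15, 3), (16, 2), (17, 4), (18, 4), (20, 4), (21, 4), (22, 4), (23, 4), (24, 2), (25, 4), (26, 2), (27, 2), (28, 1), (29, 1), (30, 1), (31, 4), (33, 4), (34, 3), (35, 1), (38, 2), (39, 2), (40, 2), (42, 1), (44, 2), (45, 2), (47, 2), (49, 1), (50, 3)], [(2, 4), (5, 4), (6, 4),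 (7, 1), (9, 4), (10, 2), (13, 2), (14, 2), (15, 1), (16, 1), (17, 3), (18, 2), (20, 2), (21, 4), (23, 1), (24, 1), (25, 4), (26, 3), (27, 3), (28, 4), (29, 3), (30, 1), (32, 1), (33, 1), (35, 4), (37, 1), (38, 3), (40, 1), (42, 2), (43, 4), (45, 4), (46, 3), (47, 2), (48, 3), (49, 4), (50, 1), (51, 1)], [(2, 2), (3, 3), (4, 3), (5, 4), (6, 4), (7, 3), (9, 1), (10, 2), (11, 3), (12, 2), (13, 2), (14, 3), (16, 2), (17, 4), (18, 4), (19, 4), (20, 2), (21, 4), (23, 2), (24, 3), (25, 3), (26, 1), (27, 2), (28, 2), (29, 1), (37, 1), (38, 4), (39, 3), (40, 3), (41, 2), (42, 1), (43, 3), (44, 4), (46, 1), (47, 1), (48, 1), (49, 4), (51, 4)], [(2, 4), (4, 4), (6, 1), (11, 3), (12, 3), (13, 2), (14, 2), (15, 1), (16, 1), (17, 2), (18, 4), (19, 4), (20, 1), (21, 1), (22, 1), (23, 1), (27, 4), (28, 1), (29, 4), (30, 1), (35, 1), (37, 1), (41, 1), (42, 4), (49, 4)], [(3, 1), (4, 2), (5,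 1), (7, 1), (8, 4), (9, 4), (11, 1), (12, 1), (13, 1), (14, 4), (15, 1), (16, 2), (17, 3), (18, 2), (19, 1), (21, 1), (23, 1), (24, 2), (25, 1), (26, 3), (27, 2), (30, 4), (31, 1), (33, 1), (34, 2), (35, 4), (37, 4), (38, 4), (39, 3), (40, 2), (41, 2), (42, 4), (43, 3), (44, 3), (45, 3), (46, 1), (47, 4), (48, 1), (49, 3), (50, 2)], [(2, 2), (3, 3), (5, 1), (6, 3), (9, 1), (11, 1), (12, 4), (13, 4), (14, 2), (15, 1), (16, 4), (19, 4), (25, 4), (27, 1), (28, 4), (29, 4), (30, 4), (31, 4), (32, 2), (33, 1), (34, 4), (35, 1), (37, 1), (38, 4), (39, 4), (40, 4), (42, 1), (44, 4), (47, 4), (49, 1)], [(4, 3), (5, 2), (6, 1), (8, 1), (9, 1), (12, 2), (13, 1), (14, 1), (15, 3), (17, 4), (18, 1), (19, 1), (20, 2), (21, 2), (23, 2), (24, 3), (25, 2), (26, 2), (28, 3), (29, 1), (31, 4), (32, 3), (33, 3), (34, 3), (35, 2), (37, 4), (38, 4), (39, 4), (40, 4), (41, 1), (42, 3), (44, 4),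 (45, 3), (47, 3), (49, 4), (50, 3)], [(2, 3), (3, 3), (4, 3), (5, 2), (6, 2), (7, 3), (8, 1), (9, 2), (10, 3), (11, 1), (12, 2), (13, 4), (14, 2), (16, 1), (17, 1), (27, 2), (28, 4), (41, 4)], [(2, 2), (3, 2), (4, 2), (5, 1), (6, 1), (7, 2), (8, 3), (9, 2), (10, 2), (11, 3), (12, 2), (13, 4), (14, 3), (16, 3), (17, 1), (18, 4), (19, 2), (20, 4), (21, 4), (22, 4), (23, 4), (24, 3), (25, 4), (26, 4), (28, 2), (30, 4), (35, 4), (38, 4), (39, 4), (40, 4), (41, 4), (42, 2), (44, 4), (47, 4), (49, 2)], [(2, 2), (3, 1), (5, 1), (6, 4), (7, 3), (8, 4), (12, 2), (13, 3), (14, 3), (15, 1), (16, 2), (18, 3), (19, 2), (20, 3), (21, 3), (22, 4), (23, 3), (24, 2), (25, 3), (26, 4), (27, 1), (28, 1), (29, 3), (30, 3), (31, 4), (32, 2), (33, 1), (34, 4), (38, 3), (39, 3), (40, 3), (41, 3), (42, 4), (44, 3), (47, 3), (49, 4)], [(2, 1), (3, 1), (4, 3), (8, 2), (9, 2), (10, 3), (12, 3), (13,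 1), (16, 1), (17, 1), (18, 4), (27, 4), (28, 1), (30, 1), (35, 1), (37, 1), (42, 4), (49, 4)], [(2, 1), (3, 1), (5, 2), (6, 3), (7, 2), (8, 3), (10, 3), (11, 2), (12, 2), (14, 3), (15, 2), (16, 3), (17, 1), (20, 1), (21, 1), (22, 1), (23, 1), (31, 3), (32, 4), (33, 2), (44, 1)], [(4, 4), (6, 4), (8, 1), (9, 1), (10, 4), (11, 1), (12, 3), (13, 1), (45, 1)], [(3, 4), (4, 3), (5, 2), (6, 2), (8, 3), (9, 4), (10, 1), (11, 3), (12, 1), (13, 1), (14, 3), (15, 2), (16, 1), (17, 1), (18, 4), (19, 3), (20, 4), (21, 4), (22, 4), (23, 4), (24, 4), (25, 4), (26, 4), (27, 2), (28, 4), (29, 2), (30, 1), (31, 3), (32, 4), (33, 2), (34, 1), (35, 3), (50, 1)], [(2, 4), (4, 3), (5, 3), (6, 2), (7, 2), (9, 2), (10, 1), (11, 2), (13, 1), (15, 3), (16, 4), (17, 2), (18, 4), (19, 4), (20, 1), (21, 1), (23, 1), (25, 1), (29, 3), (31, 3), (33, 3), (35, 1), (50, 4)], [(34, 1)], [(35, 1)], [(2, 2),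 (3, 1), (4, 3), (5, 2), (6, 4), (7, 3), (8, 3), (9, 4), (10, 2), (12, 4), (14, 3), (18, 2), (19, 3), (21, 1), (24, 4), (25, 1), (26, 1), (27, 2), (28, 2), (29, 4), (30, 3), (32, 1), (34, 4), (35, 2), (36, 1), (37, 4), (38, 1), (40, 4), (41, 2), (43, 3), (46, 1), (47, 1), (48, 1), (49, 4), (50, 4)], [(2, 1), (4, 3), (6, 3), (7, 4), (8, 1), (9, 2), (10, 3), (11, 2), (12, 2), (14, 1), (16, 1), (17, 1), (18, 1), (19, 4), (24, 1), (25, 1), (37, 4), (38, 1), (39, 1), (40, 1), (44, 1)], [(2, 2), (3, 4), (4, 2), (5, 2), (6, 1), (7, 4), (8, 4), (9, 2), (10, 4), (12, 3), (15, 3), (16, 2), (17, 3), (19, 1), (20, 3), (21, 3), (22, 4), (23, 3), (30, 1), (31, 3), (32, 1), (33, 3), (37, 4), (38, 1), (42, 1), (45, 4), (47, 4)], [(2, 3), (3, 1), (4, 3), (6, 4), (7, 1), (8, 2), (9, 2), (10, 3), (11, 1), (14, 2), (16, 4), (17, 3), (18, 3), (19, 3), (20, 4), (21, 4), (22, 1), (23, 4), (24, 4),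 (25, 3), (37, 2), (38, 3), (39, 4), (40, 4), (42, 1), (44, 4), (51, 4)], [(2, 1), (4, 3), (5, 4), (6, 4), (7, 4), (8, 1), (9, 2), (10, 3), (11, 2), (12, 2), (14, 1), (16, 1), (17, 2), (18, 1), (19, 4), (24, 1), (25, 1), (37, 4), (38, 1), (39, 1), (40, 1), (41, 4), (44, 1), (51, 1)], [(2, 1), (6, 1), (7, 2), (8, 2), (9, 4), (10, 4), (12, 3), (13, 1), (14, 2), (16, 4), (17, 2), (19, 2), (20, 3), (21, 3), (22, 4), (23, 3), (24, 4)], [(2, 1), (3, 3), (4, 4), (5, 2), (6, 2), (7, 2), (9, 2), (10, 4), (11, 1), (13, 3), (16, 2), (17, 4), (18, 1), (19, 2), (20, 2), (21, 2), (23, 2), (24, 1), (25, 1), (26, 4), (27, 2), (28, 4), (38, 1), (39, 1), (40, 1), (41, 4), (42, 4)], [(2, 2), (3, 1), (4, 1), (6, 2), (7, 4), (8, 2), (9, 3), (11, 4), (12, 3), (13, 1), (14, 3), (16, 2), (17, 3), (18, 3), (19, 4), (20, 2), (21, 3), (22, 4), (23, 2), (24, 2), (25, 3), (37, 1), (38, 4), (39, 3), (40,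 3), (41, 1), (42, 1), (43, 4), (44, 3), (46, 1), (48, 1), (51, 4)], [(44, 1)], [(2, 4), (3, 4), (4, 4), (5, 3), (6, 2), (7, 3), (8, 2), (10, 1), (11, 3), (12, 3), (14, 2), (15, 3), (16, 2), (17, 4), (20, 4), (21, 4), (22, 4), (23, 4), (30, 1), (31, 3), (32, 1), (33, 3)], [(2, 2), (3, 1), (4, 1), (5, 3), (6, 2), (7, 3), (10, 3), (11, 3), (12, 4), (14, 1), (15, 1), (16, 2), (17, 3), (19, 1), (24, 4), (30, 4), (31, 2), (32, 4), (33, 2), (45, 1), (46, 1)], [(2, 1), (3, 2), (4, 3), (6, 4), (7, 1), (9, 3), (10, 1), (11, 3), (12, 4), (13, 4), (14, 2), (15, 3), (16, 4), (17, 2), (19, 3), (20, 1), (21, 1), (23, 1), (24, 4), (26, 4), (27, 2), (28, 4), (29, 3), (30, 4), (31, 2), (32, 1), (33, 3), (34, 4), (35, 2), (47, 4)], [(2, 3), (3, 1), (4, 4), (5, 1), (7, 3), (8, 3), (9, 1), (10, 4), (11, 4), (12, 4), (13, 3), (15, 2), (16, 2), (17, 4), (18, 3), (19, 2), (20, 1), (23, 1), (24, 2),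 (25, 4), (26, 1), (28, 4), (29, 3), (31, 1), (32, 1), (33, 2), (34, 2), (35, 3), (37, 1), (38, 1), (39, 2), (40, 3), (41, 3), (42, 1), (43, 2), (44, 2), (45, 2), (46, 4), (47, 1), (49, 2), (50, 3)], [(49, 1)], [(2, 2), (3, 4), (5, 4), (7, 1), (9, 1), (10, 2), (11, 4), (12, 4), (15, 2), (16, 3), (17, 1), (18, 1), (19, 4), (20, 1), (21, 1), (23, 1), (25, 1), (30, 4), (31, 2), (33, 2), (45, 1)], [(2, 1), (4, 3), (6, 4), (7, 1), (8, 2), (9, 1), (10, 3), (11, 1), (12, 3), (13, 1), (15, 1), (40, 1), (42, 4)]]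

/-- Columns. -/
def g47 : List ℕ := mkCols [[(0, 1)], [(1, 1)], [(4, 1), (5, 1), (7, 4), (13, 4), (15, 4), (46, 1), (49, 4)], [(2, 2), (3, 2), (5, 3), (6, 2), (7, 3), (8, 1), (10, 3), (11, 2), (12, 2), (14, 1), (15, 1), (16, 2), (17, 4), (18, 1), (19, 2), (24, 4), (25, 1), (26, 3), (27, 3), (28, 4), (29, 1), (30, 1), (31, 2), (33, 1), (34, 3), (35, 2), (38, 3), (39, 3), (40, 3), (42, 4), (44, 3), (45, 2), (47, 3), (49, 4), (50, 2)], [(2, 2), (3, 3), (4, 4), (5, 4), (6, 4), (7, 3), (9, 1), (10, 2), (11, 3), (12, 2), (13, 2), (14, 3), (16, 2), (17, 4), (18, 4), (19, 4), (20, 2), (21, 3), (23, 2), (24, 3), (25, 3), (26, 1), (27, 2), (28, 2), (29, 1), (37, 1), (38, 4), (39, 3), (40, 3), (41, 2), (42, 1), (43, 3), (44, 4), (46, 1), (47, 1), (48, 1), (49, 4), (51, 4)], [(2, 1), (3, 3), (4, 3), (5, 4), (6, 1), (7, 4), (8, 3), (9, 1), (10, 3), (11, 1), (12, 4), (14, 1), (16, 3),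 (17, 2), (18, 3), (19, 3), (20, 3), (21, 2), (23, 2), (24, 3), (25, 4), (26, 4), (27, 3), (28, 3), (29, 4), (30, 4), (31, 4), (38, 3), (40, 1), (41, 3), (42, 1), (43, 2), (45, 1), (47, 3), (48, 4), (49, 1), (50, 1), (51, 1)], [(2, 4), (3, 1), (4, 2), (7, 3), (8, 4), (9, 3), (10, 2), (11, 1), (12, 1), (13, 3), (14, 1), (15, 2), (16, 3), (17, 1), (18, 4), (19, 1), (20, 2), (23, 2), (24, 3), (26, 1), (28, 4), (29, 3), (31, 1), (32, 1), (33, 2), (34, 2), (35, 3), (38, 2), (39, 3), (40, 3), (41, 2), (42, 1), (43, 2), (44, 3), (45, 2), (46, 4), (48, 3), (49, 2), (50, 3), (51, 1)], [(2, 2), (3, 1), (6, 2), (7, 4), (8, 2), (11, 3), (12, 1), (13, 3), (14, 4), (15, 2), (16, 2), (17, 4), (18, 3), (19, 2), (24, 2), (25, 4), (26, 1), (28, 4), (29, 3), (31, 1), (32, 1), (33, 2), (34, 2), (35, 3), (37, 1), (38, 1), (39, 2), (40, 3), (41, 3), (42, 1), (43, 2), (44, 2), (45, 2), (46, 4), (47,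 1), (49, 2), (50, 3)], [(2, 3), (3, 4), (4, 4), (5, 4), (6, 1), (7, 2), (8, 4), (10, 4), (12, 1), (15, 2), (16, 3), (17, 1), (20, 2), (21, 2), (23, 2), (24, 4), (25, 1), (26, 2), (27, 1), (28, 2), (30, 1), (31, 2), (33, 1), (34, 3), (35, 2), (38, 3), (39, 3), (40, 3), (42, 4), (44, 3), (45, 2), (46, 4), (47, 3), (50, 2)], [(2, 1), (3, 3), (5, 1), (6, 1), (7, 1), (8, 1), (9, 4), (10, 3), (12, 3), (13, 4), (14, 1), (15, 4), (18, 3), (19, 2), (20, 3), (21, 2), (23, 3), (24, 4), (26, 1), (28, 4), (30, 2), (31, 4), (32, 4), (33, 4), (34, 4), (35, 1), (36, 4), (37, 1), (38, 2), (39, 2), (40, 2), (41, 3), (42, 1), (43, 1), (44, 2), (45, 2), (46, 4), (47, 1), (48, 4), (49, 2), (50, 3)], [(2, 1), (3, 3), (4, 2), (5, 3), (6, 1), (7, 3), (8, 4), (9, 2), (10, 3), (11, 1), (12, 2), (13, 4), (14, 4), (15, 1), (16, 3), (17, 1), (18, 4), (19, 1), (20, 2), (21, 1), (23, 2), (24, 4), (25, 1),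 (26, 1), (27, 4), (29, 4), (30, 1), (31, 2), (32, 4), (33, 1), (34, 3), (35, 2), (37, 4), (38, 3), (39, 4), (40, 4), (41, 3), (43, 2), (44, 4), (45, 2), (46, 4), (47, 1), (48, 4), (49, 1), (50, 3), (51, 1)], [(2, 3), (4, 2), (5, 3), (6, 4), (9, 4), (11, 1), (13, 2), (14, 3), (15, 2), (16, 1), (17, 2), (20, 4), (21, 1), (23, 1), (24, 4), (25, 4), (26, 4), (27, 3), (28, 3), (29, 1), (30, 1), (31, 2), (32, 3), (33, 2), (34, 2), (35, 3), (36, 4), (37, 1), (38, 3), (39, 1), (40, 3), (41, 1), (42, 4), (43, 4), (45, 1), (46, 1), (47, 3), (48, 2), (49, 1), (50, 1), (51, 1)], [(3, 1), (4, 3), (6, 4), (7, 1), (11, 4), (13, 1), (14, 2), (15, 2), (16, 1), (17, 3), (18, 3), (19, 2), (21, 4), (23, 3), (29, 2), (30, 1), (31, 2), (32, 4), (33, 2), (34, 2), (35, 3), (36, 4), (37, 1), (38, 4), (40, 1), (41, 4), (42, 4), (43, 1), (44, 4), (45, 1), (46, 1), (48, 4)], [(3, 2), (4, 2), (6, 2),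 (8, 2), (9, 2), (10, 2), (11, 3), (12, 2), (13, 3), (14, 2), (15, 3), (16, 1), (17, 2), (18, 4), (19, 1), (20, 3), (21, 3), (23, 2), (25, 4), (26, 3), (27, 3), (28, 4), (29, 1), (30, 4), (31, 3), (32, 4), (33, 3), (34, 3), (35, 2), (38, 2), (39, 2), (40, 2), (41, 1), (43, 4), (44, 2), (45, 4), (46, 2), (47, 3), (49, 4), (50, 3)], [(2, 3), (4, 1), (5, 4), (6, 1), (7, 3), (8, 4), (10, 4), (11, 2), (12, 3), (13, 4), (14, 3), (15, 2), (16, 1), (17, 3), (18, 1), (19, 1), (24, 3), (26, 3), (27, 4), (28, 3), (31, 1), (32, 2), (33, 2), (34, 2), (35, 3), (38, 3), (39, 2), (40, 1), (42, 1), (43, 4), (44, 2), (45, 2), (47, 2), (49, 1), (50, 2)], [(2, 3), (3, 4), (4, 2), (5, 2), (6, 3), (7, 4), (8, 2), (9, 3), (11, 2), (12, 1), (13, 1), (14, 2), (16, 1), (17, 4), (19, 4), (20, 2), (21, 2), (23, 2), (24, 4), (25, 4), (26, 1), (27, 2), (28, 2), (29, 1), (38, 4), (39, 4), (40, 4), (41, 1),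 (42, 1), (43, 4)], [(3, 2), (4, 3), (5, 2), (6, 2), (7, 1), (9, 1), (10, 2), (11, 2), (12, 1), (13, 1), (14, 1), (16, 2), (17, 4), (18, 2), (20, 2), (21, 1), (23, 1), (24, 3), (25, 3), (37, 1), (38, 3), (39, 4), (41, 4), (42, 1), (43, 1), (44, 4), (47, 4), (48, 4), (49, 1)], [(2, 3), (3, 1), (4, 1), (5, 2), (6, 4), (7, 1), (8, 2), (9, 3), (10, 4), (11, 1), (12, 2), (13, 1), (14, 2), (15, 1), (17, 1), (19, 4), (20, 3), (21, 3), (23, 2), (24, 2), (26, 3), (27, 3), (28, 4), (29, 1), (31, 1), (33, 1), (34, 3), (35, 2), (38, 2), (39, 3), (40, 4), (42, 4), (43, 1), (44, 3), (45, 3), (47, 3), (49, 4), (50, 3)], [(3, 3), (5, 2), (6, 4), (7, 3), (8, 2), (10, 1), (11, 3), (12, 4), (13, 4), (14, 4), (16, 1), (17, 2), (19, 3), (20, 2), (21, 2), (23, 2), (26, 4), (27, 3), (28, 3), (29, 4)], [(2, 1), (5, 2), (6, 4), (7, 2), (8, 3), (9, 4), (10, 3), (11, 1), (12, 3), (14, 3), (15, 3), (16,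 3), (17, 1), (24, 1), (30, 1), (31, 3), (32, 1), (33, 3), (44, 1), (45, 4), (46, 4)], [(2, 1), (4, 4), (5, 3), (6, 1), (7, 2), (8, 3), (9, 4), (10, 2), (11, 3), (12, 1), (13, 2), (14, 2), (15, 3), (17, 4), (18, 1), (19, 1), (20, 2), (21, 2), (23, 2), (24, 4), (26, 4), (27, 3), (28, 3), (29, 2), (30, 3), (31, 2), (32, 2), (33, 3), (34, 3), (35, 2), (36, 1), (48, 1)], [(2, 2), (3, 4), (4, 3), (5, 1), (6, 1), (7, 1), (10, 2), (11, 4), (13, 3), (17, 2), (18, 4), (19, 1), (20, 1), (21, 2), (23, 1), (24, 3), (25, 3), (26, 1), (27, 2), (28, 2), (29, 1), (38, 3), (39, 3), (40, 3), (41, 2), (42, 2), (43, 3)], [(22, 1)], [(23, 1)], [(2, 2), (3, 2), (5, 1), (6, 2), (7, 1), (8, 2), (9, 3), (10, 1), (11, 1), (13, 3), (15, 3), (16, 1), (17, 3), (18, 1), (19, 4), (20, 3), (21, 4), (23, 3), (24, 3), (25, 4), (29, 3), (30, 2), (31, 1), (32, 3), (33, 3), (34, 3), (35, 2), (36, 1), (38, 4),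 (39, 4), (40, 4), (41, 1), (42, 1), (43, 4), (44, 4), (45, 1), (46, 1), (48, 1)], [(2, 3), (3, 1), (4, 4), (6, 4), (7, 3), (8, 3), (9, 1), (12, 2), (14, 3), (16, 2), (17, 3), (18, 1), (19, 3), (20, 2), (21, 2), (23, 3), (24, 2), (25, 2), (30, 1), (31, 1), (32, 4), (37, 4), (38, 2), (39, 1), (44, 1), (45, 4), (46, 4)], [(2, 1), (3, 3), (4, 4), (5, 2), (6, 4), (7, 4), (8, 4), (10, 2), (11, 1), (13, 4), (14, 2), (15, 4), (16, 2), (18, 3), (19, 1), (21, 4), (25, 4), (27, 3), (28, 3), (29, 4), (30, 1), (31, 3), (32, 1), (33, 3), (37, 1), (38, 4), (39, 4), (40, 4), (41, 3), (42, 2), (43, 1), (44, 4), (45, 4), (46, 4), (47, 3), (48, 4), (49, 2)], [(2, 3), (3, 2), (5, 4), (6, 4), (7, 1), (8, 1), (9, 4), (10, 4), (11, 3), (12, 2), (13, 4), (14, 2), (15, 4), (17, 4), (18, 4), (19, 3), (20, 2), (21, 1), (23, 2), (24, 1), (26, 4), (27, 4), (28, 3), (29, 4), (30, 1), (31, 3), (32, 1),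 (33, 3), (37, 1), (41, 3), (43, 1), (45, 4), (46, 4), (47, 4), (48, 4), (49, 1)], [(2, 2), (3, 1), (4, 1), (5, 3), (6, 4), (7, 3), (8, 1), (10, 2), (11, 2), (13, 3), (15, 1), (16, 1), (17, 2), (18, 4), (19, 3), (20, 1), (21, 1), (23, 1), (24, 4), (25, 4), (26, 4), (27, 4), (28, 3), (29, 3), (30, 4), (31, 4), (32, 2), (33, 1), (34, 4), (35, 1), (37, 1), (38, 4), (39, 4), (40, 4), (41, 4), (42, 1), (44, 4), (47, 4), (49, 1)], [(2, 2), (4, 2), (5, 2), (6, 3), (7, 2), (8, 3), (10, 1), (11, 1), (12, 2), (13, 3), (14, 4), (15, 4), (16, 1), (17, 2), (18, 2), (19, 3), (20, 2), (21, 2), (23, 3), (24, 1), (25, 1), (29, 1), (38, 1), (40, 4), (43, 4)], [(3, 1), (4, 2), (5, 4), (6, 2), (7, 2), (8, 2), (9, 4), (10, 1), (12, 3), (13, 2), (14, 1), (15, 2), (16, 2), (17, 3), (18, 1), (19, 4), (21, 4), (23, 4), (25, 4), (26, 4), (27, 3), (28, 3), (29, 1), (30, 3), (31, 3), (32, 2), (33, 2),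 (34, 2), (35, 3), (36, 4), (37, 1), (38, 4), (40, 1), (41, 3), (43, 2), (47, 4), (48, 4), (50, 1)], [(2, 2), (3, 1), (4, 4), (5, 4), (6, 1), (7, 4), (8, 1), (9, 4), (10, 1), (11, 3), (13, 4), (14, 2), (15, 2), (16, 3), (17, 2), (18, 3), (19, 2), (20, 1), (21, 2), (23, 2), (24, 1), (25, 1), (26, 1), (27, 3), (28, 1), (30, 4), (31, 3), (32, 1), (33, 3), (34, 4), (35, 1), (37, 4), (38, 1), (40, 4), (41, 2), (43, 3), (47, 1), (48, 1), (50, 4)], [(3, 1), (4, 3), (5, 4), (9, 1), (10, 4), (12, 4), (13, 1), (16, 1), (17, 1), (19, 1), (23, 1), (24, 1), (30, 1), (31, 1), (44, 1), (45, 4), (46, 4)], [(3, 4), (4, 2), (7, 4), (8, 2), (10, 4), (11, 3), (12, 4), (13, 4), (14, 3), (15, 3), (16, 3), (17, 2), (18, 2), (19, 2), (20, 1), (21, 2), (23, 2), (25, 1), (27, 4), (28, 1), (29, 4), (30, 4), (31, 3), (32, 1), (33, 3), (34, 4), (35, 1), (36, 1), (37, 4), (38, 1), (40, 4), (41, 2), (43,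 3), (47, 1), (48, 1), (50, 4)], [(2, 1), (3, 1), (4, 4), (5, 2), (7, 3), (8, 2), (9, 4), (10, 3), (11, 4), (14, 2), (18, 2), (19, 4), (20, 4), (24, 4), (26, 1), (27, 2), (28, 2), (29, 4), (30, 3), (32, 1), (34, 4), (35, 2), (36, 1), (37, 4), (38, 1), (40, 4), (41, 2), (43, 3), (46, 1), (47, 1), (48, 1), (49, 4), (50, 4)], [(2, 4), (3, 4), (4, 4), (5, 3), (6, 4), (7, 4), (8, 1), (9, 4), (10, 2), (13, 4), (14, 3), (15, 1), (16, 3), (18, 3), (19, 4), (20, 1), (21, 2), (23, 2), (24, 2), (25, 1), (26, 3), (27, 3), (28, 4), (29, 4), (30, 3), (31, 1), (32, 1), (33, 1), (34, 1), (36, 1), (37, 4), (38, 4), (39, 3), (40, 2), (41, 2), (42, 4), (43, 3), (44, 3), (45, 3), (46, 1), (47, 4), (48, 1), (49, 3), (50, 2)], [(36, 1)], [(4, 4), (5, 4), (6, 4), (9, 1), (10, 4), (11, 2), (12, 3), (14, 1), (17, 1), (18, 1), (19, 4), (20, 1), (23, 1), (24, 1), (25, 1), (37, 4), (38, 1), (39, 1), (42,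 1), (44, 1), (47, 4), (48, 4), (51, 1)], [(2, 2), (3, 4), (4, 4), (5, 1), (6, 4), (7, 2), (8, 4), (10, 2), (11, 2), (12, 1), (14, 4), (15, 3), (16, 4), (17, 3), (18, 1), (19, 4), (21, 4), (24, 2), (25, 1), (30, 1), (31, 3), (32, 1), (33, 3), (37, 4), (38, 1), (39, 1), (40, 1), (41, 4), (43, 1), (44, 2), (45, 4), (46, 4), (47, 4), (48, 4), (51, 1)], [(5, 2), (6, 2), (7, 4), (11, 1), (12, 4), (14, 1), (16, 4), (17, 3), (19, 1), (21, 1), (23, 1), (24, 4), (25, 4), (37, 1), (38, 4), (39, 4), (40, 3), (41, 2), (42, 1), (43, 3), (44, 4), (47, 1), (48, 1), (51, 4)], [(2, 1), (4, 3), (5, 4), (6, 4), (8, 1), (9, 2), (10, 3), (11, 2), (12, 2), (14, 1), (16, 1), (17, 2), (18, 1), (19, 4), (20, 1), (23, 1), (24, 1), (25, 1), (37, 4), (38, 1), (39, 1), (40, 1), (41, 4), (44, 1), (47, 4), (48, 4), (51, 1)], [(4, 3), (5, 2), (6, 2), (7, 3), (8, 2), (9, 2), (11, 4), (12, 1), (13, 4), (14,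 2), (15, 3), (16, 3), (17, 1), (21, 4), (24, 1), (30, 1), (31, 3), (32, 1), (33, 3), (37, 1), (41, 4), (43, 1), (45, 4), (46, 4), (47, 4), (48, 4)], [(3, 3), (6, 1), (7, 4), (8, 2), (10, 1), (11, 3), (12, 4), (13, 4), (14, 4), (16, 2), (17, 4), (19, 3), (20, 2), (21, 1), (23, 2), (24, 1), (25, 1), (26, 4), (27, 3), (28, 3), (29, 4), (39, 1), (40, 1), (41, 3), (43, 1), (44, 1), (46, 4), (47, 4), (48, 4), (49, 1), (51, 1)], [(2, 2), (3, 1), (4, 3), (5, 4), (7, 2), (8, 2), (9, 1), (10, 3), (11, 1), (12, 1), (13, 1), (14, 2), (16, 4), (17, 3), (18, 4), (19, 2), (20, 4), (21, 4), (23, 4), (24, 4), (25, 4), (37, 1), (38, 4), (39, 4), (40, 4)], [(2, 3), (3, 1), (4, 4), (5, 3), (7, 3), (8, 3), (9, 1), (10, 3), (11, 3), (12, 3), (16, 2), (17, 1), (18, 4), (19, 3), (20, 3), (21, 3), (23, 3), (24, 4), (25, 4), (38, 4), (39, 4), (40, 4), (42, 2), (47, 4)], [(3, 1), (4, 3), (5, 3), (6,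 4), (7, 3), (8, 2), (9, 3), (10, 1), (12, 1), (13, 4), (14, 1), (15, 1), (16, 1), (17, 3), (18, 1), (19, 3), (20, 4), (21, 4), (24, 4), (26, 3), (27, 4), (28, 3), (30, 1), (31, 2), (32, 1), (33, 2), (34, 2), (35, 3), (38, 2), (39, 2), (40, 2), (42, 1), (44, 3), (45, 2), (46, 4), (47, 2), (50, 2)], [(2, 3), (3, 1), (4, 2), (5, 4), (6, 2), (7, 1), (8, 3), (9, 3), (10, 2), (11, 4), (12, 3), (14, 4), (16, 4), (17, 4)], [(2, 3), (3, 1), (4, 3), (5, 4), (6, 1), (7, 3), (8, 3), (9, 2), (10, 3), (12, 3), (13, 3), (15, 2), (16, 3), (17, 1), (18, 4), (19, 1), (20, 1), (23, 1), (24, 3), (26, 1), (28, 4), (29, 3), (31, 1), (32, 1), (33, 2), (34, 2), (35, 3), (38, 2), (39, 3), (40, 3), (41, 2), (42, 1), (43, 2), (44, 3), (45, 2), (46, 4), (47, 1), (48, 4), (49, 2), (50, 3), (51, 1)], [(2, 2), (4, 3), (5, 4), (6, 4), (7, 2), (8, 4), (10, 1), (11, 4), (12, 4), (13, 2), (14, 3), (15, 3),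 (17, 4), (18, 1), (19, 1), (20, 2), (21, 2), (23, 3), (24, 4), (26, 4), (27, 3), (28, 3), (29, 2), (30, 3), (31, 2), (32, 2), (33, 3), (34, 3), (35, 2), (36, 1), (48, 1)], [(49, 4)], [(2, 1), (5, 2), (6, 2), (7, 4), (9, 2), (10, 1), (12, 2), (13, 4), (14, 2), (15, 4), (17, 1), (18, 1), (20, 1), (21, 1), (23, 1), (24, 4), (25, 1), (26, 3), (27, 4), (28, 3), (31, 4), (32, 1), (33, 4), (34, 2), (35, 3), (38, 3), (39, 3), (40, 3), (42, 4), (44, 2), (45, 2), (47, 3), (50, 2)], [(51, 1)]]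

/-- Columns. -/
def g48 : List ℕ := mkCols [[(0, 4)], [(1, 4)], [(2, 4)], [(3, 4)], [(4, 4)], [(5, 4)], [(6, 4)], [(7, 4)], [(8, 4)], [(9, 4)], [(10, 4)], [(11, 4)], [(12, 4)], [(13, 4)], [(14, 4)], [(15, 4)], [(16, 4)], [(17, 4)], [(18, 4)], [(19, 4)], [(20, 4)], [(21, 4)], [(22, 4)], [(23, 4)], [(24, 4)], [(25, 4)], [(26, 4)], [(27, 4)], [(28, 4)], [(29, 4)], [(30, 4)], [(31, 4)], [(32, 4)], [(33, 4)], [(34, 4)], [(35, 4)], [(36, 4)], [(37, 4)], [(38, 4)], [(39, 4)], [(40, 4)], [(41, 4)], [(42, 4)], [(43, 4)], [(44, 4)], [(45, 4)], [(46, 4)], [(47, 4)], [(48, 4)], [(49, 4)], [(50, 4)], [(51, 4)]]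

/-- All the matrices. -/
def gens : List (List ℕ) := [g0, g1, g2, g3, g4, g5, g6, g7, g8, g9, g10, g11, g12, g13, g14, g15, g16, g17, g18, g19, g20, g21, g22, g23, g24, g25, g26, g27, g28, g29, g30, g31, g32, g33, g34, g35, g36, g37, g38, g39, g40, g41, g42, g43, g44, g45, g46, g47, g48]

/-- The low eight bits of every digit. -/
def mask : ℕ := 0x3fc00ff003fc00ff003fc00ff003fc00ff003fc00ff003fc00ff003fc00ff003fc00ff003fc00ff003fc00ff003fc00ff003fc00ff003fc00ff003fc00ff003fc00ff003fc00ff003fc00ff003fc00ff003fc00ff003fc00ff003fc00ff003fc00ff003fc00ff003fc00ff003fc00ff003fc00ff003fc00ff003fc00ff003fc00ff003fc00ff003fc00ff003fc00ff003fc00ff003fc00ff003fc00ff003fc00ff003fc00ff003fc00ff003fc00ff003fc00ff003fc00ff003fc00ff003fc00ff003fc00ff003fc00ff003fc00ff003fc00ff003fc00ff003fc00ff003fc00ff003fc00ff003fc00ff003fc00ff003fc00ff003fc00ff003fc00ff003fc00ff003fc00ff003fc00ff003f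c00ff003fc00ff003fc00ff003fc00ff003fc00ff003fc00ff003fc00ff003fc00ff003fc00ff003fc00ff003fc00ff003fc00ff003fc00ff003fc00ff003fc00ff003fc00ff003fc00ff003fc00ff003fc00ff003fc00ff003fc00ff003fc00ff003fc00ff003fc00ff003fc00ff003fc00ff003fc00ff003fc00ff003fc00ff003fc00ff003fc00ff003fc00ff003fc00ff003fc00ff003fc00ff003fc00ff003fc00ff003fc00ff003fc00ff003fc00ff003fc00ff003fc00ff003fc00ff003fc00ff003fc00ff003fc00ff003fc00ff003fc00ff003fc00ff003fc00ff003fc00ff003fc00ff003fc00ff003fc00ff003fc00ff003fc00ff003fc00ff003fc00ff003fc00ff003fc00ff003fc00ff003fc00ff003fc00ff003fc00ff003fc00ff003fc00ff003fc00ff003fc00ff003fc00ff003fc00ff003fc00ff003fc00ff003fc00ff003fc00ff003fc00ff003fc00ff003fc00ff003fc00ff003fc00ff003fc00ff003fc00ff003fc00ff003fc00ff003fc00ff003fc00ff003fc00ff003fc00ff003fc00ff003fc00ff003fc00ff003fc00ff003fc00ff003fc00ff003fc00ff003fc00ff003fc00ff003fc00ff003fc00ff003fc00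ff003fc00ff003fc00ff003fc00ff003fc00ff003fc00ff003fc00ff003fc00ff003fc00ff003fc00ff003fc00ff003fc00ff003fc00ff003fc00ff003fc00ff003fc00ff003fc00ff003fc00ff003fc00ff003fc00ff003fc00ff003fc00ff003fc00ff003fc00ff003fc00ff003fc00ff003fc00ff003fc00ff003fc00ff003fc00ff003fc00ff003fc00ff003fc00ff003fc00ff003fc00ff003fc00ff003fc00ff003fc00ff003fc00ff003fc00ff003fc00ff003fc00ff003fc00ff003fc00ff003fc00ff003fc00ff003fc00ff003fc00ff003fc00ff003fc00ff003fc00ff003fc00ff003fc00ff003fc00ff003fc00ff003fc00ff003fc00ff003fc00ff003fc00ff003fc00ff003fc00ff003fc00ff003fc00ff003fc00ff003fc00ff003fc00ff003fc00ff003fc00ff003fc00ff003fc00ff003fc00ff003fc00ff003fc00ff003fc00ff003fc00ff003fc00ff003fc00ff003fc00ff003fc00ff003fc00ff003fc00ff003fc00ff003fc00ff003fc00ff003fc00ff003fc00ff003fc00ff003fc00ff003fc00ff003fc00ff003fc00ff003fc00ff003fc00ff003fc00ff003fc00ff003fc00ff003fc00ff003fc00ff003fc00ff0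03fc00ff003fc00ff003fc00ff003fc00ff003fc00ff003fc00ff003fc00ff003fc00ff003fc00ff003fc00ff003fc00ff003fc00ff003fc00ff003fc00ff003fc00ff003fc00ff003fc00ff003fc00ff003fc00ff003fc00ff003fc00ff003fc00ff003fc00ff003fc00ff003fc00ff003fc00ff003fc00ff003fc00ff003fc00ff003fc00ff003fc00ff003fc00ff003fc00ff003fc00ff003fc00ff003fc00ff003fc00ff003fc00ff003fc00ff003fc00ff003fc00ff003fc00ff003fc00ff003fc00ff003fc00ff003fc00ff003fc00ff003fc00ff003fc00ff003fc00ff003fc00ff003fc00ff003fc00ff003fc00ff003fc00ff003fc00ff003fc00ff003fc00ff003fc00ff003fc00ff003fc00ff003fc00ff003fc00ff003fc00ff003fc00ff003fc00ff003fc00ff003fc00ff003fc00ff003fc00ff003fc00ff003fc00ff003fc00ff003fc00ff003fc00ff003fc00ff003fc00ff003fc00ff003fc00ff003fc00ff003fc00ff003fc00ff003fc00ff003fc00ff003fc00ff003fc00ff003fc00ff003fc00ff003fc00ff003fc00ff003fc00ff003fc00ff003fc00ff003fc00ff003fc00ff003fc00ff003fc00ff003fc00ff003f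c00ff003fc00ff003fc00ff003fc00ff003fc00ff003fc00ff003fc00ff003fc00ff003fc00ff003fc00ff003fc00ff003fc00ff003fc00ff003fc00ff003fc00ff003fc00ff003fc00ff003fc00ff003fc00ff003fc00ff003fc00ff003fc00ff003fc00ff003fc00ff003fc00ff003fc00ff003fc00ff003fc00ff003fc00ff003fc00ff003fc00ff003fc00ff003fc00ff003fc00ff003fc00ff003fc00ff003fc00ff003fc00ff003fc00ff003fc00ff003fc00ff003fc00ff003fc00ff003fc00ff003fc00ff003fc00ff003fc00ff003fc00ff003fc00ff003fc00ff003fc00ff003fc00ff003fc00ff003fc00ff003fc00ff003fc00ff003fc00ff003fc00ff003fc00ff003fc00ff003fc00ff003fc00ff003fc00ff003fc00ff003fc00ff003fc00ff003fc00ff003fc00ff003fc00ff003fc00ff003fc00ff003fc00ff003fc00ff003fc00ff003fc00ff003fc00ff003fc00ff003fc00ff003fc00ff003fc00ff003fc00ff003fc00ff003fc00ff003fc00ff003fc00ff003fc00ff003fc00ff003fc00ff003fc00ff003fc00ff003fc00ff003fc00ff003fc00ff003fc00ff003fc00ff003fc00ff003fc00ff003fc00ff003fc00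ff003fc00ff003fc00ff003fc00ff003fc00ff003fc00ff003fc00ff003fc00ff003fc00ff003fc00ff003fc00ff003fc00ff003fc00ff003fc00ff003fc00ff003fc00ff003fc00ff003fc00ff003fc00ff003fc00ff003fc00ff003fc00ff003fc00ff003fc00ff003fc00ff003fc00ff003fc00ff003fc00ff003fc00ff003fc00ff003fc00ff003fc00ff003fc00ff003fc00ff003fc00ff003fc00ff003fc00ff003fc00ff003fc00ff003fc00ff003fc00ff003fc00ff003fc00ff003fc00ff003fc00ff003fc00ff003fc00ff003fc00ff003fc00ff003fc00ff003fc00ff003fc00ff003fc00ff003fc00ff003fc00ff003fc00ff003fc00ff003fc00ff003fc00ff003fc00ff003fc00ff003fc00ff003fc00ff003fc00ff003fc00ff003fc00ff003fc00ff003fc00ff003fc00ff003fc00ff003fc00ff003fc00ff003fc00ff003fc00ff003fc00ff003fc00ff003fc00ff003fc00ff003fc00ff003fc00ff003fc00ff003fc00ff003fc00ff003fc00ff003fc00ff003fc00ff003fc00ff003fc00ff003fc00ff003fc00ff003fc00ff003fc00ff003fc00ff003fc00ff003fc00ff003fc00ff003fc00ff003fc00ff003fc00ff0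03fc00ff003fc00ff003fc00ff003fc00ff003fc00ff003fc00ff003fc00ff003fc00ff003fc00ff003fc00ff003fc00ff003fc00ff003fc00ff003fc00ff003fc00ff003fc00ff003fc00ff003fc00ff003fc00ff003fc00ff003fc00ff003fc00ff003fc00ff003fc00ff003fc00ff003fc00ff003fc00ff003fc00ff003fc00ff003fc00ff003fc00ff003fc00ff003fc00ff003fc00ff003fc00ff003fc00ff003fc00ff003fc00ff003fc00ff003fc00ff003fc00ff003fc00ff003fc00ff003fc00ff003fc00ff003fc00ff003fc00ff003fc00ff003fc00ff003fc00ff003fc00ff003fc00ff003fc00ff003fc00ff003fc00ff003fc00ff003fc00ff003fc00ff003fc00ff003fc00ff003fc00ff003fc00ff003fc00ff003fc00ff003fc00ff003fc00ff003fc00ff003fc00ff003fc00ff003fc00ff003fc00ff003fc00ff003fc00ff003fc00ff003fc00ff003fc00ff003fc00ff003fc00ff003fc00ff003fc00ff003fc00ff003fc00ff003fc00ff003fc00ff003fc00ff003fc00ff003fc00ff003fc00ff003fc00ff003fc00ff003fc00ff003fc00ff003fc00ff003fc00ff003fc00ff003fc00ff003fc00ff003fc00ff003f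c00ff003fc00ff003fc00ff003fc00ff003fc00ff003fc00ff003fc00ff003fc00ff003fc00ff003fc00ff003fc00ff003fc00ff003fc00ff003fc00ff003fc00ff003fc00ff003fc00ff003fc00ff003fc00ff003fc00ff003fc00ff003fc00ff003fc00ff003fc00ff003fc00ff003fc00ff003fc00ff003fc00ff003fc00ff003fc00ff003fc00ff003fc00ff003fc00ff003fc00ff003fc00ff003fc00ff003fc00ff003fc00ff003fc00ff003fc00ff003fc00ff003fc00ff003fc00ff003fc00ff003fc00ff003fc00ff003fc00ff003fc00ff003fc00ff003fc00ff003fc00ff003fc00ff003fc00ff003fc00ff003fc00ff003fc00ff003fc00ff003fc00ff003fc00ff003fc00ff003fc00ff003fc00ff003fc00ff003fc00ff003fc00ff003fc00ff003fc00ff003fc00ff003fc00ff003fc00ff003fc00ff003fc00ff003fc00ff003fc00ff003fc00ff003fc00ff003fc00ff003fc00ff003fc00ff003fc00ff003fc00ff003fc00ff003fc00ff003fc00ff003fc00ff003fc00ff003fc00ff003fc00ff003fc00ff003fc00ff003fc00ff003fc00ff003fc00ff003fc00ff003fc00ff003fc00ff003fc00ff003fc00ff003fc00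ff003fc00ff003fc00ff003fc00ff003fc00ff003fc00ff003fc00ff003fc00ff003fc00ff003fc00ff003fc00ff003fc00ff003fc00ff003fc00ff003fc00ff003fc00ff003fc00ff003fc00ff003fc00ff003fc00ff003fc00ff003fc00ff003fc00ff003fc00ff003fc00ff003fc00ff003fc00ff003fc00ff003fc00ff003fc00ff003fc00ff003fc00ff003fc00ff003fc00ff003fc00ff003fc00ff003fc00ff003fc00ff003fc00ff003fc00ff003fc00ff003fc00ff003fc00ff003fc00ff003fc00ff003fc00ff003fc00ff003fc00ff003fc00ff003fc00ff003fc00ff003fc00ff003fc00ff003fc00ff003fc00ff003fc00ff003fc00ff003fc00ff003fc00ff003fc00ff003fc00ff003fc00ff003fc00ff003fc00ff003fc00ff003fc00ff003fc00ff003fc00ff003fc00ff003fc00ff003fc00ff003fc00ff003fc00ff003fc00ff003fc00ff003fc00ff003fc00ff003fc00ff003fc00ff003fc00ff003fc00ff003fc00ff003fc00ff003fc00ff003fc00ff003fc00ff003fc00ff003fc00ff003fc00ff003fc00ff003fc00ff003fc00ff003fc00ff003fc00ff003fc00ff003fc00ff003fc00ff003fc00ff003fc00ff0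03fc00ff003fc00ff003fc00ff003fc00ff003fc00ff003fc00ff003fc00ff003fc00ff003fc00ff003fc00ff003fc00ff003fc00ff003fc00ff003fc00ff003fc00ff003fc00ff003fc00ff003fc00ff003fc00ff003fc00ff003fc00ff003fc00ff003fc00ff003fc00ff003fc00ff003fc00ff003fc00ff003fc00ff003fc00ff003fc00ff003fc00ff003fc00ff003fc00ff003fc00ff003fc00ff003fc00ff003fc00ff003fc00ff003fc00ff003fc00ff003fc00ff003fc00ff003fc00ff003fc00ff003fc00ff003fc00ff003fc00ff003fc00ff003fc00ff003fc00ff003fc00ff003fc00ff003fc00ff003fc00ff003fc00ff003fc00ff003fc00ff003fc00ff003fc00ff003fc00ff003fc00ff003fc00ff003fc00ff003fc00ff003fc00ff003fc00ff003fc00ff003fc00ff003fc00ff003fc00ff003fc00ff003fc00ff003fc00ff003fc00ff003fc00ff003fc00ff003fc00ff003fc00ff003fc00ff003fc00ff003fc00ff003fc00ff003fc00ff003fc00ff003fc00ff003fc00ff003fc00ff003fc00ff003fc00ff003fc00ff003fc00ff003fc00ff003fc00ff003fc00ff003fc00ff003fc00ff003fc00ff003fc00ff003f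c00ff003fc00ff003fc00ff003fc00ff003fc00ff003fc00ff003fc00ff003fc00ff003fc00ff003fc00ff003fc00ff003fc00ff003fc00ff003fc00ff003fc00ff003fc00ff003fc00ff003fc00ff003fc00ff003fc00ff003fc00ff003fc00ff003fc00ff003fc00ff003fc00ff003fc00ff003fc00ff003fc00ff003fc00ff003fc00ff003fc00ff003fc00ff003fc00ff003fc00ff003fc00ff003fc00ff003fc00ff003fc00ff003fc00ff003fc00ff003fc00ff003fc00ff003fc00ff003fc00ff003fc00ff003fc00ff003fc00ff003fc00ff003fc00ff003fc00ff003fc00ff003fc00ff003fc00ff003fc00ff003fc00ff003fc00ff003fc00ff003fc00ff003fc00ff003fc00ff003fc00ff003fc00ff003fc00ff003fc00ff003fc00ff003fc00ff003fc00ff003fc00ff003fc00ff003fc00ff003fc00ff003fc00ff003fc00ff003fc00ff003fc00ff003fc00ff003fc00ff003fc00ff003fc00ff003fc00ff003fc00ff003fc00ff003fc00ff003fc00ff003fc00ff003fc00ff003fc00ff003fc00ff003fc00ff003fc00ff003fc00ff003fc00ff003fc00ff003fc00ff003fc00ff003fc00ff003fc00ff003fc00ff003fc00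ff003fc00ff003fc00ff003fc00ff003fc00ff003fc00ff003fc00ff003fc00ff003fc00ff003fc00ff003fc00ff003fc00ff003fc00ff003fc00ff003fc00ff003fc00ff003fc00ff003fc00ff003fc00ff003fc00ff003fc00ff003fc00ff003fc00ff003fc00ff003fc00ff003fc00ff003fc00ff003fc00ff003fc00ff003fc00ff003fc00ff003fc00ff003fc00ff003fc00ff003fc00ff003fc00ff003fc00ff003fc00ff003fc00ff003fc00ff003fc00ff003fc00ff003fc00ff003fc00ff003fc00ff003fc00ff003fc00ff003fc00ff003fc00ff003fc00ff003fc00ff003fc00ff003fc00ff003fc00ff003fc00ff003fc00ff003fc00ff003fc00ff003fc00ff003fc00ff003fc00ff003fc00ff003fc00ff003fc00ff003fc00ff003fc00ff003fc00ff003fc00ff003fc00ff003fc00ff003fc00ff003fc00ff003fc00ff003fc00ff003fc00ff003fc00ff003fc00ff003fc00ff003fc00ff003fc00ff003fc00ff003fc00ff003fc00ff003fc00ff003fc00ff003fc00ff003fc00ff003fc00ff003fc00ff003fc00ff003fc00ff003fc00ff003fc00ff003fc00ff003fc00ff003fc00ff003fc00ff003fc00ff003fc00ff0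03fc00ff003fc00ff003fc00ff003fc00ff003fc00ff003fc00ff003fc00ff003fc00ff003fc00ff003fc00ff003fc00ff003fc00ff003fc00ff003fc00ff003fc00ff003fc00ff003fc00ff003fc00ff003fc00ff003fc00ff003fc00ff003fc00ff003fc00ff003fc00ff003fc00ff003fc00ff003fc00ff003fc00ff003fc00ff003fc00ff003fc00ff003fc00ff003fc00ff003fc00ff003fc00ff003fc00ff003fc00ff003fc00ff003fc00ff003fc00ff003fc00ff003fc00ff003fc00ff003fc00ff003fc00ff003fc00ff003fc00ff003fc00ff003fc00ff003fc00ff003fc00ff003fc00ff003fc00ff003fc00ff003fc00ff003fc00ff003fc00ff003fc00ff003fc00ff003fc00ff003fc00ff003fc00ff003fc00ff003fc00ff003fc00ff003fc00ff003fc00ff003fc00ff003fc00ff003fc00ff003fc00ff003fc00ff003fc00ff003fc00ff003fc00ff003fc00ff003fc00ff003fc00ff003fc00ff003fc00ff003fc00ff003fc00ff003fc00ff003fc00ff003fc00ff003fc00ff003fc00ff003fc00ff003fc00ff003fc00ff003fc00ff003fc00ff003fc00ff003fc00ff003fc00ff003fc00ff003fc00ff003fc00ff003f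c00ff003fc00ff003fc00ff003fc00ff003fc00ff003fc00ff003fc00ff003fc00ff003fc00ff003fc00ff003fc00ff003fc00ff003fc00ff003fc00ff003fc00ff003fc00ff003fc00ff003fc00ff003fc00ff003fc00ff003fc00ff003fc00ff003fc00ff003fc00ff003fc00ff003fc00ff003fc00ff003fc00ff003fc00ff003fc00ff003fc00ff003fc00ff003fc00ff003fc00ff003fc00ff003fc00ff003fc00ff003fc00ff003fc00ff003fc00ff003fc00ff003fc00ff003fc00ff003fc00ff003fc00ff003fc00ff003fc00ff003fc00ff003fc00ff003fc00ff003fc00ff003fc00ff003fc00ff003fc00ff003fc00ff003fc00ff003fc00ff003fc00ff003fc00ff003fc00ff003fc00ff003fc00ff003fc00ff003fc00ff003fc00ff003fc00ff003fc00ff003fc00ff003fc00ff003fc00ff003fc00ff003fc00ff003fc00ff003fc00ff003fc00ff003fc00ff003fc00ff003fc00ff003fc00ff003fc00ff003fc00ff003fc00ff003fc00ff003fc00ff003fc00ff003fc00ff003fc00ff003fc00ff003fc00ff003fc00ff003fc00ff003fc00ff003fc00ff003fc00ff003fc00ff003fc00ff003fc00ff003fc00ff003fc00ff003fc00ff003fc00ff003fc00ff003fc00ff003fc00ff003fc00ff003fc00ff003fc00ff003fc00ff003fc00ff003fc00ff003fc00ff003fc00ff003fc00ff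

/-- The identity matrix. -/
def idN : ℕ := 0x4000000000000000000000000000000000000000000000000000000000000000000000000000000000000000000000000000000000000000000000000000000000000000000000000000000000000000000000000000000000000000000000000000000000000000000000000000000000000000000000100000000000000000000000000000000000000000000000000000000000000000000000000000000000000000000000000000000000000000000000000000000000000000000000000000000000000000000000000000000000000000000000000000000000000000000000000000000000000000000004000000000000000000000000000000000000000000000000000000000000000000000000000000000000000000000000000000000000000000000000000000000000000000000000000000000000000000000000000000000000000000000000000000000000000000000000000000000000000000000100000000000000000000000000000000000000000000000000000000000000000000000000000000000000000000000000000000000000000000000000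000000000000000000000000000000000000000000000000000000000000000000000000000000000000000000000000000000000000000000004000000000000000000000000000000000000000000000000000000000000000000000000000000000000000000000000000000000000000000000000000000000000000000000000000000000000000000000000000000000000000000000000000000000000000000000000000000000000000000000100000000000000000000000000000000000000000000000000000000000000000000000000000000000000000000000000000000000000000000000000000000000000000000000000000000000000000000000000000000000000000000000000000000000000000000000000000000000000000000004000000000000000000000000000000000000000000000000000000000000000000000000000000000000000000000000000000000000000000000000000000000000000000000000000000000000000000000000000000000000000000000000000000000000000000000000000000000000000000000100000000000000000000000000000000000000000000000000000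000000000000000000000000000000000000000000000000000000000000000000000000000000000000000000000000000000000000000000000000000000000000000000000000000000000000000000000000000000000000000004000000000000000000000000000000000000000000000000000000000000000000000000000000000000000000000000000000000000000000000000000000000000000000000000000000000000000000000000000000000000000000000000000000000000000000000000000000000000000000000100000000000000000000000000000000000000000000000000000000000000000000000000000000000000000000000000000000000000000000000000000000000000000000000000000000000000000000000000000000000000000000000000000000000000000000000000000000000000000000004000000000000000000000000000000000000000000000000000000000000000000000000000000000000000000000000000000000000000000000000000000000000000000000000000000000000000000000000000000000000000000000000000000000000000000000000000000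000000000000000100000000000000000000000000000000000000000000000000000000000000000000000000000000000000000000000000000000000000000000000000000000000000000000000000000000000000000000000000000000000000000000000000000000000000000000000000000000000000000000004000000000000000000000000000000000000000000000000000000000000000000000000000000000000000000000000000000000000000000000000000000000000000000000000000000000000000000000000000000000000000000000000000000000000000000000000000000000000000000000100000000000000000000000000000000000000000000000000000000000000000000000000000000000000000000000000000000000000000000000000000000000000000000000000000000000000000000000000000000000000000000000000000000000000000000000000000000000000000000004000000000000000000000000000000000000000000000000000000000000000000000000000000000000000000000000000000000000000000000000000000000000000000000000000000000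000000000000000000000000000000000000000000000000000000000000000000000000000000000000100000000000000000000000000000000000000000000000000000000000000000000000000000000000000000000000000000000000000000000000000000000000000000000000000000000000000000000000000000000000000000000000000000000000000000000000000000000000000000000004000000000000000000000000000000000000000000000000000000000000000000000000000000000000000000000000000000000000000000000000000000000000000000000000000000000000000000000000000000000000000000000000000000000000000000000000000000000000000000000100000000000000000000000000000000000000000000000000000000000000000000000000000000000000000000000000000000000000000000000000000000000000000000000000000000000000000000000000000000000000000000000000000000000000000000000000000000000000000000004000000000000000000000000000000000000000000000000000000000000000000000000000000000000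000000000000000000000000000000000000000000000000000000000000000000000000000000000000000000000000000000000000000000000000000000000000000000000000000000000100000000000000000000000000000000000000000000000000000000000000000000000000000000000000000000000000000000000000000000000000000000000000000000000000000000000000000000000000000000000000000000000000000000000000000000000000000000000000000000004000000000000000000000000000000000000000000000000000000000000000000000000000000000000000000000000000000000000000000000000000000000000000000000000000000000000000000000000000000000000000000000000000000000000000000000000000000000000000000000100000000000000000000000000000000000000000000000000000000000000000000000000000000000000000000000000000000000000000000000000000000000000000000000000000000000000000000000000000000000000000000000000000000000000000000000000000000000000000000004000000000000000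000000000000000000000000000000000000000000000000000000000000000000000000000000000000000000000000000000000000000000000000000000000000000000000000000000000000000000000000000000000000000000000000000000000000000000000000000000100000000000000000000000000000000000000000000000000000000000000000000000000000000000000000000000000000000000000000000000000000000000000000000000000000000000000000000000000000000000000000000000000000000000000000000000000000000000000000000004000000000000000000000000000000000000000000000000000000000000000000000000000000000000000000000000000000000000000000000000000000000000000000000000000000000000000000000000000000000000000000000000000000000000000000000000000000000000000000000100000000000000000000000000000000000000000000000000000000000000000000000000000000000000000000000000000000000000000000000000000000000000000000000000000000000000000000000000000000000000000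000000000000000000000000000000000000000000000000000004000000000000000000000000000000000000000000000000000000000000000000000000000000000000000000000000000000000000000000000000000000000000000000000000000000000000000000000000000000000000000000000000000000000000000000000000000000000000000000000100000000000000000000000000000000000000000000000000000000000000000000000000000000000000000000000000000000000000000000000000000000000000000000000000000000000000000000000000000000000000000000000000000000000000000000000000000000000000000000004000000000000000000000000000000000000000000000000000000000000000000000000000000000000000000000000000000000000000000000000000000000000000000000000000000000000000000000000000000000000000000000000000000000000000000000000000000000000000000000100000000000000000000000000000000000000000000000000000000000000000000000000000000000000000000000000000000000000000000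000000000000000000000000000000000000000000000000000000000000000000000000000000000000000000000000000000000000000000000000004000000000000000000000000000000000000000000000000000000000000000000000000000000000000000000000000000000000000000000000000000000000000000000000000000000000000000000000000000000000000000000000000000000000000000000000000000000000000000000000100000000000000000000000000000000000000000000000000000000000000000000000000000000000000000000000000000000000000000000000000000000000000000000000000000000000000000000000000000000000000000000000000000000000000000000000000000000000000000000004000000000000000000000000000000000000000000000000000000000000000000000000000000000000000000000000000000000000000000000000000000000000000000000000000000000000000000000000000000000000000000000000000000000000000000000000000000000000000000000100000000000000000000000000000000000000000000000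000000000000000000000000000000000000000000000000000000000000000000000000000000000000000000000000000000000000000000000000000000000000000000000000000000000000000000000000000000000000000000000004000000000000000000000000000000000000000000000000000000000000000000000000000000000000000000000000000000000000000000000000000000000000000000000000000000000000000000000000000000000000000000000000000000000000000000000000000000000000000000000100000000000000000000000000000000000000000000000000000000000000000000000000000000000000000000000000000000000000000000000000000000000000000000000000000000000000000000000000000000000000000000000000000000000000000000000000000000000000000000004000000000000000000000000000000000000000000000000000000000000000000000000000000000000000000000000000000000000000000000000000000000000000000000000000000000000000000000000000000000000000000000000000000000000000000000000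000000000000000000000100000000000000000000000000000000000000000000000000000000000000000000000000000000000000000000000000000000000000000000000000000000000000000000000000000000000000000000000000000000000000000000000000000000000000000000000000000000000000000000004000000000000000000000000000000000000000000000000000000000000000000000000000000000000000000000000000000000000000000000000000000000000000000000000000000000000000000000000000000000000000000000000000000000000000000000000000000000000000000000100000000000000000000000000000000000000000000000000000000000000000000000000000000000000000000000000000000000000000000000000000000000000000000000000000000000000000000000000000000000000000000000000000000000000000000000000000000000000000000004000000000000000000000000000000000000000000000000000000000000000000000000000000000000000000000000000000000000000000000000000000000000000000000000000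000000000000000000000000000000000000000000000000000000000000000000000000000000000000000000100000000000000000000000000000000000000000000000000000000000000000000000000000000000000000000000000000000000000000000000000000000000000000000000000000000000000000000000000000000000000000000000000000000000000000000000000000000000000000000004000000000000000000000000000000000000000000000000000000000000000000000000000000000000000000000000000000000000000000000000000000000000000000000000000000000000000000000000000000000000000000000000000000000000000000000000000000000000000000000100000000000000000000000000000000000000000000000000000000000000000000000000000000000000000000000000000000000000000000000000000000000000000000000000000000000000000000000000000000000000000000000000000000000000000000000000000000000000000000004000000000000000000000000000000000000000000000000000000000000000000000000000000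000000000000000000000000000000000000000000000000000000000000000000000000000000000000000000000000000000000000000000000000000000000000000000000000000000000000000100000000000000000000000000000000000000000000000000000000000000000000000000000000000000000000000000000000000000000000000000000000000000000000000000000000000000000000000000000000000000000000000000000000000000000000000000000000000000000000004000000000000000000000000000000000000000000000000000000000000000000000000000000000000000000000000000000000000000000000000000000000000000000000000000000000000000000000000000000000000000000000000000000000000000000000000000000000000000000000100000000000000000000000000000000000000000000000000000000000000000000000000000000000000000000000000000000000000000000000000000000000000000000000000000000000000000000000000000000000000000000000000000000000000000000000000000000000000000000004000000000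0000000000000000000000000000000000000000000000000000000000000000000000000000000000000000000000000000000000000000000000000000000000000000000000000000000000000000000000000000000000000000000000000000000000000000000000000000000000001000000000000000000000000000000000000000000000000000000000000000000000000000000000000000000000000000000000000000000000000000000000000000000000000000000000000000000000000000000000000000000000000000000000000000000000000000000000000000000000040000000000000000000000000000000000000000000000000000000000000000000000000000000000000000000000000000000000000000000000000000000000000000000000000000000000000000000000000000000000000000000000000000000000000000000000000000000000000000000001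

end CfsgLib.Schur.FFourTwo.Cov
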