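import Mathlib
import Cfsg.Agent.Lib.Schur.FFourTwo.CoverData

/-!
# Products of matrices over the field with five elements carried out on packed numbers

A matrix is the number with its entries, row by row, as digits in base `2 ^ 18`; a left factor is given by its
columns, each with digits in base `2 ^ 936`.
-/

set_option autoImplicit false

namespace CfsgLib.Schur.FFourTwo.Cov

open Finset Matrix

/-- A digit. -/
def dig (w N i : ℕ) : ℕ := N / 2 ^ (w * i) % 2 ^ w

/-- Digits packed. -/
def pkd (w : ℕ) (f : ℕ → ℕ) : ℕ → ℕ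
  | 0 => 0
  | n + 1 => pkd w f n + f n * 2 ^ (w * n)

/-- The sum of the columns times the rows. -/
def sumP : List ℕ → ℕ → ℕ
  | [], _ => 0
  | c :: cs, N => c * (N % 2 ^ 936) + sumP cs (N >>> 936)

/-- Every digit reduced modulo five. -/
def red (X : ℕ) : ℕ := X - 5 * (((X * 205) >>> 10) &&& mask)

/-- The product. -/
def mulG (cs : List ℕ) (N : ℕ) : ℕ := red (sumP cs N)

/-- The product of a word in the listed matrices. -/
def prodG (l : List ℕ) : ℕ := l.foldr (fun i acc => mulG (gens.getD i []) acc) idN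

theorem pkd_eq_sum (w : ℕ) (f : ℕ → ℕ) : ∀ n, pkd w f n = ∑ i ∈ range n, f i * 2 ^ (w * i)
  | 0 => rfl
  | n + 1 => by rw [pkd, pkd_eq_sum w f n, sum_range_succ]

theorem pkd_congr {w : ℕ} {f g : ℕ → ℕ} {n : ℕ} (h : ∀ i < n, f i = g i) : pkd w f n = pkd w g n := by
  rw [pkd_eq_sum, pkd_eq_sum]
  exact sum_congr rfl fun i hi => by rw [h i (mem_range.1 hi)]

theorem pkd_lt {w : ℕ} {f : ℕ → ℕ} : ∀ {n : ℕ}, (∀ i < n, f i < 2 ^ w) → pkd w f n < 2 ^ (w * n)
  | 0, _ => Nat.two_pow_pos _
  | n + 1, h => by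
    have h1 := pkd_lt (n := n) fun i hi => h i (Nat.lt_succ_of_lt hi)
    have h2 : (f n + 1) * 2 ^ (w * n) ≤ 2 ^ w * 2 ^ (w * n) := Nat.mul_le_mul_right _ (h n (Nat.lt_succ_self n))
    rw [Nat.mul_succ, pow_add, mul_comm (2 ^ (w * n)), pkd]
    rw [add_mul, one_mul] at h2
    omega

theorem dig_pkd {w : ℕ} {f : ℕ → ℕ} : ∀ {n i : ℕ}, (∀ i < n, f i < 2 ^ w) → i < n → dig w (pkd w f n) i = f i
  | 0, _, _, h => absurd h (Nat.not_lt_zero _)
  | n + 1, i, hf, hi => by
    rcases (Nat.lt_succ_iff_lt_or_eq.1 hi) with h | rfl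
    · obtain ⟨d, rfl⟩ := Nat.exists_eq_add_of_lt h
      rw [dig, pkd, show f (i + d + 1) * 2 ^ (w * (i + d + 1)) = 2 ^ (w * i) * (2 ^ w * (f (i + d + 1) * 2 ^ (w * d))) by
        rw [show w * (i + d + 1) = w * i + (w + w * d) by ring, pow_add, pow_add]; ring,
        Nat.add_mul_div_left _ _ (Nat.two_pow_pos _), Nat.add_mul_mod_self_left]
      exact dig_pkd (fun j hj => hf j (Nat.lt_succ_of_lt hj)) h
    · rw [dig, pkd, mul_comm (f i), Nat.add_mul_div_left _ _ (Nat.two_pow_pos _),
        Nat.div_eq_of_lt (pkd_lt fun j hj => hf j (Nat.lt_succ_of_lt hj)), Nat.zero_add,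
        Nat.mod_eq_of_lt (hf i (Nat.lt_succ_self i))]

theorem pkd_dig (w N : ℕ) : ∀ n, pkd w (dig w N) n = N % 2 ^ (w * n)
  | 0 => by simp [pkd, Nat.mod_one]
  | n + 1 => by rw [pkd, pkd_dig w N n, Nat.mul_succ, pow_add, Nat.mod_mul, dig, mul_comm (N / _ % _)]

theorem sumP_eq : ∀ (cs : List ℕ) (N : ℕ),
    sumP cs N = ∑ k ∈ range cs.length, cs.getD k 0 * dig 936 N k
  | [], _ => rfl
  | c :: cs, N => by
    rw [sumP, sumP_eq cs, List.length_cons, sum_range_succ', add_comm]
    refine congrArg₂ (· + ·) (sum_congr rfl fun k _ => ?_) (by rw [dig, mul_zero, pow_zero, Nat.div_one]; rfl)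
    rw [List.getD_cons_succ, dig, dig, Nat.shiftRight_eq_div_pow, Nat.div_div_eq_div_mul, ← pow_add,
      show 936 + 936 * k = 936 * (k + 1) by ring]

theorem row_eq (N k : ℕ) : dig 936 N k = pkd 18 (fun j => dig 18 N (52 * k + j)) 52 := by
  have : (fun j => dig 18 N (52 * k + j)) = dig 18 (N / 2 ^ (936 * k)) := by
    funext j
    rw [dig, dig, Nat.div_div_eq_div_mul, ← pow_add, show 936 * k + 18 * j = 18 * (52 * k + j) by ring]
  rw [this, pkd_dig, dig]

theorem pkd_outer (a b : ℕ → ℕ) : ∀ n,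
    pkd 936 a n * pkd 18 b 52 = pkd 18 (fun m => a (m / 52) * b (m % 52)) (52 * n)
  | 0 => by simp [pkd]
  | n + 1 => by
    rw [pkd, add_mul, pkd_outer a b n, pkd_eq_sum, pkd_eq_sum, pkd_eq_sum, Nat.mul_succ, sum_range_add]
    refine congrArg _ ?_
    rw [mul_sum]
    refine sum_congr rfl fun j hj => ?_
    have hj' := mem_range.1 hj
    rw [show (52 * n + j) / 52 = n by omega, show (52 * n + j) % 52 = j by omega,
      show 18 * (52 * n + j) = 936 * n + 18 * j by ring, pow_add]
    ring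

/-- An entry of a left factor. -/
def ent (cs : List ℕ) (i k : ℕ) : ℕ := dig 936 (cs.getD k 0) i

/-- The columns are good. -/
def gOK (cs : List ℕ) : Bool :=
  decide (cs.length = 52) && (List.range 52).all fun k =>
    Nat.blt (cs.getD k 0) (2 ^ (936 * 52)) && (List.range 52).all fun i => Nat.ble (ent cs i k) 4

/-- The identity and the mask are as they should be. -/
def constOK : Bool :=
  Nat.beq mask (pkd 18 (fun _ => 255) 2704) &&
    Nat.beq idN (pkd 18 (fun m => if m / 52 = m % 52 then 1 else 0) 2704)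

/-- All digits are reduced. -/
def Low (N : ℕ) : Prop := ∀ m < 2704, dig 18 N m ≤ 4

/-- The matrix of a number. -/
def mat (N : ℕ) : Matrix (Fin 52) (Fin 52) (ZMod 5) := Matrix.of fun i j => (dig 18 N (52 * i.val + j.val) : ZMod 5)

/-- The matrix of columns. -/
def gmat (cs : List ℕ) : Matrix (Fin 52) (Fin 52) (ZMod 5) := Matrix.of fun i k => (ent cs i.val k.val : ZMod 5)

theorem testBit_pkd {w : ℕ} {f : ℕ → ℕ} {n m l : ℕ} (hf : ∀ i < n, f i < 2 ^ w) (hm : m < n) (hl : l < w) :
    Nat.testBit (pkd w f n) (w * m + l) = Nat.testBit (f m) l := by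
  conv_rhs => rw [← dig_pkd hf hm, dig, Nat.testBit_mod_two_pow, Nat.testBit_div_two_pow]
  simp [hl, add_comm]

theorem red_pkd (hc : constOK = true) {c : ℕ → ℕ} (h : ∀ m < 2704, c m < 1024) :
    red (pkd 18 c 2704) = pkd 18 (fun m => c m % 5) 2704 := by
  simp only [constOK, Bool.and_eq_true, Nat.beq_eq] at hc
  have hb : ∀ m < 2704, c m * 205 < 2 ^ 18 := fun m hm => by have := h m hm; omega
  have hq : ((pkd 18 c 2704 * 205) >>> 10) &&& mask = pkd 18 (fun m => c m * 205 / 1024) 2704 := by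
    have hqb : ∀ m < 2704, c m * 205 / 1024 < 2 ^ 18 := fun m hm => by have := h m hm; omega
    have e : pkd 18 c 2704 * 205 = pkd 18 (fun m => c m * 205) 2704 := by
      rw [pkd_eq_sum, pkd_eq_sum, sum_mul]
      exact sum_congr rfl fun i _ => by ring
    rw [e, hc.1]
    refine Nat.eq_of_testBit_eq fun p => ?_
    rw [Nat.testBit_and, Nat.testBit_shiftRight]
    by_cases hp : p / 18 < 2704
    · rw [show p = 18 * (p / 18) + p % 18 by omega, testBit_pkd (fun _ _ => by norm_num) hp (Nat.mod_lt _ (by norm_num)),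
        testBit_pkd hqb hp (Nat.mod_lt _ (by norm_num))]
      by_cases hl : p % 18 < 8
      · rw [show 10 + (18 * (p / 18) + p % 18) = 18 * (p / 18) + (10 + p % 18) by omega,
          testBit_pkd hb hp (by omega), show (255 : ℕ) = 2 ^ 8 - 1 by rfl, Nat.testBit_two_pow_sub_one]
        rw [show (1024 : ℕ) = 2 ^ 10 by rfl, Nat.testBit_div_two_pow, add_comm 10]
        simp [hl]
      · have h255 : Nat.testBit 255 (p % 18) = false :=
          Nat.testBit_lt_two_pow (lt_of_lt_of_le (show 255 < 2 ^ 8 by norm_num) (Nat.pow_le_pow_right (by norm_num) (by omega)))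
        have hsm : Nat.testBit (c (p / 18) * 205 / 1024) (p % 18) = false :=
          Nat.testBit_lt_two_pow (lt_of_lt_of_le (show _ < 2 ^ 8 by have := h _ hp; omega)
            (Nat.pow_le_pow_right (by norm_num) (by omega)))
        rw [h255, hsm, Bool.and_false]
    · have hbig : ∀ f : ℕ → ℕ, (∀ m < 2704, f m < 2 ^ 18) → Nat.testBit (pkd 18 f 2704) p = false := fun f hf =>
        Nat.testBit_lt_two_pow (lt_of_lt_of_le (pkd_lt hf) (Nat.pow_le_pow_right (by norm_num) (by omega)))
      rw [hbig (fun _ => 255) (fun _ _ => by norm_num), hbig _ hqb, Bool.and_false]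
  rw [red, hq]
  refine Nat.sub_eq_of_eq_add ?_
  rw [pkd_eq_sum, pkd_eq_sum, pkd_eq_sum, mul_sum, ← sum_add_distrib]
  refine sum_congr rfl fun m hm => ?_
  have := h m (mem_range.1 hm)
  have e : c m * 205 / 1024 = c m / 5 := by omega
  rw [e, ← mul_assoc, ← add_mul, Nat.mod_add_div]

theorem mulG_spec (hc : constOK = true) {cs : List ℕ} (hg : gOK cs = true) {N : ℕ} (hN : Low N) :
    Low (mulG cs N) ∧ mat (mulG cs N) = gmat cs * mat N := by
  simp only [gOK, Bool.and_eq_true, decide_eq_true_eq, List.all_eq_true, List.mem_range, Nat.blt_eq,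
    Nat.ble_eq] at hg
  obtain ⟨hlen, hg⟩ := hg
  set c : ℕ → ℕ := fun m => ∑ k ∈ range 52, ent cs (m / 52) k * dig 18 N (52 * k + m % 52) with hcdef
  have hsum : sumP cs N = pkd 18 c 2704 := by
    rw [sumP_eq, hlen, pkd_eq_sum, hcdef]
    simp only [sum_mul]
    rw [sum_comm]
    refine sum_congr rfl fun k hk => ?_
    obtain ⟨hlt, -⟩ := hg k (mem_range.1 hk)
    have hcol : cs.getD k 0 = pkd 936 (fun i => ent cs i k) 52 :=
      ((pkd_dig 936 (cs.getD k 0) 52).trans (Nat.mod_eq_of_lt hlt)).symm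
    rw [hcol, row_eq, pkd_outer, pkd_eq_sum]
  have hb : ∀ m < 2704, c m < 1024 := by
    intro m hm
    have : c m ≤ ∑ _k ∈ range 52, 16 := sum_le_sum fun k hk => by
      have h1 := (hg k (mem_range.1 hk)).2 (m / 52) (by omega)
      have h2 := hN (52 * k + m % 52) (by have := mem_range.1 hk; omega)
      exact Nat.mul_le_mul h1 h2
    simp only [sum_const, card_range, smul_eq_mul] at this
    omega
  have hr : ∀ m < 2704, dig 18 (mulG cs N) m = c m % 5 := fun m hm => by
    rw [mulG, hsum, red_pkd hc hb]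
    exact dig_pkd (fun i _ => (Nat.mod_lt _ (by norm_num)).trans (by norm_num)) hm
  refine ⟨fun m hm => by rw [hr m hm]; omega, ?_⟩
  ext i j
  simp only [mat, gmat, Matrix.mul_apply, Matrix.of_apply]
  rw [hr _ (by have := i.2; have := j.2; omega), ZMod.natCast_mod, hcdef]
  simp only
  rw [show (52 * i.val + j.val) / 52 = i.val by omega, show (52 * i.val + j.val) % 52 = j.val by omega,
    Finset.sum_range, Nat.cast_sum]
  exact Finset.sum_congr rfl fun k _ => Nat.cast_mul _ _

theorem low_idN (hc : constOK = true) : Low idN ∧ mat idN = 1 := by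
  simp only [constOK, Bool.and_eq_true, Nat.beq_eq] at hc
  have h : ∀ m < 2704, dig 18 idN m = if m / 52 = m % 52 then 1 else 0 := fun m hm => by
    rw [hc.2]
    exact dig_pkd (fun i _ => by split_ifs <;> norm_num) hm
  refine ⟨fun m hm => by rw [h m hm]; split_ifs <;> norm_num, ?_⟩
  ext i j
  rw [mat, Matrix.of_apply, h _ (by have := i.2; have := j.2; omega),
    show (52 * i.val + j.val) / 52 = i.val by omega, show (52 * i.val + j.val) % 52 = j.val by omega,
    Matrix.one_apply]
  by_cases e : i = j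
  · subst e; simp
  · simp [e, Fin.val_ne_of_ne e]

theorem prodG_spec (hc : constOK = true) (hg : gens.all gOK = true) : ∀ l : List ℕ,
    (∀ i ∈ l, i < gens.length) →
    Low (prodG l) ∧ mat (prodG l) = (l.map fun i => gmat (gens.getD i [])).prod
  | [], _ => by simpa [prodG] using low_idN hc
  | i :: l, h => by
    obtain ⟨h1, h2⟩ := prodG_spec hc hg l fun j hj => h j (List.mem_cons_of_mem _ hj)
    have hi := h i List.mem_cons_self
    have hgi : gOK (gens.getD i []) = true := by
      rw [List.getD_eq_getElem _ _ hi]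
      exact List.all_eq_true.1 hg _ (List.getElem_mem hi)
    obtain ⟨h3, h4⟩ := mulG_spec hc hgi h1
    refine ⟨h3, ?_⟩
    rw [List.map_cons, List.prod_cons, ← h2]
    exact h4

end CfsgLib.Schur.FFourTwo.Cov
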