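import Cfsg.Prelude.Def_ChevF4
import Cfsg.Prelude.Def_ChevStructure
import Cfsg.Agent.Lib.Schur.FFourTwo.Digits
import Cfsg.Agent.Lib.Schur.FFourTwo.CoverRows

/-!
Kernel checks of the relations of the double cover of F₄(2).
-/

set_option autoImplicit false
set_option maxRecDepth 100000
set_option maxHeartbeats 0

namespace CfsgLib.Schur.FFourTwo.Cov

open Cfsg.Lie

/-- The terms of a commutator with odd coefficient. -/
def terms (r s : ℕ) : List ℕ :=
  (chevF4.commTerms r s).filterMap fun c => if c.2.1 % 2 = 1 then some c.1 else none

/-- The product of a word, the last factor being looked up. -/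
def prodH : List ℕ → ℕ
  | [] => idN
  | [i] => rowsN.getD i 0
  | i :: l => mulG (gens.getD i []) (prodH l)

/-- Two words agree up to sign. -/
def eqS (u v : List ℕ) : Bool := Nat.beq (prodH u) (prodH v) || Nat.beq (prodH u) (prodH (48 :: v))

/-- One commutator relation, with the roots commuting when there is no term. -/
def relOK (r s : ℕ) : Bool :=
  Nat.beq s r || (Nat.beq s (chevF4.neg r) ||
    ((chevF4.commTerms r s).all (fun c => Nat.blt c.1 48 && (Nat.blt 0 c.2.2.1 && Nat.blt 0 c.2.2.2)) &&
      (if (terms r s).isEmpty then eqS [s, r] [r, s] else eqS [s, r, s, r] (terms r s))))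

theorem rows_ok : ((List.range 49).all fun i => Nat.beq (rowsN.getD i 0) (prodG [i])) = true := by decide +kernel

theorem base_ok : constOK = true ∧ gens.all gOK = true ∧ gens.length = 49 := by decide +kernel

theorem sign_ok : Nat.beq (prodG [48, 48]) (prodG []) = true ∧ Nat.beq (prodG [48]) (prodG []) = false := by
  decide +kernel

theorem sq_ok : ((List.range 48).all fun r => Nat.beq (prodG [r, r]) (prodG [])) = true := by decide +kernel

theorem h_ok : ((List.range 48).all fun r => Nat.blt (chevF4.neg r) 48 &&
    eqS [r, chevF4.neg r, r, r, chevF4.neg r, r] []) = true := by decide +kernel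

theorem rel_ok0 : ((List.range 8).all fun r => (List.range 48).all (relOK (0 + r))) = true := by decide +kernel

theorem rel_ok1 : ((List.range 8).all fun r => (List.range 48).all (relOK (8 + r))) = true := by decide +kernel

theorem rel_ok2 : ((List.range 8).all fun r => (List.range 48).all (relOK (16 + r))) = true := by decide +kernel

theorem rel_ok3 : ((List.range 8).all fun r => (List.range 48).all (relOK (24 + r))) = true := by decide +kernel

theorem rel_ok4 : ((List.range 8).all fun r => (List.range 48).all (relOK (32 + r))) = true := by decide +kernel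

theorem rel_ok5 : ((List.range 8).all fun r => (List.range 48).all (relOK (40 + r))) = true := by decide +kernel

theorem wit_ok : terms 0 29 = [3, 6] ∧ terms 7 14 = [3] ∧ terms 1 32 = [6] ∧
    Nat.beq (prodG ([29, 0, 29, 0] ++ [32, 1, 32, 1].reverse ++ [14, 7, 14, 7].reverse)) (prodG [48]) = true := by
  decide +kernel

theorem neg_ok : ((List.range 52).all fun i => (List.range 52).all fun k =>
    Nat.beq (ent (gens.getD 48 []) i k) (if i = k then 4 else 0)) = true := by decide +kernel

end CfsgLib.Schur.FFourTwo.Cov
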