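import Cfsg.Agent.Lib.KnownA.SteinbergMultiplier
import Cfsg.Agent.Lib.KnownA.SteinbergPLift

/-!
Over a field of characteristic `p` a stem extension of a Chevalley group whose presented cover has trivial centre
has no kernel at the other primes.
-/

set_option autoImplicit false

namespace CfsgLib.Schur.FFourTwo

open CfsgLib.Chevalley CfsgLib.Chevalley.Tbl CfsgLib.KnownA.SteinbergUniv Subgroup

universe u v

theorem factorization_ne_char {T : Tbl} {F : Type u} [Field F] [Finite F] {p : ℕ} [Fact p.Prime] [CharP F p]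
    (hO : T.StOk) (hK : ∀ r < T.n, T.isK r = true) {W : List (List ℕ)} (hW : chkWords T W = true)
    (hbot : Subgroup.center (T.datum.SteinbergGroup F) = ⊥)
    (Γ : Type v) [Group Γ] [Finite Γ] (σ : Γ →* ↥(T.datum.group F)) (hσ : Cfsg.IsStemExtension σ)
    {l : ℕ} (hl : l ≠ p) : (Nat.card σ.ker).factorization l = 0 := by
  classical
  by_cases hlp : l.Prime
  swap
  · exact Nat.factorization_eq_zero_of_not_prime _ hlp
  haveI := Fact.mk hlp
  letI : CommGroup σ.ker :=
    { (inferInstance : Group σ.ker) with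
      mul_comm := fun a b => Subtype.ext (mem_center_iff.1 (hσ.2.1 b.2) a.1) }
  set n := Nat.card σ.ker
  set m := n / p ^ n.factorization p with hm
  have hn : n ≠ 0 := Nat.card_pos.ne'
  have hpm : Nat.Coprime p m := Nat.coprime_ordCompl Fact.out hn
  let N : Subgroup Γ := (powMonoidHom m : σ.ker →* σ.ker).range.map σ.ker.subtype
  have hNle : N ≤ σ.ker := by
    rintro _ ⟨k, -, rfl⟩
    exact k.2
  haveI : N.Normal := ⟨fun a ha g => by
    rw [mem_center_iff.mp (hσ.2.1 (hNle ha)) g]
    simpa using ha⟩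
  let σ' : Γ ⧸ N →* ↥(T.datum.group F) := QuotientGroup.lift N σ hNle
  have hker' : ∀ z : Γ ⧸ N, σ' z = 1 → ∃ a ∈ σ.ker, z = QuotientGroup.mk a := by
    intro z hz
    induction z using QuotientGroup.induction_on with
    | _ a => exact ⟨a, hz, rfl⟩
  have hc' : σ'.ker ≤ center (Γ ⧸ N) := fun z hz => by
    obtain ⟨a, ha, rfl⟩ := hker' z hz
    rw [mem_center_iff]
    intro y
    induction y using QuotientGroup.induction_on with
    | _ b => exact congrArg (QuotientGroup.mk (s := N)) (mem_center_iff.mp (hσ.2.1 ha) b)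
  let c : Cov T F (Γ ⧸ N) :=
    { π := (T.datum.group F).subtype.comp σ'
      ker_le := fun z hz => hc' (Subtype.ext hz)
      le_range := fun g hg => by
        obtain ⟨z, hz⟩ := hσ.1 ⟨g, hg⟩
        exact ⟨QuotientGroup.mk z, congrArg Subtype.val hz⟩ }
  have hpow : ∀ z, c.π z = 1 → z ^ m = 1 := fun z hz => by
    obtain ⟨a, ha, rfl⟩ := hker' z (Subtype.ext hz)
    rw [← QuotientGroup.mk_pow, QuotientGroup.eq_one_iff]
    exact ⟨⟨a, ha⟩ ^ m, ⟨⟨a, ha⟩, rfl⟩, rfl⟩
  obtain ⟨φ, hφ, -⟩ := (yLiftP c hO.valid hpm hpow hO.comm hW).exists_stLift hO.valid hO.comm hK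
  have hcomp : σ'.comp φ = stProj hO := MonoidHom.ext fun x => Subtype.ext (DFunLike.congr_fun hφ x)
  have hsup := CfsgLib.Schur.Basic.range_sup_center_eq_top (stProj (F := F) hO)
    (stProj_surjective hO) σ' hc' φ hcomp
  have hall : ∀ a ∈ σ.ker, a ∈ N := by
    intro a ha
    have hmem : (QuotientGroup.mk' N a) ∈ commutator (Γ ⧸ N) := by
      have hle : (commutator Γ).map (QuotientGroup.mk' N) ≤ commutator (Γ ⧸ N) := by
        rw [_root_.commutator_def, _root_.commutator_def, map_commutator]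
        exact commutator_mono le_top le_top
      exact hle ⟨a, hσ.2.2 ha, rfl⟩
    obtain ⟨x, -, hx⟩ := CfsgLib.Schur.Basic.commutator_le_map_of_sup_center φ hsup hmem
    have hx1 : x ∈ (stProj (F := F) hO).ker := by
      rw [MonoidHom.mem_ker, ← hcomp, MonoidHom.comp_apply, hx]
      exact ha
    rw [stProj_ker hO, hbot, Subgroup.mem_bot] at hx1
    rw [hx1, map_one] at hx
    exact (QuotientGroup.eq_one_iff a).1 hx.symm
  have hsurj : Function.Surjective (powMonoidHom m : σ.ker →* σ.ker) := fun a => by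
    obtain ⟨k, ⟨b, hb⟩, hk⟩ := hall a.1 a.2
    exact ⟨b, hb.trans (Subtype.ext hk)⟩
  refine Nat.factorization_eq_zero_of_not_dvd fun hd => ?_
  obtain ⟨z, hz⟩ := exists_prime_orderOf_dvd_card' (G := σ.ker) l hd
  have hlm : l ∣ m := by
    have h : l ∣ p ^ n.factorization p * m := by rw [hm, Nat.ordProj_mul_ordCompl_eq_self]; exact hd
    rcases hlp.dvd_mul.1 h with h | h
    · exact absurd ((Nat.prime_dvd_prime_iff_eq hlp Fact.out).1 (hlp.dvd_of_dvd_pow h)) hl
    · exact h
  have hz1 : z = 1 := (Finite.injective_iff_surjective.2 hsurj) <| by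
    show z ^ m = 1 ^ m
    rw [one_pow, ← orderOf_dvd_iff_pow_eq_one, hz]; exact hlm
  rw [hz1, orderOf_one] at hz
  exact hlp.one_lt.ne hz

end CfsgLib.Schur.FFourTwo
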