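import Cfsg.Agent.Lib.Schur.FFourTwo.TwoBound
import Cfsg.Agent.Lib.Schur.FFourTwo.OddBound
import Cfsg.Agent.Lib.Schur.FFourTwo.Cover
import Cfsg.Agent.Lib.KnownA.SteinbergCert.G2F4
import Cfsg.Agent.Lib.Chevalley.Data.SmithCerts
import Mathlib.GroupTheory.SpecificGroups.Cyclic

/-!
The multiplier of F₄(2) has order two.
-/

set_option autoImplicit false
set_option maxRecDepth 100000

namespace CfsgLib.Schur.FFourTwo

open Cfsg.Lie CfsgLib.Chevalley CfsgLib.Chevalley.Tbl CfsgLib.KnownA.SteinbergUniv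

universe u v

variable {F : Type u} [Field F] [Fintype F]

theorem stOk : Data.F4.tbl.StOk :=
  ⟨Data.F4.valid, Data.F4.chkComm, Data.F4.chkSorted, Data.F4.chkSplit⟩

theorem chkWords_ok : chkWords Data.F4.tbl f4Words = true := by decide +kernel

theorem center_eq_bot : Subgroup.center (Data.F4.tbl.datum.SteinbergGroup F) = ⊥ :=
  Tbl.center_eq_bot stOk (Tbl.torusHom_injective_of_smith stOk.valid Data.F4.chkSmith (by decide))

theorem exists_iso : Finite (chevF4.SteinbergGroup F) ∧
    Nonempty (chevF4.SteinbergGroup F ≃* ↥(chevF4.group F)) := by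
  rw [← Data.F4.datum_eq]
  refine ⟨finite_steinbergGroup stOk, ⟨MulEquiv.ofBijective (stProj stOk)
    ⟨(MonoidHom.ker_eq_bot_iff _).1 ((stProj_ker stOk).trans center_eq_bot), stProj_surjective stOk⟩⟩⟩

theorem factorization_odd (hF : Fintype.card F = 2) (Γ : Type v) [Group Γ] [Finite Γ] (σ : Γ →* ↥(chevF4.group F))
    (hσ : Cfsg.IsStemExtension σ) {l : ℕ} (hl : l ≠ 2) : (Nat.card σ.ker).factorization l = 0 := by
  haveI := Fact.mk Nat.prime_two
  haveI : CharP F 2 := by
    haveI := ringChar.charP F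
    have hp : (ringChar F).Prime := CharP.char_is_prime F _
    have hd : ringChar F ∣ 2 := by
      rw [← CharP.cast_eq_zero_iff F (ringChar F), Nat.cast_two]; exact two_eq_zero hF
    rw [← (Nat.prime_dvd_prime_iff_eq hp Nat.prime_two).1 hd]; infer_instance
  revert σ hσ
  rw [← Data.F4.datum_eq]
  intro σ hσ
  exact factorization_ne_char stOk (allLt_iff.mp f4_isK) chkWords_ok center_eq_bot Γ σ hσ hl

theorem hasMultiplier (hF : Fintype.card F = 2) : Cfsg.HasCyclicSchurMultiplier ↥(chevF4.group F) 2 := by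
  haveI : Fact (Nat.Prime 2) := ⟨Nat.prime_two⟩
  obtain ⟨hfin, ⟨e⟩⟩ := exists_iso (F := F)
  haveI : Finite ↥(chevF4.group F) := Finite.of_equiv _ e.toEquiv
  have hker : (e.toMonoidHom.comp (Cov.proj hF)).ker = (Cov.proj hF).ker := by
    ext x; simp
  have hk : Nat.card (e.toMonoidHom.comp (Cov.proj hF)).ker = 2 := by rw [hker, Cov.card_ker hF]
  refine Basic.hasSchurMultiplier_of_le (e.toMonoidHom.comp (Cov.proj hF))
    ⟨e.surjective.comp (Cov.proj_surjective hF), hker.le.trans (Cov.ker_le_center hF),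
      hker.le.trans (Cov.ker_le_commutator hF)⟩
    (mulEquivOfPrimeCardEq (p := 2) hk (by simp [Nat.card_eq_fintype_card]))
    fun Δ _ _ τ hτ => le_trans (Tails.card_ker_le τ hτ two_ne_zero fun p hp _ => ?_)
      (le_of_eq (by simp [Nat.card_eq_fintype_card]))
  by_cases h2 : p = 2
  · subst h2
    rw [Nat.prime_two.factorization_self]
    exact factorization_two hF Δ τ hτ
  · rw [factorization_odd hF Δ τ hτ h2]
    exact Nat.zero_le _

end CfsgLib.Schur.FFourTwo
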