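import Cfsg.Agent.Lib.Schur.FFourTwo.Check
import Cfsg.Agent.Lib.Schur.FFourTwo.CheckBase
import Cfsg.Agent.S1062

/-!
The 2-part of the multiplier of F₄(2) has order at most two.
-/

set_option autoImplicit false
set_option maxRecDepth 100000

namespace CfsgLib.Schur.FFourTwo

open Cfsg.Lie CfsgLib.Sporadic.OutCert CfsgLib.Schur.Tails

universe u v

variable {F : Type v} [Field F] [Fintype F] (hF : Fintype.card F = 2)

include hF in
theorem card_group : Nat.card ↥(chevF4.group F) = 3311126603366400 := by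
  rw [Cfsg.Agent.S1062.result hF]; norm_num

attribute [local irreducible] lk pkF Mat.mapp Mat.mmul

theorem base_mem : ∀ i < 28, ∃ q, Mat.RepM 52 (slpTab.getD i (Mat.oneM 52)) (psi hF q) := by
  intro k hk
  obtain ⟨hb, hr, hlen⟩ := base_ok
  have hk' : k < baseRoots.length := hlen ▸ hk
  have hlt : baseRoots.getD k 0 < chevF4.nroots := by
    rw [List.getD_eq_getElem _ _ hk']
    exact of_decide_eq_true (List.all_eq_true.1 hr _ (List.getElem_mem hk'))
  set r : Fin chevF4.nroots := ⟨baseRoots.getD k 0, hlt⟩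
  have hmem : ∀ (D : ChevalleyDatum), CfsgLib.Chevalley.Data.F4.tbl.datum = D → ∀ r : Fin D.nroots,
      ∃ g : ↥(D.group F), ((g : GL D.Idx F) : Matrix _ _ F) = D.xMat F r 1 := by
    intro D hD r
    subst hD
    refine ⟨⟨CfsgLib.Chevalley.Data.F4.tbl.xU F r.val 1,
      CfsgLib.Chevalley.Tbl.xU_mem_group CfsgLib.Chevalley.Data.F4.valid r.2 1⟩, ?_⟩
    exact (CfsgLib.Chevalley.Tbl.xU_val CfsgLib.Chevalley.Data.F4.valid r.2 1).trans
      (CfsgLib.Chevalley.Tbl.xMat_eq CfsgLib.Chevalley.Data.F4.valid F r 1).symm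
  obtain ⟨g, hg⟩ := hmem chevF4 CfsgLib.Chevalley.Data.F4.datum_eq r
  refine ⟨g, rep_of_entries hF g fun i j => ?_⟩
  have h1 := List.all_eq_true.1 hb k (List.mem_range.2 hk)
  have h2 := List.all_eq_true.1 h1 (lin j) (List.mem_range.2 (lin_lt j))
  rw [Bool.or_eq_true] at h2
  have h3 : xN (baseRoots.getD k 0) (lin i) (lin j) % 2 =
      if Nat.testBit (lk 52 (slpTab.getD k 0) (lin j)) (lin i) then 1 else 0 :=
    h2.elim xN_of_trivCol fun h => of_decide_eq_true (List.all_eq_true.1 h (lin i) (List.mem_range.2 (lin_lt i)))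
  have hd : slpTab.getD k (Mat.oneM 52) = slpTab.getD k 0 := by
    have hs : k < slpTab.length := by
      have := slp_ok
      simp only [Mat.slpM, Bool.and_eq_true, decide_eq_true_eq] at this
      omega
    rw [List.getD_eq_getElem _ _ hs, List.getD_eq_getElem _ _ hs]
  rw [hd, hg, xMat_one, intCast_eq hF, h3]
  cases Nat.testBit (lk 52 (slpTab.getD k 0) (lin j)) (lin i) <;> simp

include hF in
theorem factorization_two (Γ : Type u) [Group Γ] [Finite Γ] (σ : Γ →* ↥(chevF4.group F))
    (hσ : Cfsg.IsStemExtension σ) : (Nat.card σ.ker).factorization 2 ≤ 1 := by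
  haveI := Fact.mk Nat.prime_two
  obtain ⟨hs, hDp, hr, ha, hb, hq⟩ := cert_shape
  have hslp := Mat.exists_slp (psi hF) (base_mem hF) slp_ok
  have := Mat.factorization_of_mat (psi hF) (psi_injective hF) cert dense
    (Mat.exists_pick (psi hF) hslp pick_ok.1) (Mat.exists_pick (psi hF) hslp pick_ok.2)
    cert_eqs cert_comb hs rels_ok.1 rels_ok.2 (p := 2) hDp hr ha chain_ok.1 chain_ok.2
    (c₀ := 197358525) (card_group hF) (by norm_num) (by norm_num) (by rw [hq]; norm_num) Γ σ hσ
  rwa [hb, Nat.prime_two.factorization_self] at this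

end CfsgLib.Schur.FFourTwo
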